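import Groth.Agent.DSites.DCat
import Groth.Prelude.Def_CohCx

/-!
# Derived limits and triangulated functors preserving products
-/

set_option autoImplicit false

universe w v u w' v' u'

open CategoryTheory CategoryTheory.Limits Pretriangulated DerivedCategory

namespace Groth.Agent.DSites

section Map

variable {T : Type u} [Category.{v} T] [Preadditive T] [HasZeroObject T] [HasShift T ℤ]
  [∀ n : ℤ, (shiftFunctor T n).Additive] [Pretriangulated T]
  {T' : Type u'} [Category.{v'} T'] [Preadditive T'] [HasZeroObject T'] [HasShift T' ℤ]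
  [∀ n : ℤ, (shiftFunctor T' n).Additive] [Pretriangulated T']
  (F : T ⥤ T') [F.CommShift ℤ] [F.IsTriangulated]

/-- A triangulated functor preserving the product carries derived limits to derived limits. -/
theorem isRlimVia_map (K : ℕ → T) (t : ∀ n, K (n + 1) ⟶ K n) [HasProduct K]
    [HasProduct fun n => F.obj (K n)] [PreservesLimit (Discrete.functor K) F]
    (L : T) (a : ∀ n, L ⟶ K n) (hL : CohCx.IsRlimVia K t L a) :
    CohCx.IsRlimVia (fun n => F.obj (K n)) (fun n => F.map (t n)) (F.obj L) (fun n => F.map (a n)) := by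
  obtain ⟨c, h⟩ := hL
  let φ := PreservesProduct.iso F K
  have hπ : ∀ n, φ.hom ≫ Pi.π (fun n => F.obj (K n)) n = F.map (Pi.π K n) := fun n =>
    piComparison_comp_π F K n
  let g := Pi.lift fun n => Pi.π K n - Pi.π K (n + 1) ≫ t n
  refine ⟨φ.inv ≫ F.map c ≫ (F.commShiftIso (1 : ℤ)).hom.app L,
    isomorphic_distinguished _ (F.map_distinguished _ h) _ ?_⟩
  refine (Triangle.isoMk (F.mapTriangle.obj (Triangle.mk (Pi.lift a) g c))
    (Triangle.mk (Pi.lift fun n => F.map (a n))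
      (Pi.lift fun n => Pi.π (fun n => F.obj (K n)) n - Pi.π (fun n => F.obj (K n)) (n + 1) ≫ F.map (t n))
      (φ.inv ≫ F.map c ≫ (F.commShiftIso (1 : ℤ)).hom.app L)) (Iso.refl _) φ φ ?_ ?_ ?_).symm
  · refine Pi.hom_ext _ _ fun n => ?_
    show (F.map (Pi.lift a) ≫ φ.hom) ≫ Pi.π (fun n => F.obj (K n)) n =
      (𝟙 (F.obj L) ≫ Pi.lift fun n => F.map (a n)) ≫ Pi.π (fun n => F.obj (K n)) n
    rw [Category.assoc, hπ, ← F.map_comp, Category.id_comp, Pi.lift_π, Pi.lift_π]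
  · refine Pi.hom_ext _ _ fun n => ?_
    show (F.map g ≫ φ.hom) ≫ Pi.π (fun n => F.obj (K n)) n = (φ.hom ≫
      Pi.lift fun n => Pi.π (fun n => F.obj (K n)) n - Pi.π (fun n => F.obj (K n)) (n + 1) ≫ F.map (t n)) ≫
      Pi.π (fun n => F.obj (K n)) n
    rw [Category.assoc, hπ, ← F.map_comp, Category.assoc, Pi.lift_π, Pi.lift_π,
      Preadditive.comp_sub, hπ, ← Category.assoc, hπ, ← F.map_comp, ← F.map_sub]
  · show (F.map c ≫ (F.commShiftIso (1 : ℤ)).hom.app L) ≫ (𝟙 (F.obj L))⟦(1 : ℤ)⟧' =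
      φ.hom ≫ φ.inv ≫ F.map c ≫ (F.commShiftIso (1 : ℤ)).hom.app L
    erw [CategoryTheory.Functor.map_id, Category.comp_id, Iso.hom_inv_id_assoc]

end Map

section Rlim

variable {T : Type u} [Category.{v} T] [Preadditive T] [HasZeroObject T] [HasShift T ℤ]
  [∀ n : ℤ, (shiftFunctor T n).Additive] [Pretriangulated T]
  (K : ℕ → T) (t : ∀ n, K (n + 1) ⟶ K n) [HasProduct K]

/-- A derived limit exists, and receives a map from every cone over the tower. -/
lemma exists_rlim_lift {E : T} (b : ∀ n, E ⟶ K n) (hb : ∀ n, b (n + 1) ≫ t n = b n) :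
    ∃ (L : T) (a : ∀ n, L ⟶ K n) (e : E ⟶ L), CohCx.IsRlimVia K t L a ∧
      (∀ n, e ≫ a n = b n) ∧ (IsIso e → CohCx.IsRlimVia K t E b) := by
  let d : ∏ᶜ K ⟶ ∏ᶜ K := Pi.lift fun n => Pi.π K n - Pi.π K (n + 1) ≫ t n
  obtain ⟨L, p, δ, hT⟩ := distinguished_cocone_triangle₁ d
  let a : ∀ n, L ⟶ K n := fun n => p ≫ Pi.π K n
  have hp : Pi.lift a = p := Pi.hom_ext _ _ fun n => Pi.lift_π _ _
  obtain ⟨e, he⟩ : ∃ e : E ⟶ L, Pi.lift b = e ≫ p :=
    Triangle.coyoneda_exact₂ _ hT (Pi.lift b) (Pi.hom_ext _ _ fun n => by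
      show (Pi.lift b ≫ d) ≫ Pi.π K n = 0 ≫ Pi.π K n
      simp only [d, Category.assoc, Pi.lift_π, Preadditive.comp_sub, zero_comp]
      rw [sub_eq_zero, ← Category.assoc]
      exact (hb n).symm.trans (congrArg (· ≫ t n) (Pi.lift_π b (n + 1)).symm))
  refine ⟨L, a, e, ⟨δ, by rw [hp]; exact hT⟩, fun n => ?_, fun _ => ?_⟩
  · rw [← Category.assoc, ← he, Pi.lift_π]
  let eI : E ≅ L := asIso e
  refine ⟨δ ≫ eI.inv⟦(1 : ℤ)⟧', isomorphic_distinguished _ hT _
    (Triangle.isoMk _ _ eI (Iso.refl _) (Iso.refl _) ?_ ?_ ?_)⟩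
  · exact (Category.comp_id _).trans he
  · exact (Category.comp_id _).trans (Category.id_comp _).symm
  · show (δ ≫ eI.inv⟦(1 : ℤ)⟧') ≫ eI.hom⟦(1 : ℤ)⟧' = 𝟙 _ ≫ δ
    rw [Category.assoc, ← Functor.map_comp, Iso.inv_hom_id, CategoryTheory.Functor.map_id,
      Category.comp_id, Category.id_comp]

end Rlim

end Groth.Agent.DSites
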