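import Groth.Agent.H9Misc.TFactor
import Groth.Prelude.Def_WeakSerre

/-!
# Cohomology, truncations and dévissage in derived categories
-/

set_option autoImplicit false

universe w v u w' v' u'

open CategoryTheory CategoryTheory.Limits Pretriangulated DerivedCategory

namespace Groth.Agent.DSites

variable {A : Type u} [Category.{v} A] [Abelian A] [HasDerivedCategory.{w} A]

local notation "tS" => (DerivedCategory.TStructure.t (C := A))
local notation "H" => DerivedCategory.homologyFunctor A

/-- The first map of a triangle is an isomorphism in a degree where the third term has no cohomology. -/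
lemma isIso_H_mor₁ (T : Triangle (DerivedCategory A)) (hT : T ∈ distinguishedTriangles) (q : ℤ)
    (h0 : IsZero ((H (q - 1)).obj T.obj₃)) (h1 : IsZero ((H q).obj T.obj₃)) :
    IsIso ((H q).map T.mor₁) := by
  have : Mono ((H q).map T.mor₁) :=
    (HomologySequence.mono_homologyMap_mor₁_iff _ hT (q - 1) q).2 (h0.eq_of_src _ _)
  have : Epi ((H q).map T.mor₁) :=
    (HomologySequence.epi_homologyMap_mor₁_iff _ hT q).2 (h1.eq_of_tgt _ _)
  exact isIso_of_mono_of_epi _

/-- The second map of a triangle is an isomorphism in a degree where the first term has no cohomology. -/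
lemma isIso_H_mor₂ (T : Triangle (DerivedCategory A)) (hT : T ∈ distinguishedTriangles) (q : ℤ)
    (h0 : IsZero ((H q).obj T.obj₁)) (h1 : IsZero ((H (q + 1)).obj T.obj₁)) :
    IsIso ((H q).map T.mor₂) := by
  have : Mono ((H q).map T.mor₂) :=
    (HomologySequence.mono_homologyMap_mor₂_iff _ hT q).2 (h0.eq_of_src _ _)
  have : Epi ((H q).map T.mor₂) :=
    (HomologySequence.epi_homologyMap_mor₂_iff _ hT q (q + 1)).2 (h1.eq_of_tgt _ _)
  exact isIso_of_mono_of_epi _

/-- The cohomology of the middle term of a triangle stays in a property closed under kernels,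
cokernels and extensions. -/
lemma prop_H_obj₂ (P : ObjectProperty A) [WSerre.IsWeakSerre P]
    (T : Triangle (DerivedCategory A)) (hT : T ∈ distinguishedTriangles)
    (h1 : WSerre.cohIn P T.obj₁) (h3 : WSerre.cohIn P T.obj₃) : WSerre.cohIn P T.obj₂ := by
  intro i
  let f := (H i).map T.mor₁
  let g := (H i).map T.mor₂
  let δ₀ := HomologySequence.δ T (i - 1) i
  let δ₁ := HomologySequence.δ T i (i + 1)
  -- the image of `g` is the kernel of `δ₁`, its kernel the cokernel of `δ₀`
  have e₁ := (HomologySequence.exact₁ T hT (i - 1) i)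
  have e₂ := (HomologySequence.exact₂ T hT i)
  have e₃ := (HomologySequence.exact₃ T hT i (i + 1))
  have hc : P (cokernel δ₀) :=
    P.prop_of_isColimit_cokernelCofork (k := CokernelCofork.ofπ _ (cokernel.condition δ₀)) (cokernelIsCokernel δ₀) (h3 (i - 1)) (h1 i)
  have hk : P (kernel δ₁) :=
    P.prop_of_isLimit_kernelFork (k := KernelFork.ofι _ (kernel.condition δ₁)) (kernelIsKernel δ₁) (h3 i) (h1 (i + 1))
  have hw₁ : δ₀ ≫ f = 0 := HomologySequence.δ_comp T hT (i - 1) i
  have hw₃ : g ≫ δ₁ = 0 := HomologySequence.comp_δ T hT i (i + 1)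
  have hfg : f ≫ g = 0 := by
    rw [← Functor.map_comp, comp_distTriang_mor_zero₁₂ _ hT, Functor.map_zero]
  let a := cokernel.desc δ₀ f hw₁
  let b := kernel.lift δ₁ g hw₃
  have hab : a ≫ b = 0 := by
    rw [← cancel_epi (cokernel.π δ₀), ← cancel_mono (kernel.ι δ₁)]
    simp [a, b, hfg]
  have : Mono a := e₁.mono_cokernelDesc
  have : Epi b := e₃.epi_kernelLift
  have hS : (ShortComplex.mk a b hab).ShortExact := by
    refine ShortComplex.ShortExact.mk' ?_ inferInstance inferInstance
    let φ : ShortComplex.mk f g hfg ⟶ ShortComplex.mk a g (by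
        rw [← cancel_epi (cokernel.π δ₀)]; simp [a, hfg]) :=
      { τ₁ := cokernel.π δ₀, τ₂ := 𝟙 _, τ₃ := 𝟙 _ }
    have h' : (ShortComplex.mk a g _).Exact := (ShortComplex.exact_iff_of_epi_of_isIso_of_mono φ).1 e₂
    let ψ : ShortComplex.mk a b hab ⟶ ShortComplex.mk a g (by
        rw [← cancel_epi (cokernel.π δ₀)]; simp [a, hfg]) :=
      { τ₁ := 𝟙 _, τ₂ := 𝟙 _, τ₃ := kernel.ι δ₁ }
    exact (ShortComplex.exact_iff_of_epi_of_isIso_of_mono ψ).2 h'
  exact P.prop_X₂_of_shortExact hS hc hk

/-- Cohomology in a class closed under isomorphisms is invariant under isomorphisms. -/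
lemma cohIn_of_iso (P : ObjectProperty A) [P.IsClosedUnderIsomorphisms] {X Y : DerivedCategory A}
    (e : X ≅ Y) (h : WSerre.cohIn P X) : WSerre.cohIn P Y :=
  fun i => P.prop_of_iso ((H i).mapIso e) (h i)

/-- Cohomology in a class is invariant under shifts. -/
lemma cohIn_shift (P : ObjectProperty A) [P.IsClosedUnderIsomorphisms] {X : DerivedCategory A}
    (h : WSerre.cohIn P X) (n : ℤ) : WSerre.cohIn P (X⟦n⟧) :=
  fun i => P.prop_of_iso (((H 0).shiftIso n i (n + i) rfl).app X).symm (h _)

lemma cohIn_single (P : ObjectProperty A) [P.IsClosedUnderIsomorphisms] [P.ContainsZero] {M : A}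
    (h : P M) (n : ℤ) : WSerre.cohIn P ((singleFunctor A n).obj M) := fun i => by
  by_cases hi : i = n
  · subst hi
    exact P.prop_of_iso ((singleFunctorCompHomologyFunctorIso A i).app M).symm h
  · obtain ⟨Z, hZ, hPZ⟩ := P.exists_prop_of_containsZero
    refine P.prop_of_iso (hZ.iso ?_) hPZ
    rcases lt_or_gt_of_ne hi with h' | h'
    · exact isZero_of_isGE _ n i h'
    · exact isZero_of_isLE _ n i h'

lemma cohIn_truncGE (P : ObjectProperty A) [P.IsClosedUnderIsomorphisms] [P.ContainsZero]
    {X : DerivedCategory A} (h : WSerre.cohIn P X) (n : ℤ) :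
    WSerre.cohIn P (((tS).truncGE n).obj X) := fun i => by
  by_cases hi : n ≤ i
  · have := H9Misc.isIso_map_truncGEπ n i hi X
    exact P.prop_of_iso (@asIso _ _ _ _ _ this) (h i)
  · obtain ⟨Z, hZ, hPZ⟩ := P.exists_prop_of_containsZero
    have : (((tS).truncGE n).obj X).IsGE n := (tS).isGE_truncGE_obj ..
    exact P.prop_of_iso (hZ.iso (isZero_of_isGE _ n i (by omega))) hPZ

lemma cohIn_truncLT (P : ObjectProperty A) [P.IsClosedUnderIsomorphisms] [P.ContainsZero]
    {X : DerivedCategory A} (h : WSerre.cohIn P X) (n : ℤ) :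
    WSerre.cohIn P (((tS).truncLT n).obj X) := fun i => by
  by_cases hi : i < n
  · have := H9Misc.isIso_map_truncLTι n i hi X
    exact P.prop_of_iso (@asIso _ _ _ _ _ this).symm (h i)
  · obtain ⟨Z, hZ, hPZ⟩ := P.exists_prop_of_containsZero
    have : (((tS).truncLT n).obj X).IsLE (n - 1) := (tS).isLE_truncLT_obj ..
    exact P.prop_of_iso (hZ.iso (isZero_of_isLE _ (n - 1) i (by omega))) hPZ

instance isGE_truncLT (X : DerivedCategory A) (a n : ℤ) [X.IsGE a] :
    (((tS).truncLT n).obj X).IsGE a := by
  rw [isGE_iff]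
  intro i hi
  by_cases hn : i < n
  · have := H9Misc.isIso_map_truncLTι n i hn X
    exact (isZero_of_isGE X a i hi).of_iso (@asIso _ _ _ _ _ this)
  · have : (((tS).truncLT n).obj X).IsLE (n - 1) := (tS).isLE_truncLT_obj ..
    exact isZero_of_isLE _ (n - 1) i (by omega)

/-- Dévissage of bounded objects along their cohomology. -/
theorem devissage_bounded (Φ : ObjectProperty (DerivedCategory A)) [Φ.IsClosedUnderIsomorphisms]
    (hzero : ∀ Z, IsZero Z → Φ Z)
    (hext : ∀ T ∈ distinguishedTriangles (C := DerivedCategory A), Φ T.obj₁ → Φ T.obj₃ → Φ T.obj₂)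
    (X : DerivedCategory A) (a b : ℤ) [hXa : X.IsGE a] [hXb : X.IsLE b]
    (hsingle : ∀ n : ℤ, a ≤ n → n ≤ b → Φ ((singleFunctor A n).obj ((H n).obj X))) : Φ X := by
  obtain ⟨k, hk⟩ : ∃ k : ℕ, b + 1 - a ≤ k := ⟨(b + 1 - a).toNat, Int.self_le_toNat _⟩
  induction k generalizing X a with
  | zero =>
    refine hzero X ((IsZero.iff_id_eq_zero X).2 ?_)
    exact (tS).zero_of_isLE_of_isGE (𝟙 X) b a (by omega) hXb hXa
  | succ k ih =>
    rcases lt_or_ge b a with hab | hab
    · refine hzero X ((IsZero.iff_id_eq_zero X).2 ?_)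
      exact (tS).zero_of_isLE_of_isGE (𝟙 X) b a hab hXb hXa
    have hT := (tS).triangleLTGE_distinguished (a + 1) X
    refine hext _ hT ?_ ?_
    · show Φ (((tS).truncLT (a + 1)).obj X)
      have : (((tS).truncLT (a + 1)).obj X).IsLE a := (tS).isLE_truncLT_obj ..
      obtain ⟨Y, ⟨e⟩⟩ := exists_iso_singleFunctor_obj_of_isGE_of_isLE (((tS).truncLT (a + 1)).obj X) a
      have := H9Misc.isIso_map_truncLTι (a + 1) a (by omega) X
      let e' : (H a).obj X ≅ Y := (@asIso _ _ _ _ _ this).symm ≪≫ (H a).mapIso e ≪≫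
        (singleFunctorCompHomologyFunctorIso A a).app Y
      exact Φ.prop_of_iso ((singleFunctor A a).mapIso e' ≪≫ e.symm) (hsingle a le_rfl hab)
    · show Φ (((tS).truncGE (a + 1)).obj X)
      have hge : (((tS).truncGE (a + 1)).obj X).IsGE (a + 1) := (tS).isGE_truncGE_obj ..
      have hle : (((tS).truncGE (a + 1)).obj X).IsLE b := (isLE_iff _ _).2 fun i hi => by
        have := H9Misc.isIso_map_truncGEπ (a + 1) i (by omega) X
        exact (isZero_of_isLE X b i hi).of_iso (@asIso _ _ _ _ _ this).symm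
      refine ih _ (a + 1) (fun n hn hn' => ?_) (by omega)
      have := H9Misc.isIso_map_truncGEπ (a + 1) n hn X
      exact Φ.prop_of_iso ((singleFunctor A n).mapIso (@asIso _ _ _ _ _ this))
        (hsingle n (by omega) hn')

variable {B : Type u'} [Category.{v'} B] [Abelian B] [HasDerivedCategory.{w'} B]

/-- A functor is left t-exact. -/
def LeftTExact (F : DerivedCategory A ⥤ DerivedCategory B) : Prop :=
  ∀ (X : DerivedCategory A) (n : ℤ), X.IsGE n → (F.obj X).IsGE n

/-- For a left t-exact triangulated functor the cohomology in degree `q` only depends on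
the truncation below any degree above `q`. -/
lemma isIso_H_map_truncLTι (F : DerivedCategory A ⥤ DerivedCategory B) [F.CommShift ℤ]
    [F.IsTriangulated] (hF : LeftTExact F) (X : DerivedCategory A) (q m : ℤ) (hq : q + 1 ≤ m - 0) :
    IsIso ((DerivedCategory.homologyFunctor B q).map (F.map (((tS).truncLTι m).app X))) := by
  have hT := F.map_distinguished _ ((tS).triangleLTGE_distinguished m X)
  have : (F.obj (((tS).truncGE m).obj X)).IsGE m := hF _ m ((tS).isGE_truncGE_obj ..)
  exact isIso_H_mor₁ _ hT q (isZero_of_isGE (F.obj (((tS).truncGE m).obj X)) m _ (by omega))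
    (isZero_of_isGE (F.obj (((tS).truncGE m).obj X)) m _ (by omega))

variable {F G : DerivedCategory A ⥤ DerivedCategory B} [F.CommShift ℤ] [F.IsTriangulated]
  [G.CommShift ℤ] [G.IsTriangulated] (τ : F ⟶ G) [NatTrans.CommShift τ ℤ]

lemma isIso_app_triangle (T : Triangle (DerivedCategory A)) (hT : T ∈ distinguishedTriangles)
    (h1 : IsIso (τ.app T.obj₁)) (h3 : IsIso (τ.app T.obj₃)) : IsIso (τ.app T.obj₂) :=
  isIso₂_of_isIso₁₃ ((Triangle.homMk (F.mapTriangle.obj T) (G.mapTriangle.obj T)
      (τ.app _) (τ.app _) (τ.app _) (τ.naturality _) (τ.naturality _) (by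
        refine (Category.assoc (F.map T.mor₃) _ _).trans ?_
        refine (congrArg (F.map T.mor₃ ≫ ·) (NatTrans.shift_app_comm τ (1 : ℤ) T.obj₁)).trans ?_
        refine (Category.assoc (F.map T.mor₃) _ _).symm.trans ?_
        refine (congrArg (· ≫ _) (τ.naturality T.mor₃)).trans ?_
        exact Category.assoc _ _ _)))
    (F.map_distinguished _ hT) (G.map_distinguished _ hT) h1 h3

omit [F.IsTriangulated] [G.IsTriangulated] in
lemma isIso_app_shift (X : DerivedCategory A) (n : ℤ) (h : IsIso (τ.app X)) :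
    IsIso (τ.app (X⟦n⟧)) := by
  rw [show τ.app (X⟦n⟧) = _ from (NatTrans.app_shift τ n X)]
  infer_instance

/-- A natural transformation between triangulated functors is invertible on bounded objects as
soon as it is on their cohomology objects. -/
theorem isIso_app_bounded (X : DerivedCategory A) (a b : ℤ) [X.IsGE a] [X.IsLE b]
    (h : ∀ n, IsIso (τ.app ((singleFunctor A 0).obj ((H n).obj X)))) : IsIso (τ.app X) := by
  let Φ : ObjectProperty (DerivedCategory A) := fun Y => IsIso (τ.app Y)
  have : Φ.IsClosedUnderIsomorphisms := ⟨fun {Y Z} e hY => by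
    have : IsIso (τ.app Y) := hY
    exact (NatTrans.isIso_app_iff_of_iso τ e).1 hY⟩
  refine devissage_bounded Φ (fun Z hZ => ?_) (fun T hT => isIso_app_triangle τ T hT) X a b
    fun n _ _ => ?_
  · exact ⟨⟨0, (F.map_isZero hZ).eq_of_src _ _, (G.map_isZero hZ).eq_of_src _ _⟩⟩
  · exact Φ.prop_of_iso (((singleFunctors A).shiftIso (-n) n 0 (by omega)).app _)
      (isIso_app_shift τ _ (-n) (h n))

/-- A natural transformation between left t-exact triangulated functors is invertible on bounded
below objects as soon as it is on their cohomology objects. -/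
theorem isIso_app_plus (hF : LeftTExact F) (hG : LeftTExact G) (X : DerivedCategory A) (a : ℤ)
    [X.IsGE a] (h : ∀ n, IsIso (τ.app ((singleFunctor A 0).obj ((H n).obj X)))) :
    IsIso (τ.app X) := by
  rw [DerivedCategory.isIso_iff]
  intro q
  let m : ℤ := max a (q + 1)
  let X' := ((tS).truncLT m).obj X
  have : X'.IsLE (m - 1) := (tS).isLE_truncLT_obj ..
  have hX' : IsIso (τ.app X') := isIso_app_bounded τ X' a (m - 1) fun n => by
    by_cases hn : n < m
    · have := H9Misc.isIso_map_truncLTι m n hn X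
      exact (NatTrans.isIso_app_iff_of_iso τ ((singleFunctor A 0).mapIso (@asIso _ _ _ _ _ this))).2 (h n)
    · have hz : IsZero ((H n).obj X') := isZero_of_isLE _ (m - 1) n (by omega)
      exact ⟨⟨0, (F.map_isZero (Functor.map_isZero _ hz)).eq_of_src _ _,
        (G.map_isZero (Functor.map_isZero _ hz)).eq_of_src _ _⟩⟩
  have := isIso_H_map_truncLTι F hF X q m (by omega)
  have := isIso_H_map_truncLTι G hG X q m (by omega)
  have e := congrArg ((DerivedCategory.homologyFunctor B q).map)
    (τ.naturality (((tS).truncLTι m).app X))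
  rw [Functor.map_comp, Functor.map_comp] at e
  exact IsIso.of_isIso_fac_left e

end Groth.Agent.DSites
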