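import Groth.Agent.DSites.ForgetAb
import Groth.Agent.DSites.Rlim
import Groth.Agent.SiteBase.DLim.Acyclic
import Groth.Agent.SiteBase.DLim.Single

/-!
# Vanishing of hypercohomology and cohomology sheaves of derived limits

A derived limit of a tower has the eventual cohomology sheaf in degree `m` as soon as, locally on
objects of a covering class, the cones of the transition maps have no hypercohomology in degrees
`m - 1` and `m` far out in the tower.
-/

set_option autoImplicit false
set_option linter.style.haveILetI false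

universe w v u' u

open CategoryTheory CategoryTheory.Limits Opposite Pretriangulated Abelian DerivedCategory

namespace Groth.Agent.DSites

section Cone

variable {A : Type u'} [Category.{v} A] [Abelian A] [HasDerivedCategory.{w} A]

local notation "H" => DerivedCategory.homologyFunctor A

/-- Cohomology of a cone vanishes where the map is epi, and mono one degree higher. -/
lemma isZero_H_obj₃ (T : Triangle (DerivedCategory A)) (hT : T ∈ distinguishedTriangles) (j : ℤ)
    (h : Epi ((H j).map T.mor₁)) (h' : Mono ((H (j + 1)).map T.mor₁)) : IsZero ((H j).obj T.obj₃) := by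
  refine (HomologySequence.exact₃ T hT j (j + 1) rfl).isZero_of_both_zeros ?_ ?_
  · exact (HomologySequence.epi_homologyMap_mor₁_iff _ hT j).1 h
  · exact (HomologySequence.mono_homologyMap_mor₁_iff _ hT j (j + 1) rfl).1 h'

/-- The third term of a triangle of objects bounded below is bounded below. -/
lemma isGE_obj₃ (T : Triangle (DerivedCategory A)) (hT : T ∈ distinguishedTriangles) (a : ℤ)
    [T.obj₁.IsGE a] [T.obj₂.IsGE a] : T.obj₃.IsGE (a - 1) :=
  (isGE_iff _ _).2 fun i hi => isZero_H_obj₃ T hT i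
    ⟨fun g g' _ => (isZero_of_isGE T.obj₂ a i (by omega)).eq_of_src g g'⟩
    ⟨fun g g' _ => (isZero_of_isGE T.obj₁ a (i + 1) (by omega)).eq_of_tgt g g'⟩

/-- The cohomology of a cone stays in a weak Serre class. -/
lemma cohIn_obj₃ (P : ObjectProperty A) [WSerre.IsWeakSerre P] (T : Triangle (DerivedCategory A))
    (hT : T ∈ distinguishedTriangles) (h₁ : WSerre.cohIn P T.obj₁) (h₂ : WSerre.cohIn P T.obj₂) :
    WSerre.cohIn P T.obj₃ :=
  prop_H_obj₂ P T.rotate (rot_of_distTriang _ hT) h₂ (cohIn_shift P h₁ 1)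

end Cone

section TruncCone

variable {A : Type (u + 1)} [Category.{u} A] [Abelian A] [HasDerivedCategory.{w} A]

local notation "H" => DerivedCategory.homologyFunctor A

lemma toTruncTower_comp_map (E : DerivedCategory A) (n : ℕ) :
    CohCx.toTruncTower E (n + 1) ≫ CohCx.truncTowerMap E n = CohCx.toTruncTower E n :=
  DerivedCategory.TStructure.t.π_natTransTruncGEOfLE_app _ _ (by omega) E

/-- The cone of a transition map of the truncation tower has a single cohomology object. -/
lemma truncTowerMap_cone (E : DerivedCategory A) (n : ℕ) {C : DerivedCategory A}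
    (f : CohCx.truncTower E n ⟶ C) (h : C ⟶ (CohCx.truncTower E (n + 1))⟦(1 : ℤ)⟧)
    (hT : Triangle.mk (CohCx.truncTowerMap E n) f h ∈ distinguishedTriangles) :
    C.IsGE (-(n : ℤ) - 2) ∧
      (∀ j : ℤ, j ≠ -(n : ℤ) - 2 → IsZero ((H j).obj C)) ∧
      Nonempty ((H (-(n : ℤ) - 2)).obj C ≅ (H (-(n : ℤ) - 1)).obj E) := by
  let X := CohCx.truncTower E (n + 1)
  let Y := CohCx.truncTower E n
  have hXge : X.IsGE (-((n + 1 : ℕ) : ℤ)) := DerivedCategory.TStructure.t.isGE_truncGE_obj ..
  have hYge : Y.IsGE (-(n : ℤ)) := DerivedCategory.TStructure.t.isGE_truncGE_obj ..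
  have hY0 : ∀ i : ℤ, i < -(n : ℤ) → IsZero ((H i).obj Y) := fun i hi =>
    isZero_of_isGE _ (-(n : ℤ)) i hi
  have hX0 : ∀ i : ℤ, i < -(n : ℤ) - 1 → IsZero ((H i).obj X) := fun i hi =>
    isZero_of_isGE _ (-((n + 1 : ℕ) : ℤ)) i (by omega)
  have hiso : ∀ i : ℤ, -(n : ℤ) ≤ i → IsIso ((H i).map (CohCx.truncTowerMap E n)) := fun i hi => by
    have e := congrArg (H i).map (toTruncTower_comp_map E n)
    rw [Functor.map_comp] at e
    have := H9Misc.isIso_map_truncGEπ (-((n + 1 : ℕ) : ℤ)) i (by omega) E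
    have := H9Misc.isIso_map_truncGEπ (-(n : ℤ)) i hi E
    exact IsIso.of_isIso_fac_left e
  have hz : ∀ j : ℤ, j ≠ -(n : ℤ) - 2 → IsZero ((H j).obj C) := fun j hj => by
    refine isZero_H_obj₃ _ hT j ?_ ?_
    · by_cases h' : -(n : ℤ) ≤ j
      · have := hiso j h'
        exact inferInstanceAs (Epi ((H j).map (CohCx.truncTowerMap E n)))
      · exact ⟨fun g g' _ => (hY0 j (by omega)).eq_of_src g g'⟩
    · by_cases h' : -(n : ℤ) ≤ j + 1
      · have := hiso (j + 1) h'
        exact inferInstanceAs (Mono ((H (j + 1)).map (CohCx.truncTowerMap E n)))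
      · exact ⟨fun g g' _ => (hX0 (j + 1) (by omega)).eq_of_tgt g g'⟩
  refine ⟨(isGE_iff _ _).2 fun i hi => hz i (by omega), hz, ?_⟩
  have hi : IsIso ((H (-(n : ℤ) - 2)).map h) :=
    isIso_H_mor₂ _ (rot_of_distTriang _ hT) _ (hY0 _ (by omega)) (hY0 _ (by omega))
  have := H9Misc.isIso_map_truncGEπ (-((n + 1 : ℕ) : ℤ)) (-(n : ℤ) - 1) (by omega) E
  exact ⟨@asIso _ _ _ _ _ hi ≪≫
    ((H 0).shiftIso (1 : ℤ) (-(n : ℤ) - 2) (-(n : ℤ) - 1) (by omega)).app X ≪≫
    (@asIso _ _ _ _ _ this).symm⟩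

end TruncCone

open Groth.Agent.SiteBase Groth.Agent.HDUSheafify Groth.Agent.DLim

variable {C : Type u} [SmallCategory C] {J : GrothendieckTopology C}

section Sheaf

variable [HasDerivedCategory.{u} (Sheaf J AddCommGrpCat.{u})]

local notation "tS" => (DerivedCategory.TStructure.t (C := Sheaf J AddCommGrpCat))
local notation "H" => DerivedCategory.homologyFunctor (Sheaf J AddCommGrpCat)

/-- Hypercohomology in degree `m` of an object bounded below vanishes if all the `H^k(U, H^j)`,
`j + k = m`, vanish. -/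
theorem subsingleton_HDU_of_cohomology (X : DerivedCategory (Sheaf J AddCommGrpCat.{u})) (a : ℤ)
    [X.IsGE a] (m : ℤ) (U : C)
    (h : ∀ (j : ℤ) (k : ℕ), j + k = m → Subsingleton (CohSite.HU (CohCx.HD X j) k U)) :
    Subsingleton (CohCx.HDU X m U) := by
  let Φ : ObjectProperty (DerivedCategory (Sheaf J AddCommGrpCat.{u})) :=
    fun Y => Subsingleton (CohCx.HDU Y m U)
  have : Φ.IsClosedUnderIsomorphisms :=
    ⟨fun {Y Y'} e hY => ⟨fun x y => (cancel_mono ((shiftFunctor _ m).mapIso e.symm).hom).1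
      (@Subsingleton.elim _ hY _ _)⟩⟩
  have hext : ∀ T ∈ distinguishedTriangles (C := DerivedCategory (Sheaf J AddCommGrpCat.{u})),
      Φ T.obj₁ → Φ T.obj₃ → Φ T.obj₂ := fun T hT h₁ h₃ => by
    refine subsingleton_of_forall_eq 0 fun x => ?_
    obtain ⟨y, rfl⟩ := exact₂_shift T hT m x (@Subsingleton.elim _ h₃ _ _)
    rw [show y = 0 from @Subsingleton.elim _ h₁ _ _, zero_comp]
  have hzero : ∀ Z : DerivedCategory (Sheaf J AddCommGrpCat.{u}), IsZero Z → Φ Z := fun Z hZ =>
    ⟨fun x y => (Functor.map_isZero (shiftFunctor _ m) hZ).eq_of_tgt x y⟩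
  refine hext _ ((tS).triangleLTGE_distinguished (m + 1) X) ?_ ?_
  · show Φ (((tS).truncLT (m + 1)).obj X)
    have hle : (((tS).truncLT (m + 1)).obj X).IsLE m :=
      (tS).isLE_truncLT_obj X (m + 1) m (by omega)
    refine devissage_bounded Φ hzero hext _ a m (hXb := hle) fun n _ hn => ?_
    have := H9Misc.isIso_map_truncLTι (m + 1) n (by omega) X
    refine subsingleton_HDU_of_heart _ n U (m - n).toNat m (by omega) ?_
    exact subsingleton_of_ext_iso
      ((@asIso _ _ _ _ _ this).symm ≪≫ ((singleFunctorCompHomologyFunctorIso _ n).app _).symm)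
      (h n _ (by omega))
  · show Φ (((tS).truncGE (m + 1)).obj X)
    have : (((tS).truncGE (m + 1)).obj X).IsGE (m + 1) := (tS).isGE_truncGE_obj ..
    exact subsingleton_HDU_of_isGE _ (m + 1) m (by omega) U

variable {X Y Cn : DerivedCategory (Sheaf J AddCommGrpCat.{u})} {f : X ⟶ Y} {g : Y ⟶ Cn}
  {h : Cn ⟶ X⟦(1 : ℤ)⟧}

/-- Vanishing on the cone in degree `m - 1` gives injectivity in degree `m`. -/
lemma HDU_injective_of_cone (hT : Triangle.mk f g h ∈ distinguishedTriangles) (m : ℤ) (U : C)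
    (hs : Subsingleton (CohCx.HDU Cn (m - 1) U)) :
    Function.Injective (Preadditive.rightComp _ ((shiftFunctor _ m).map f) :
      CohCx.HDU X m U → CohCx.HDU Y m U) :=
  (injective_iff_map_eq_zero (Preadditive.rightComp _ ((shiftFunctor _ m).map f))).2 fun x hx =>
    eq_zero_of_surjective_mk hT m x hx fun _ => ⟨0, @Subsingleton.elim _ hs _ _⟩

/-- Vanishing on the cone in degree `m` gives surjectivity in degree `m`. -/
lemma HDU_surjective_of_cone (hT : Triangle.mk f g h ∈ distinguishedTriangles) (m : ℤ) (U : C)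
    (hs : Subsingleton (CohCx.HDU Cn m U)) :
    Function.Surjective (Preadditive.rightComp _ ((shiftFunctor _ m).map f) :
      CohCx.HDU X m U → CohCx.HDU Y m U) := fun x =>
  exact₂_mk hT m x (@Subsingleton.elim _ hs _ _)

/-- An element of a tower with surjective transitions from `N` on extends to a compatible family. -/
lemma exists_compatible : ∀ (N : ℕ) (A : ℕ → Type u) (t : ∀ n, A (n + 1) → A n),
    (∀ n, N ≤ n → Function.Surjective (t n)) → ∀ s : A N,
      ∃ x : ∀ n, A n, (∀ n, t n (x (n + 1)) = x n) ∧ x N = s := by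
  intro N
  induction N with
  | zero =>
    intro A t ht s
    choose g hg using fun n => ht n (Nat.zero_le n)
    exact ⟨fun n => Nat.rec s (fun k xk => g k xk) n, fun n => hg n _, rfl⟩
  | succ N ih =>
    intro A t ht s
    obtain ⟨x', hx', hs⟩ := ih (fun n => A (n + 1)) (fun n => t (n + 1))
      (fun n hn => ht (n + 1) (by omega)) s
    let x : ∀ n, A n
      | 0 => t 0 (x' 0)
      | n + 1 => x' n
    refine ⟨x, fun n => ?_, hs⟩
    cases n with
    | zero => rfl
    | succ k => exact hx' k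

omit [HasDerivedCategory.{u} (Sheaf J AddCommGrpCat.{u})] in
lemma isIso_of_injective_imageSieve_on {G G' : Sheaf J AddCommGrpCat.{u}} (g : G ⟶ G') {B : Set C}
    (hB : IsCoveredBy J B) (hi : ∀ U ∈ B, Function.Injective (g.hom.app (op U)).hom)
    (hs : ∀ U ∈ B, ∀ s : G'.obj.obj (op U), Presheaf.imageSieve g.hom s ∈ J U) : IsIso g := by
  refine (Sheaf.isLocallyBijective_iff_isIso g).1 ⟨?_, ?_⟩
  · constructor
    intro X x y h
    obtain ⟨ι, Y, f, hf, hY⟩ := hB X.unop
    refine J.superset_covering ?_ hf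
    rintro Z k ⟨Z', a, b, ⟨i⟩, rfl⟩
    refine Presheaf.equalizerSieve x y |>.downward_closed ?_ a
    refine hi _ (hY i) ?_
    exact (ConcreteCategory.congr_hom (g.hom.naturality (f i).op) x).trans
      ((congrArg (G'.obj.map (f i).op).hom h).trans
        (ConcreteCategory.congr_hom (g.hom.naturality (f i).op) y).symm)
  · constructor
    intro U s
    obtain ⟨ι, Y, f, hf, hY⟩ := hB U
    refine J.transitive hf _ ?_
    rintro Z k ⟨Z', a, b, ⟨i⟩, rfl⟩
    rw [Sieve.pullback_comp]
    refine J.pullback_stable a (J.superset_covering ?_ (hs _ (hY i) ((G'.obj.map (f i).op).hom s)))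
    rintro W q ⟨x, hx⟩
    refine ⟨x, hx.trans ?_⟩
    exact (ConcreteCategory.congr_hom (G'.obj.map_comp (f i).op q.op) s).symm

/-- The cohomology sheaf of a derived limit in degree `m` is the eventual value of the tower, under
locally uniform vanishing for the cones of the transition maps. -/
theorem isIso_H_rlim {K : ℕ → DerivedCategory (Sheaf J AddCommGrpCat.{u})}
    {t : ∀ n, K (n + 1) ⟶ K n} [HasProduct K] {L : DerivedCategory (Sheaf J AddCommGrpCat.{u})}
    {a : ∀ n, L ⟶ K n} (hL : CohCx.IsRlimVia K t L a) {B : Set C} (hB : IsCoveredBy J B) (m : ℤ)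
    (n₀ : ℕ) (hconst : ∀ n, n₀ ≤ n → IsIso ((H m).map (t n)))
    (h : ∀ V ∈ B, ∃ N : ℕ, ∀ T ∈ J V, ∃ (ι : Type u) (Y : ι → C) (f : ∀ i, Y i ⟶ V),
      (∀ i, T.arrows (f i)) ∧ Sieve.ofArrows Y f ∈ J V ∧
      ∀ (i : ι) (n : ℕ), N ≤ n →
        Function.Surjective (Preadditive.rightComp _ ((shiftFunctor _ (m - 1)).map (t n)) :
          CohCx.HDU (K (n + 1)) (m - 1) (Y i) → CohCx.HDU (K n) (m - 1) (Y i)) ∧
        Function.Bijective (Preadditive.rightComp _ ((shiftFunctor _ m).map (t n)) :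
          CohCx.HDU (K (n + 1)) m (Y i) → CohCx.HDU (K n) m (Y i))) :
    IsIso ((H m).map (a n₀)) := by
  have htrans : ∀ k, IsIso ((H m).map (CohCx.transition K t n₀ k)) := by
    intro k
    induction k with
    | zero => exact inferInstanceAs (IsIso ((H m).map (𝟙 (K n₀))))
    | succ k ih =>
      have := hconst (n₀ + k) (by omega)
      show IsIso ((H m).map (t (n₀ + k) ≫ CohCx.transition K t n₀ k))
      rw [Functor.map_comp]
      exact IsIso.comp_isIso' this ih
  refine isIso_of_injective_imageSieve_on _ hB (fun V hV => ?_) fun V hV s => ?_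
  · obtain ⟨N, hN⟩ := h V hV
    let M := n₀ + N
    have := htrans N
    rw [show (H m).map (a n₀) = (H m).map (a M) ≫ (H m).map (CohCx.transition K t n₀ N) by
      rw [← Functor.map_comp, comp_transition hL]]
    refine (sections_bijective_of_isIso ((H m).map (CohCx.transition K t n₀ N)) V).1.comp ?_
    refine sections_injective hL V m M fun T hT => ?_
    obtain ⟨ι, Y, f, hf, hcov, hv⟩ := hN T hT
    refine ⟨ι, Y, f, hf, hcov, fun i => ⟨fun b => ?_, fun k => ?_⟩⟩
    · obtain ⟨w, hw⟩ := limOne_of_eventually_surjective M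
        (fun n => CohCx.HDU (K n) (m - 1) (Y i))
        (fun n => Preadditive.rightComp _ ((shiftFunctor _ (m - 1)).map (t n)))
        (fun n hn => (hv i n (by omega)).1) b
      exact ⟨w, funext hw⟩
    · induction k with
      | zero =>
        intro x y hxy
        have h1 : (shiftFunctor _ m).map (CohCx.transition K t M 0) = 𝟙 _ :=
          CategoryTheory.Functor.map_id _ _
        have h2 : x ≫ (shiftFunctor _ m).map (CohCx.transition K t M 0) =
            y ≫ (shiftFunctor _ m).map (CohCx.transition K t M 0) := hxy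
        rw [h1, Category.comp_id, Category.comp_id] at h2
        exact h2
      | succ k ih =>
        intro x y hxy
        refine (hv i (M + k) (by omega)).2.1 (ih ?_)
        have h2 : x ≫ (shiftFunctor _ m).map (t (M + k) ≫ CohCx.transition K t M k) =
            y ≫ (shiftFunctor _ m).map (t (M + k) ≫ CohCx.transition K t M k) := hxy
        rw [Functor.map_comp, ← Category.assoc, ← Category.assoc] at h2
        exact h2
  · obtain ⟨N, hN⟩ := h V hV
    let M := n₀ + N
    have := htrans N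
    obtain ⟨s', hs'⟩ := (sections_bijective_of_isIso ((H m).map (CohCx.transition K t n₀ N)) V).2 s
    obtain ⟨R, hR, hlift⟩ := exists_cover_cls_lift (K M) m V s'
    obtain ⟨ι, W, f, hT, hcov, hv⟩ := hN R hR
    refine J.superset_covering ?_ hcov
    rintro Z k ⟨Z', b, c, ⟨i⟩, rfl⟩
    refine (Presheaf.imageSieve _ s).downward_closed ?_ b
    obtain ⟨x₀, hx₀⟩ := hlift _ _ (hT i)
    obtain ⟨x, hx, hxM⟩ := exists_compatible M (fun n => CohCx.HDU (K n) m (W i))
      (fun n => Preadditive.rightComp _ ((shiftFunctor _ m).map (t n)))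
      (fun n hn => (hv i n (by omega)).2.2) x₀
    obtain ⟨y, hy⟩ := rlim_exists_lift hL m x hx
    refine ⟨cls L m (W i) y, ?_⟩
    rw [← cls_comp (a n₀) m (W i) y, ← hs', ← comp_transition hL n₀ N, Functor.map_comp,
      ← Category.assoc, hy M, hxM, cls_comp, hx₀]
    exact ConcreteCategory.congr_hom
      (((H m).map (CohCx.transition K t n₀ N)).hom.naturality (f i).op) s'

end Sheaf

section Mod

/-- A small model of the derived category of abelian sheaves. -/
noncomputable abbrev smallShD (J : GrothendieckTopology C) :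
    HasDerivedCategory.{u} (Sheaf J AddCommGrpCat.{u}) :=
  H9Misc.BrownGroth.smallDerived _ fun K =>
    let ⟨I, f, hI, hf, _⟩ := TriCat.exists_kInjective_resolution' K
    ⟨I, f, hI, hf⟩

variable (O : Sheaf J CommRingCat.{u}) [HasDerivedCategory.{w} (ModSite.Mod O)]

local notation "H" => DerivedCategory.homologyFunctor (ModSite.Mod O)

omit [HasDerivedCategory.{w} (ModSite.Mod O)] in
lemma subsingleton_HU_of_iso {F G : ModSite.Mod O} (e : F ≅ G) {k : ℕ} {U : C}
    (h : Subsingleton (ModSite.HU O F k U)) : Subsingleton (ModSite.HU O G k U) :=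
  subsingleton_of_ext_iso ((SheafOfModules.toSheaf (ModSite.ringSh O)).mapIso e) h

omit [HasDerivedCategory.{w} (ModSite.Mod O)] in
lemma subsingleton_HU_mod_of_isZero {F : ModSite.Mod O} (hF : IsZero F) (k : ℕ) (U : C) :
    Subsingleton (ModSite.HU O F k U) :=
  have := smallShD J
  subsingleton_HU_of_isZero (Functor.map_isZero (SheafOfModules.toSheaf (ModSite.ringSh O)) hF) k U

/-- Hypercohomology of a complex of modules bounded below vanishes in degree `m` if the cohomology
of its cohomology modules does in complementary degrees. -/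
theorem subsingleton_HDU_mod_of_cohomology [HasDerivedCategory.{u} (Sheaf J AddCommGrpCat.{u})]
    (Q : DerivedCategory (ModSite.Mod O)) (b : ℤ) [Q.IsGE b] (m : ℤ) (U : C)
    (h : ∀ (j : ℤ) (k : ℕ), j + k = m → Subsingleton (ModSite.HU O ((H j).obj Q) k U)) :
    Subsingleton (CohCx.HDU ((toSheafD (ModSite.ringSh O)).obj Q) m U) :=
  have := isGE_toSheafD_obj (ModSite.ringSh O) Q b
  subsingleton_HDU_of_cohomology _ b m U fun j k hjk =>
    subsingleton_of_ext_iso (hdIso (ModSite.ringSh O) Q j).symm (h j k hjk)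

/-- The cohomology of a derived limit of modules in degree `m`, from vanishing of the hypercohomology
of the cones of the transition maps. -/
theorem isIso_H_rlim_mod' [HasDerivedCategory.{u} (Sheaf J AddCommGrpCat.{u})]
    {K : ℕ → DerivedCategory (ModSite.Mod O)} {t : ∀ n, K (n + 1) ⟶ K n}
    [HasProduct K] {L : DerivedCategory (ModSite.Mod O)} {a : ∀ n, L ⟶ K n}
    (hL : CohCx.IsRlimVia K t L a) {B : Set C} (hB : IsCoveredBy J B) (m : ℤ) (n₀ : ℕ)
    (hconst : ∀ n, n₀ ≤ n → IsIso ((H m).map (t n)))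
    (h : ∀ V ∈ B, ∃ N : ℕ, ∀ T ∈ J V, ∃ (ι : Type u) (Y : ι → C) (f : ∀ i, Y i ⟶ V),
      (∀ i, T.arrows (f i)) ∧ Sieve.ofArrows Y f ∈ J V ∧
      ∀ (i : ι) (n : ℕ), N ≤ n → ∃ (Q : DerivedCategory (ModSite.Mod O)) (g : K n ⟶ Q)
        (d : Q ⟶ (K (n + 1))⟦(1 : ℤ)⟧), Triangle.mk (t n) g d ∈ distinguishedTriangles ∧
        ∀ p : ℤ, (p = m ∨ p = m - 1) →
          Subsingleton (CohCx.HDU ((toSheafD (ModSite.ringSh O)).obj Q) p (Y i))) :
    IsIso ((H m).map (a n₀)) := by
  let R := ModSite.ringSh O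
  let F := toSheafD R
  let K' := fun n => F.obj (K n)
  have : HasProduct K' := hasProduct_nat K'
  have hL' := isRlimVia_map F K t L a hL
  refine (isIso_H_iff_toSheafD R _ m).1 (isIso_H_rlim hL' hB m n₀
    (fun n hn => (isIso_H_iff_toSheafD R _ m).2 (hconst n hn)) fun V hV => ?_)
  obtain ⟨N, hN⟩ := h V hV
  refine ⟨N, fun T hT => ?_⟩
  obtain ⟨ι, Y, f, hf, hcov, hv⟩ := hN T hT
  refine ⟨ι, Y, f, hf, hcov, fun i n hn => ?_⟩
  obtain ⟨Q, g, d, hQ, hs⟩ := hv i n hn
  have hΔ : Triangle.mk (F.map (t n)) (F.map g) (F.map d ≫ (F.commShiftIso (1 : ℤ)).hom.app _) ∈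
      distinguishedTriangles := F.map_distinguished _ hQ
  exact ⟨HDU_surjective_of_cone hΔ (m - 1) _ (hs _ (Or.inr rfl)),
    HDU_injective_of_cone hΔ m _ (hs _ (Or.inr rfl)),
    HDU_surjective_of_cone hΔ m _ (hs _ (Or.inl rfl))⟩

/-- The cohomology of a derived limit of modules in degree `m`, from vanishing of the cohomology of
the cohomology modules of the cones of the transition maps. -/
theorem isIso_H_rlim_mod {K : ℕ → DerivedCategory (ModSite.Mod O)} {t : ∀ n, K (n + 1) ⟶ K n}
    [HasProduct K] {L : DerivedCategory (ModSite.Mod O)} {a : ∀ n, L ⟶ K n}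
    (hL : CohCx.IsRlimVia K t L a) {B : Set C} (hB : IsCoveredBy J B) (m : ℤ) (n₀ : ℕ)
    (hconst : ∀ n, n₀ ≤ n → IsIso ((H m).map (t n)))
    (h : ∀ V ∈ B, ∃ N : ℕ, ∀ T ∈ J V, ∃ (ι : Type u) (Y : ι → C) (f : ∀ i, Y i ⟶ V),
      (∀ i, T.arrows (f i)) ∧ Sieve.ofArrows Y f ∈ J V ∧
      ∀ (i : ι) (n : ℕ), N ≤ n → ∀ (Q : DerivedCategory (ModSite.Mod O)) (g : K n ⟶ Q)
        (d : Q ⟶ (K (n + 1))⟦(1 : ℤ)⟧), Triangle.mk (t n) g d ∈ distinguishedTriangles →
        (∃ b : ℤ, Q.IsGE b) ∧ ∀ (j : ℤ) (k : ℕ), (j + k = m ∨ j + k = m - 1) →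
          Subsingleton (ModSite.HU O ((H j).obj Q) k (Y i))) :
    IsIso ((H m).map (a n₀)) := by
  let := smallShD J
  refine isIso_H_rlim_mod' O hL hB m n₀ hconst fun V hV => ?_
  obtain ⟨N, hN⟩ := h V hV
  refine ⟨N, fun T hT => ?_⟩
  obtain ⟨ι, Y, f, hf, hcov, hv⟩ := hN T hT
  refine ⟨ι, Y, f, hf, hcov, fun i n hn => ?_⟩
  obtain ⟨Q, g, d, hQ⟩ := distinguished_cocone_triangle (t n)
  obtain ⟨⟨b, hb⟩, hvan⟩ := hv i n hn Q g d hQ
  exact ⟨Q, g, d, hQ, fun p hp => subsingleton_HDU_mod_of_cohomology O Q b p (Y i)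
    fun j k hjk => hvan j k (by omega)⟩

/-- An object is the derived limit of its truncations if, locally, the cohomology of its cohomology
modules in negative degrees vanishes in large degrees. -/
theorem isRlimVia_truncTower_mod (E : DerivedCategory (ModSite.Mod O))
    [HasProduct (CohCx.truncTower E)] {B : Set C} (hB : IsCoveredBy J B)
    (h : ∀ V ∈ B, ∀ m : ℤ, ∃ d : ℕ, ∀ T ∈ J V, ∃ (ι : Type u) (Y : ι → C) (f : ∀ i, Y i ⟶ V),
      (∀ i, T.arrows (f i)) ∧ Sieve.ofArrows Y f ∈ J V ∧
      ∀ (i : ι) (q : ℤ) (k : ℕ), q < 0 → d < k → (q + k = m ∨ q + k = m + 1) →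
        Subsingleton (ModSite.HU O ((H q).obj E) k (Y i))) :
    CohCx.IsRlimVia (CohCx.truncTower E) (CohCx.truncTowerMap E) E (CohCx.toTruncTower E) := by
  obtain ⟨L, a, e, hL, hea, hfin⟩ :=
    exists_rlim_lift _ (CohCx.truncTowerMap E) (CohCx.toTruncTower E) (toTruncTower_comp_map E)
  refine hfin ((DerivedCategory.isIso_iff _ e).2 fun m => ?_)
  let n₀ : ℕ := (-m).toNat
  have hπ : ∀ n : ℕ, n₀ ≤ n → IsIso ((H m).map (CohCx.toTruncTower E n)) := fun n hn =>
    H9Misc.isIso_map_truncGEπ (-(n : ℤ)) m (by omega) E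
  have ha : IsIso ((H m).map (a n₀)) := by
    refine isIso_H_rlim_mod O hL hB m n₀ (fun n hn => ?_) fun V hV => ?_
    · have h' := congrArg (H m).map (toTruncTower_comp_map E n)
      rw [Functor.map_comp] at h'
      have := hπ (n + 1) (by omega)
      have := hπ n hn
      exact IsIso.of_isIso_fac_left h'
    · obtain ⟨d, hd⟩ := h V hV m
      refine ⟨((d : ℤ) - m + 1).toNat, fun T hT => ?_⟩
      obtain ⟨ι, Y, f, hf, hcov, hv⟩ := hd T hT
      refine ⟨ι, Y, f, hf, hcov, fun i n hn Q g c hQ => ?_⟩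
      obtain ⟨hge, hz, ⟨eQ⟩⟩ := truncTowerMap_cone E n g c hQ
      refine ⟨⟨_, hge⟩, fun j k hjk => ?_⟩
      by_cases hj : j = -(n : ℤ) - 2
      · subst hj
        exact subsingleton_HU_of_iso O eQ.symm (hv i _ k (by omega) (by omega) (by omega))
      · exact subsingleton_HU_mod_of_isZero O (hz j hj) k _
  have := hπ n₀ le_rfl
  have h' := congrArg (H m).map (hea n₀)
  rw [Functor.map_comp] at h'
  exact IsIso.of_isIso_fac_right h'

end Mod

end Groth.Agent.DSites
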