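import Groth.Agent.DSites.PartProj
import Mathlib.CategoryTheory.Triangulated.TStructure.TruncLTGE
import Groth.Agent.TriCat.Sums
import Groth.Agent.TriCat.DerivedCoproducts
import Mathlib.Algebra.Homology.DerivedCategory.Ext.Basic
import Mathlib.Algebra.Homology.DerivedCategory.TStructure

/-!
# Objects whose `Ext` groups commute with sums see finitely many summands of bounded below families

If `Ext^n(G, -)` commutes with sums for all `n`, then every map from `G` (in degree zero) into a sum of
objects of the derived category which are uniformly bounded below factors through a finite partial sum.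
-/

set_option autoImplicit false
set_option linter.style.haveILetI false
set_option backward.isDefEq.respectTransparency false

universe w t v u

open CategoryTheory CategoryTheory.Limits CategoryTheory.Pretriangulated CategoryTheory.Abelian
open Groth.Agent.DSites.PartProj

namespace Groth.Agent.DSites.BddCompact

variable {A : Type u} [Category.{v} A] [Abelian A] {J : Type t}
  [HasColimitsOfShape (Discrete J) A] [HasExactColimitsOfShape (Discrete J) A]

/-- `Ext` classes into sums are supported in finite partial sums. -/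
def ExtFix (G : A) (J : Type t) [HasColimitsOfShape (Discrete J) A] [HasExt.{w} A] : Prop :=
  ∀ (n : ℕ) (F : J → A) (x : Ext.{w} G (∐ F) n),
    ∃ S : Finset J, x.comp (Ext.mk₀ (partProj F S)) (add_zero n) = x

variable [HasDerivedCategory.{w} A]

/-- `Q` preserves coproducts. -/
lemma preservesColimit_Q (K : J → CochainComplex A ℤ) :
    PreservesColimit (Discrete.functor K)
      (DerivedCategory.Q : CochainComplex A ℤ ⥤ DerivedCategory A) := by
  let Q : CochainComplex A ℤ ⥤ DerivedCategory A := DerivedCategory.Q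
  have hdesc : ∀ {T : DerivedCategory A} (k : ∀ j, Q.obj (K j) ⟶ T),
      ∃ d : Q.obj (∐ K) ⟶ T, ∀ j, Q.map (Sigma.ι K j) ≫ d = k j := by
    intro T k
    let eT := Q.objObjPreimageIso T
    choose Z s hs f hf using fun j => DerivedCategory.right_fac (k j ≫ eT.inv)
    haveI : IsIso (Q.map (Limits.Sigma.map s)) := (DerivedCategory.isIso_Q_map_iff_quasiIso _ _).2
      (TriCat.quasiIso_sigmaMap s fun j => (DerivedCategory.isIso_Q_map_iff_quasiIso _ _).1 (hs j))
    refine ⟨inv (Q.map (Limits.Sigma.map s)) ≫ Q.map (Sigma.desc f) ≫ eT.hom, fun j => ?_⟩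
    haveI : IsIso (Q.map (s j)) := hs j
    rw [← cancel_epi (Q.map (s j)), ← Q.map_comp_assoc, ← Sigma.ι_map s j, Q.map_comp_assoc,
      IsIso.hom_inv_id_assoc, ← Q.map_comp_assoc, Sigma.ι_desc]
    have h := congrArg (fun g => Q.map (s j) ≫ g ≫ eT.hom) (hf j)
    simp only [Category.assoc, Iso.inv_hom_id, Category.comp_id] at h
    rw [h]
    exact (IsIso.hom_inv_id_assoc _ _).symm
  refine preservesColimit_of_preserves_colimit_cocone (coproductIsCoproduct K) ?_
  refine (Cofan.isColimitMapCoconeEquiv Q _ _).symm ?_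
  exact Cofan.IsColimit.mk _ (fun t => (hdesc t.inj).choose)
    (fun t j => (hdesc t.inj).choose_spec j)
    (fun t m hm => sub_eq_zero.1 (TriCat.sigma_Q_hom_ext _ fun j => by
      rw [Preadditive.comp_sub, sub_eq_zero]
      exact (hm j).trans ((hdesc t.inj).choose_spec j).symm))

/-- A sum of objects bounded below by `a` is bounded below by `a`. -/
theorem isGE_sigma (M : J → DerivedCategory A) [HasCoproduct M] (a : ℤ) (hM : ∀ j, (M j).IsGE a) :
    (∐ M).IsGE a := by
  haveI := hM
  have h : ∀ j, ∃ K : CochainComplex A ℤ, K.IsStrictlyGE a ∧ Nonempty (M j ≅ DerivedCategory.Q.obj K) :=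
    fun j => by
      obtain ⟨K, hK, e⟩ := DerivedCategory.exists_iso_Q_obj_of_isGE (M j) a
      exact ⟨K, hK, e⟩
  choose K hK eK using h
  haveI := hK
  haveI := preservesColimit_Q K
  haveI : (∐ K).IsStrictlyGE a := (CochainComplex.isStrictlyGE_iff _ a).2 fun k hk => by
    refine IsZero.of_iso ?_ (PreservesCoproduct.iso
      (HomologicalComplex.eval A (ComplexShape.up ℤ) k) K)
    rw [IsZero.iff_id_eq_zero]
    exact Sigma.hom_ext _ _ fun j => ((K j).isZero_of_isStrictlyGE a k hk).eq_of_src _ _
  haveI : HasCoproduct fun j => DerivedCategory.Q.obj (K j) :=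
    hasColimit_of_iso (Discrete.natIso fun j => (eK j.as).some.symm :
      Discrete.functor (fun j => DerivedCategory.Q.obj (K j)) ≅ Discrete.functor M)
  exact ⟨⟨∐ K, HasColimit.isoOfNatIso (Discrete.natIso fun j => (eK j.as).some :
      Discrete.functor M ≅ Discrete.functor fun j => DerivedCategory.Q.obj (K j)) ≪≫
    (PreservesCoproduct.iso DerivedCategory.Q K).symm, inferInstance⟩⟩

/-- The functor `X ↦ X[-b]` preserves sums. -/
theorem preservesColimit_singleFunctor (F : J → A) (b : ℤ) :
    PreservesColimit (Discrete.functor F) (DerivedCategory.singleFunctor A b) := by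
  let S : A ⥤ CochainComplex A ℤ := CochainComplex.singleFunctor A b
  haveI : PreservesColimit (Discrete.functor F) S := by
    refine preservesColimit_of_preserves_colimit_cocone (coproductIsCoproduct F) ?_
    refine HomologicalComplex.isColimitOfEval _ _ fun i => ?_
    by_cases hi : i = b
    · subst hi
      haveI : PreservesColimit (Discrete.functor F) (S ⋙ HomologicalComplex.eval A (ComplexShape.up ℤ) i) :=
        preservesColimit_of_natIso _ (HomologicalComplex.singleCompEvalIsoSelf A (ComplexShape.up ℤ) i).symm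
      exact isColimitOfPreserves (S ⋙ HomologicalComplex.eval A (ComplexShape.up ℤ) i) (coproductIsCoproduct F)
    · have hz : ∀ X : A, IsZero ((S ⋙ HomologicalComplex.eval A (ComplexShape.up ℤ) i).obj X) := fun X =>
        HomologicalComplex.isZero_single_obj_X (ComplexShape.up ℤ) b X i hi
      exact ⟨fun s => 0, fun s j => (hz _).eq_of_src _ _, fun s m _ => (hz _).eq_of_src _ _⟩
  haveI : PreservesColimit (Discrete.functor F ⋙ S) DerivedCategory.Q :=
    haveI := preservesColimit_Q fun j => S.obj (F j)
    preservesColimit_of_iso_diagram (K₁ := Discrete.functor fun j => S.obj (F j)) _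
      (Discrete.natIso fun j => Iso.refl _)
  exact preservesColimit_of_natIso (Discrete.functor F)
    (DerivedCategory.singleFunctorIsoCompQ A b).symm

variable {G : A} [HasExt.{w} A]

/-- Maps into a sum of sheaves placed in one degree. -/
theorem fixAt_single (hG : ExtFix.{w} G J) (F : J → A) (b : ℤ) (hb : b ≤ 0)
    [HasCoproduct fun j => (DerivedCategory.singleFunctor A b).obj (F j)] :
    FixAt (fun j => (DerivedCategory.singleFunctor A b).obj (F j))
      ((DerivedCategory.singleFunctor A 0).obj G) := by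
  intro φ
  let H := DerivedCategory.singleFunctor A b
  haveI := preservesColimit_singleFunctor F b
  obtain ⟨n, hn⟩ := Int.eq_ofNat_of_zero_le (show (0 : ℤ) ≤ -b by omega)
  let e := ((SingleFunctors.shiftIso (DerivedCategory.singleFunctors A) (n : ℤ) b 0 (by omega)))
  let x : Ext G (∐ F) n := Ext.homEquiv.symm (φ ≫ sigmaComparison H F ≫ e.inv.app (∐ F))
  obtain ⟨S, hS⟩ := hG n F x
  refine ⟨S, (cancel_mono (sigmaComparison H F)).1 ((cancel_mono (e.inv.app (∐ F))).1 ?_)⟩
  have h : (x.comp (Ext.mk₀ (partProj F S)) (add_zero n)).hom = x.hom := congrArg (fun y => y.hom) hS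
  rw [Ext.comp_hom, Ext.mk₀_hom, ShiftedHom.comp_mk₀] at h
  simp only [x, Equiv.apply_symm_apply, Category.assoc] at h
  rw [Category.assoc, Category.assoc, ← reassoc_of% sigmaComparison_partProj F H S]
  refine (congrArg (fun t => φ ≫ sigmaComparison H F ≫ t) (e.inv.naturality (partProj F S))).trans (h.trans ?_)
  simp

variable [HasColimitsOfShape (Discrete J) (DerivedCategory A)]

/-- Maps into a sum of uniformly bounded below objects. -/
theorem fixAt_of_isGE (hG : ExtFix.{w} G J) (M : J → DerivedCategory A) (a : ℤ)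
    (hM : ∀ j, (M j).IsGE a) : FixAt M ((DerivedCategory.singleFunctor A 0).obj G) := by
  classical
  suffices ∀ (k : ℕ) (a : ℤ) (M : J → DerivedCategory A), 1 ≤ a + k → (∀ j, (M j).IsGE a) →
      FixAt M ((DerivedCategory.singleFunctor A 0).obj G) from
    this (1 - a).toNat a M (by omega) hM
  intro k
  induction k with
  | zero =>
    intro a M ha hM φ
    haveI := isGE_sigma M a hM
    refine ⟨∅, ?_⟩
    rw [DerivedCategory.TStructure.t.zero φ 0 a (by omega), zero_comp]
  | succ k ih =>
    intro a M ha hM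
    by_cases ha0 : 0 < a
    · intro φ
      haveI := isGE_sigma M a hM
      refine ⟨∅, ?_⟩
      rw [DerivedCategory.TStructure.t.zero φ 0 a (by omega), zero_comp]
    let tS : Triangulated.TStructure (DerivedCategory A) := DerivedCategory.TStructure.t
    choose P B hP hB f g h hT using fun j => tS.exists_triangle (M j) a (a + 1) rfl
    have hBge : ∀ j, (B j).IsGE (a + 1) := fun j => ⟨hB j⟩
    have hPge : ∀ j, (P j).IsGE a := fun j => by
      have hB1 : ∀ j, tS.IsGE ((B j)⟦(-1 : ℤ)⟧) a := fun j => by
        haveI : tS.IsGE (B j) (a + 1) := ⟨hB j⟩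
        haveI := tS.isGE_shift (B j) (a + 1) (-1) (a + 2) (by omega)
        exact tS.isGE_of_ge _ a (a + 2) (by omega)
      exact ⟨(tS.isGE₂ _ (inv_rot_of_distTriang _ (hT j)) a (hB1 j) ⟨(hM j).ge⟩).ge⟩
    have hPiso : ∀ j, ∃ X : A, Nonempty (P j ≅ (DerivedCategory.singleFunctor A a).obj X) := fun j => by
      haveI := hPge j
      haveI : (P j).IsLE a := ⟨hP j⟩
      exact DerivedCategory.exists_iso_singleFunctor_obj_of_isGE_of_isLE (P j) a
    choose X eX using hPiso
    intro φ
    let S : Triangle (DerivedCategory A) := Triangle.mk (Limits.Sigma.map f) (Limits.Sigma.map g)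
      (Sigma.desc fun j => h j ≫ (Sigma.ι P j)⟦(1 : ℤ)⟧')
    have hS : S ∈ distTriang (DerivedCategory A) := TriCat.distinguished_of_isSum
      (fun j => Triangle.mk (f j) (g j) (h j)) hT S
      (fun j =>
        { hom₁ := Sigma.ι P j
          hom₂ := Sigma.ι M j
          hom₃ := Sigma.ι B j
          comm₁ := (Limits.Sigma.ι_map f j).symm
          comm₂ := (Limits.Sigma.ι_map g j).symm
          comm₃ := (Sigma.ι_desc (fun j => h j ≫ (Sigma.ι P j)⟦(1 : ℤ)⟧') j).symm })
      (TriCat.isSum_sigma P) (TriCat.isSum_sigma M) (TriCat.isSum_sigma B)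
    obtain ⟨F₁, hF₁⟩ := ih (a + 1) B (by omega) hBge (φ ≫ S.mor₂)
    obtain ⟨ψ, hψ⟩ := Triangle.coyoneda_exact₂ _ hS (φ - φ ≫ partProj M F₁) (by
      rw [Preadditive.sub_comp, Category.assoc, sub_eq_zero]
      exact (((congrArg (φ ≫ ·) (sigmaMap_partProj M g F₁)).trans (Category.assoc _ _ _).symm).trans hF₁).symm)
    obtain ⟨F₂, hF₂⟩ := ((fixAt_single hG X a (by omega)).reindex (M' := P) (Equiv.refl J)
      fun j => (eX j).some) ψ
    refine ⟨F₁ ∪ F₂, ?_⟩
    have e₁ : φ = ((ψ ≫ S.mor₁ : _ ⟶ ∐ M) + φ ≫ partProj M F₁ : _ ⟶ ∐ M) := sub_eq_iff_eq_add.1 hψ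
    have e₂ : ψ ≫ S.mor₁ ≫ partProj M (F₁ ∪ F₂) = ψ ≫ S.mor₁ := by
      refine (congrArg (ψ ≫ ·) (sigmaMap_partProj P f (F₁ ∪ F₂)).symm).trans ?_
      rw [← Category.assoc, fix_mono Finset.subset_union_right hF₂]
      rfl
    conv_lhs => rw [e₁]
    conv_rhs => rw [e₁]
    rw [Preadditive.add_comp, Category.assoc, Category.assoc,
      partProj_comp M Finset.subset_union_left, e₂]

/-- Bijectivity for bounded below families. -/
theorem bijective_of_isGE {I : Type w} [HasColimitsOfShape (Discrete I) A]
    [HasExactColimitsOfShape (Discrete I) A] [HasColimitsOfShape (Discrete I) (DerivedCategory A)]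
    (hG : ExtFix.{w} G I) (M : I → DerivedCategory A) [HasCoproduct M] (a : ℤ)
    (hM : ∀ j, (M j).IsGE a) :
    Function.Bijective
      (CohDer.homSumToHomCoprod ((DerivedCategory.singleFunctor A 0).obj G) M) :=
  PartProj.bijective_homSumToHomCoprod M (fixAt_of_isGE hG M a hM)

end Groth.Agent.DSites.BddCompact

namespace Groth.Agent.DSites.BddCompact

/-- A functor to abelian groups preserving sums sends every element to a finite sum. -/
theorem exists_fix_of_preserves {A : Type u} [Category.{v} A] [Abelian A] {J : Type t}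
    [HasColimitsOfShape (Discrete J) A] (Φ : A ⥤ AddCommGrpCat.{w}) [Φ.PreservesZeroMorphisms]
    (F : J → A) [PreservesColimit (Discrete.functor F) Φ] (x : Φ.obj (∐ F)) :
    ∃ S : Finset J, Φ.map (partProj F S) x = x := by
  classical
  let K : AddSubgroup (Φ.obj (∐ F)) :=
    { carrier := {y | ∃ S : Finset J, Φ.map (partProj F S) y = y}
      zero_mem' := ⟨∅, map_zero _⟩
      neg_mem' := fun {y} ⟨S, hS⟩ => ⟨S, by rw [map_neg, hS]⟩
      add_mem' := fun {y z} ⟨S, hS⟩ ⟨T, hT⟩ => by
        refine ⟨S ∪ T, ?_⟩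
        rw [map_add]
        congr 1
        · conv_lhs => rw [← hS, ← ConcreteCategory.comp_apply, ← Φ.map_comp,
            partProj_comp F Finset.subset_union_left, hS]
        · conv_lhs => rw [← hT, ← ConcreteCategory.comp_apply, ← Φ.map_comp,
            partProj_comp F Finset.subset_union_right, hT] }
  let q : Φ.obj (∐ F) ⟶ AddCommGrpCat.of (Φ.obj (∐ F) ⧸ K) :=
    AddCommGrpCat.ofHom (QuotientAddGroup.mk' K)
  have hq : q = 0 := (isColimitOfPreserves Φ (coproductIsCoproduct F)).hom_ext fun ⟨j⟩ => by
    rw [comp_zero]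
    refine AddCommGrpCat.hom_ext (AddMonoidHom.ext fun y => ?_)
    refine (QuotientAddGroup.eq_zero_iff _).2 ⟨{j}, ?_⟩
    show Φ.map (partProj F {j}) (Φ.map (Sigma.ι F j) y) = Φ.map (Sigma.ι F j) y
    rw [← ConcreteCategory.comp_apply, ← Φ.map_comp, ι_partProj_mem F (Finset.mem_singleton_self j)]
  exact (QuotientAddGroup.eq_zero_iff x).1 (congrArg (fun k => k x) hq)

end Groth.Agent.DSites.BddCompact
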