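import Groth.Agent.DSites.BddCompact
import Groth.Agent.H9Misc.TFactor
import Groth.Agent.TriCat.HocolimHomological
import Groth.Agent.TriCat.CellResolution
import Groth.Agent.TriCat.ResolveOp
import Groth.Agent.FlatCxLib.HomologyColim
import Groth.Agent.KFlatLib.BrutalTrunc
import Mathlib.CategoryTheory.Limits.Constructions.EventuallyConstant
import Mathlib.Algebra.Homology.DerivedCategory.ShortExact

/-!
# Compact objects are retracts of bounded complexes of finite sums of generators
-/

set_option autoImplicit false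
set_option linter.style.haveILetI false
set_option backward.isDefEq.respectTransparency false
set_option maxHeartbeats 1000000

universe w v u

open CategoryTheory CategoryTheory.Limits CategoryTheory.Pretriangulated Opposite
open Groth.Agent.DSites.PartProj Groth.Agent.KFlatLib

namespace Groth.Agent.DSites.CompactRetract

variable {A : Type u} [Category.{v} A] [Abelian A] [IsGrothendieckAbelian.{v} A]
  [HasDerivedCategory.{v} A] [HasCoproducts.{v} (DerivedCategory A)]

omit [HasDerivedCategory.{v} A] [HasCoproducts.{v} (DerivedCategory A)] in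
lemma hasExactColimitsOfShape_nat : HasExactColimitsOfShape ℕ A := by
  haveI := AB5OfSize_shrink.{0, 0, v, v} A
  exact AB5OfSize.ofShape ℕ

instance : HasColimitsOfShape (Discrete ℕ) (DerivedCategory A) :=
  TriCat.hasCountableCoproducts_of_hasCoproducts _

/-- A compatible system becoming invertible degree by degree is a homotopy colimit. -/
theorem isHocolim_of_eventually_iso {K : DerivedCategory A} (E : ℕ → DerivedCategory A)
    (f : ∀ n, E n ⟶ E (n + 1)) (i : ∀ n, E n ⟶ K) (hc : ∀ n, f n ≫ i (n + 1) = i n)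
    (h : ∀ p : ℤ, ∃ N : ℕ, ∀ n, N ≤ n →
      IsIso ((DerivedCategory.homologyFunctor A p).map (i n))) :
    DerLim.IsHocolim E f K i := by
  obtain ⟨L, j, hL⟩ := TriCat.exists_isHocolim E f
  obtain ⟨g, hg⟩ := TriCat.IsHocolim.exists_desc hL i hc
  haveI : HasExactColimitsOfShape ℕ A := hasExactColimitsOfShape_nat
  haveI : HasColimitsOfShape (Discrete ℕ) A := TriCat.hasColimitsOfShape_discrete_nat
  haveI : IsIso g := (DerivedCategory.isIso_iff _ g).2 fun p => by
    let H := DerivedCategory.homologyFunctor A p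
    haveI : PreservesColimitsOfShape (Discrete ℕ) H := ⟨fun {F} => by
      let K : ℕ → CochainComplex A ℤ := fun j => DerivedCategory.Q.objPreimage (F.obj ⟨j⟩)
      haveI := BddCompact.preservesColimit_Q K
      haveI := FlatCxLib.preservesColimitsOfShape_complexHomology (C := A) (J := Discrete ℕ)
        (ComplexShape.up ℤ) p
      haveI : PreservesColimit (Discrete.functor K) (DerivedCategory.Q ⋙ H) :=
        preservesColimit_of_natIso _ (DerivedCategory.homologyFunctorFactors A p).symm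
      haveI : PreservesColimit (Discrete.functor K ⋙ DerivedCategory.Q) H :=
        preservesColimit_of_preserves_colimit_cocone
          (isColimitOfPreserves DerivedCategory.Q (coproductIsCoproduct K))
          (isColimitOfPreserves (DerivedCategory.Q ⋙ H) (coproductIsCoproduct K))
      exact preservesColimit_of_iso_diagram H (K₁ := Discrete.functor K ⋙ DerivedCategory.Q)
        (Discrete.natIso fun j => DerivedCategory.Q.objObjPreimageIso (F.obj j))⟩
    obtain ⟨e, he⟩ := TriCat.exists_colimit_iso H E f L j hL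
    obtain ⟨N, hN⟩ := h p
    let F := Functor.ofSequence fun n => H.map (f n)
    have hF : F.IsEventuallyConstantFrom N := fun n a => by
      have hiN : IsIso (H.map (i N)) := hN N le_rfl
      have hin : IsIso (H.map (i n)) := hN n (leOfHom a)
      have hs : ∀ k, F.map (homOfLE (Nat.le_succ k)) ≫ H.map (i (k + 1)) = H.map (i k) := fun k => by
        have he' : F.map (homOfLE (Nat.le_succ k)) = H.map (f k) :=
          Functor.ofSequence_map_homOfLE_succ _ k
        exact (congrArg (· ≫ H.map (i (k + 1))) he').trans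
          ((H.map_comp _ _).symm.trans (congrArg H.map (hc k)))
      have hc' : F.map a ≫ H.map (i n) = H.map (i N) :=
        TriCat.cocone_of_succ F (fun k => H.map (i k)) hs (leOfHom a)
      exact @IsIso.of_isIso_fac_right _ _ _ _ _ _ _ _ hin hiN hc'
    have hι : IsIso (colimit.ι F N) := hF.isIso_ι_of_isColimit (colimit.isColimit F)
    haveI : IsIso (H.map (j N)) := by
      rw [← he N]; exact @IsIso.comp_isIso _ _ _ _ _ _ _ hι inferInstance
    haveI := hN N le_rfl
    exact IsIso.of_isIso_fac_left (show H.map (j N) ≫ H.map g = H.map (i N) by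
      rw [← H.map_comp, hg])
  have := TriCat.IsHocolim.of_iso hL (asIso g)
  simpa [hg] using this

/-- A compact object is bounded above. -/
theorem exists_isLE {K : DerivedCategory A} (hK : CohDer.IsCompactObject K) : ∃ b : ℤ, K.IsLE b := by
  let t := (DerivedCategory.TStructure.t : Triangulated.TStructure (DerivedCategory A))
  obtain ⟨n, g, hg⟩ := TriCat.IsHocolim.exists_factor (isHocolim_of_eventually_iso (K := K)
      (fun n : ℕ => (t.truncLT n).obj K)
      (fun n => (t.natTransTruncLTOfLE n (n + 1 : ℕ) (by omega)).app K)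
      (fun n => (t.truncLTι (n : ℤ)).app K)
      (fun n => t.natTransTruncLTOfLE_ι_app _ _ _ K)
      (fun p => ⟨p.natAbs + 1, fun n hn => H9Misc.isIso_map_truncLTι (n : ℤ) p (by omega) K⟩))
    hK (𝟙 K)
  refine ⟨(n : ℤ) - 1, (DerivedCategory.isLE_iff _ _).2 fun p hp => ?_⟩
  haveI : ((t.truncLT (n : ℤ)).obj K).IsLE ((n : ℤ) - 1) := t.isLE_truncLT_obj ..
  refine (IsZero.iff_id_eq_zero _).2 ?_
  have e := congrArg (DerivedCategory.homologyFunctor A p).map hg
  rw [Functor.map_comp, CategoryTheory.Functor.map_id] at e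
  rw [← e, (DerivedCategory.isZero_of_isLE _ ((n : ℤ) - 1) p (by omega)).eq_of_tgt
    ((DerivedCategory.homologyFunctor A p).map g) 0, zero_comp]

section Stupid

variable (L : CochainComplex A ℤ)

local notation "σ[" m "]" => L.stupidTrunc (ComplexShape.embeddingUpIntGE m)

/-- The transition maps between the brutal truncations. -/
lemma exists_stupid_trans (m m' : ℤ) (h : m' ≤ m) :
    ∃ g : σ[m] ⟶ σ[m'], g ≫ sigmaGEι L m' = sigmaGEι L m := by
  classical
  let g : ∀ j, (σ[m]).X j ⟶ (σ[m']).X j := fun j =>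
    if hj : m' ≤ j then
      haveI := isIso_sigmaGEι_f L m' j hj
      (sigmaGEι L m).f j ≫ inv ((sigmaGEι L m').f j)
    else 0
  have hg : ∀ j, g j ≫ (sigmaGEι L m').f j = (sigmaGEι L m).f j := fun j => by
    by_cases hj : m' ≤ j
    · simp [g, hj]
    · exact (isZero_stupidTrunc_of_lt L m j (by omega)).eq_of_src _ _
  refine ⟨⟨g, fun i j hij => ?_⟩, HomologicalComplex.Hom.ext (funext hg)⟩
  haveI := mono_sigmaGEι_f L m' j
  rw [← cancel_mono ((sigmaGEι L m').f j), Category.assoc, Category.assoc,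
    ← HomologicalComplex.Hom.comm, ← Category.assoc, hg, hg, HomologicalComplex.Hom.comm]

lemma isIso_H_sigmaGEι (m p : ℤ) (h : m < p) :
    IsIso ((DerivedCategory.homologyFunctor A p).map (DerivedCategory.Q.map (sigmaGEι L m))) := by
  refine (NatIso.isIso_map_iff (DerivedCategory.homologyFunctorFactors A p) (sigmaGEι L m)).2 ?_
  haveI := isIso_sigmaGEι_f L m (p - 1) (by omega)
  haveI := isIso_sigmaGEι_f L m p (by omega)
  haveI := isIso_sigmaGEι_f L m (p + 1) (by omega)
  refine (quasiIsoAt_iff_isIso_homologyMap _ _).1 ?_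
  rw [quasiIsoAt_iff' (sigmaGEι L m) (p - 1) p (p + 1) (by simp) (by simp)]
  let φ := (HomologicalComplex.shortComplexFunctor' A (ComplexShape.up ℤ) (p - 1) p (p + 1)).map
    (sigmaGEι L m)
  haveI : IsIso φ.τ₁ := inferInstanceAs (IsIso ((sigmaGEι L m).f (p - 1)))
  haveI : IsIso φ.τ₂ := inferInstanceAs (IsIso ((sigmaGEι L m).f p))
  haveI : IsIso φ.τ₃ := inferInstanceAs (IsIso ((sigmaGEι L m).f (p + 1)))
  exact ShortComplex.quasiIso_of_epi_of_isIso_of_mono φ

/-- A map from a compact object into a complex factors through a brutal truncation. -/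
theorem exists_stupid_factor {K : DerivedCategory A} (hK : CohDer.IsCompactObject K)
    (φ : K ⟶ DerivedCategory.Q.obj L) :
    ∃ (m : ℤ) (ψ : K ⟶ DerivedCategory.Q.obj (σ[m])),
      ψ ≫ DerivedCategory.Q.map (sigmaGEι L m) = φ := by
  choose g hg using fun n : ℕ => exists_stupid_trans L (-(n : ℤ)) (-((n + 1 : ℕ) : ℤ)) (by omega)
  obtain ⟨n, ψ, hψ⟩ := TriCat.IsHocolim.exists_factor (isHocolim_of_eventually_iso
    (fun n : ℕ => DerivedCategory.Q.obj (σ[-(n : ℤ)]))
    (fun n => DerivedCategory.Q.map (g n))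
    (fun n => DerivedCategory.Q.map (sigmaGEι L (-(n : ℤ))))
    (fun n => by rw [← Functor.map_comp, hg])
    (fun p => ⟨p.natAbs + 1, fun n hn => isIso_H_sigmaGEι L _ p (by omega)⟩)) hK φ
  exact ⟨_, ψ, hψ⟩

end Stupid

section Finite

variable [HasFiniteBiproducts A] (S : Set A)

/-- Sums of members of `S`. -/
def IsSum (X : A) : Prop := ∃ (κ : Type v) (E : κ → A), (∀ k, E k ∈ S) ∧ Nonempty (X ≅ ∐ E)

/-- Finite sums of members of `S`. -/
def IsFinSum (X : A) : Prop := ∃ (n : ℕ) (E : Fin n → A), (∀ j, E j ∈ S) ∧ Nonempty (X ≅ ⨁ E)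

lemma isFinSum_of_isZero {X : A} (h : IsZero X) : IsFinSum S X :=
  ⟨0, Fin.elim0, fun j => j.elim0, ⟨h.iso ((IsZero.iff_id_eq_zero _).2
    (biproduct.hom_ext _ _ fun j => j.elim0))⟩⟩

variable {S} in
lemma IsSum.of_iso {X Y : A} (e : X ≅ Y) : IsSum S X → IsSum S Y :=
  fun ⟨κ, E, h, ⟨e'⟩⟩ => ⟨κ, E, h, ⟨e.symm ≪≫ e'⟩⟩

variable {S} in
lemma IsFinSum.of_iso {X Y : A} (e : X ≅ Y) : IsFinSum S X → IsFinSum S Y :=
  fun ⟨n, E, h, ⟨e'⟩⟩ => ⟨n, E, h, ⟨e.symm ≪≫ e'⟩⟩

variable {S} in
lemma IsFinSum.isSum {X : A} : IsFinSum S X → IsSum S X := fun ⟨n, E, h, ⟨e⟩⟩ =>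
  ⟨ULift.{v} (Fin n), fun k => E k.down, fun k => h _, ⟨e ≪≫ biproduct.isoCoproduct E ≪≫
    (Sigma.whiskerEquiv (f := fun k : ULift.{v} (Fin n) => E k.down) (g := E) Equiv.ulift
      fun _ => Iso.refl _).symm⟩⟩

variable (h2 : ∀ E ∈ S, ∀ ι : Type v, PreservesColimitsOfShape (Discrete ι) (preadditiveCoyoneda.obj (op E)))

include h2 in
/-- A map from a finite sum of members of `S` sees finitely many summands. -/
lemma exists_fix_of_isFinSum {X : A} (hX : IsFinSum S X) {κ : Type v} (E : κ → A) (d : X ⟶ ∐ E) :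
    ∃ F : Finset κ, d ≫ partProj E F = d := by
  classical
  obtain ⟨n, E₀, hE₀, ⟨e⟩⟩ := hX
  have hj : ∀ j, ∃ F : Finset κ, (biproduct.ι E₀ j ≫ e.inv ≫ d) ≫ partProj E F =
      biproduct.ι E₀ j ≫ e.inv ≫ d := fun j => by
    haveI := h2 _ (hE₀ j) κ
    exact BddCompact.exists_fix_of_preserves (preadditiveCoyoneda.obj (op (E₀ j))) E _
  choose F hF using hj
  refine ⟨Finset.univ.biUnion F, (cancel_epi e.inv).1 (biproduct.hom_ext' _ _ fun j => ?_)⟩
  have := fix_mono (G := Finset.univ.biUnion F)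
    (Finset.subset_biUnion_of_mem F (Finset.mem_univ j)) (hF j)
  simpa only [Category.assoc] using this

include h2 in
/-- One step of the finiteness dévissage. -/
theorem exists_step {K : DerivedCategory A} (hK : CohDer.IsCompactObject K) (L : CochainComplex A ℤ)
    (c : ℤ) (hc : IsSum S (L.X c)) (hc₀ : IsFinSum S (L.X (c - 1)))
    (φ : K ⟶ DerivedCategory.Q.obj L) :
    ∃ (L' : CochainComplex A ℤ) (u : L' ⟶ L) (ψ : K ⟶ DerivedCategory.Q.obj L'),
      ψ ≫ DerivedCategory.Q.map u = φ ∧ IsFinSum S (L'.X c) ∧ ∀ j, j ≠ c → IsIso (u.f j) := by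
  classical
  obtain ⟨κ, E, hE, ⟨e⟩⟩ := hc
  obtain ⟨F₀, hF₀⟩ := exists_fix_of_isFinSum S h2 hc₀ E (L.d (c - 1) c ≫ e.hom)
  -- the complementary idempotents
  let Q₀ : Finset κ → (∐ E ⟶ ∐ E) := fun F => 𝟙 _ - partProj E F
  have hQ : ∀ F, F₀ ⊆ F → (L.d (c - 1) c ≫ e.hom) ≫ Q₀ F = 0 := fun F hF => by
    simp only [Q₀, Preadditive.comp_sub, Category.comp_id, fix_mono hF hF₀, sub_self]
  let single := HomologicalComplex.single A (ComplexShape.up ℤ) c
  let p₀ : L ⟶ single.obj (∐ E) := HomologicalComplex.mkHomToSingle (e.hom ≫ Q₀ F₀)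
    fun j (hj : j + 1 = c) => by
      obtain rfl : j = c - 1 := by omega
      rw [← Category.assoc, hQ F₀ subset_rfl]
  let Φ : A ⥤ DerivedCategory A := DerivedCategory.singleFunctor A c
  haveI := BddCompact.preservesColimit_singleFunctor E c
  let η : single ⋙ DerivedCategory.Q ≅ Φ := (DerivedCategory.singleFunctorIsoCompQ A c).symm
  let x : K ⟶ Φ.obj (∐ E) := φ ≫ DerivedCategory.Q.map p₀ ≫ η.hom.app _
  obtain ⟨F₁, a, ha⟩ := TriCat.IsCompactObject.finFactor hK (x ≫ inv (sigmaComparison Φ E))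
  have hx : x ≫ Φ.map (partProj E F₁) = x := by
    have h : (x ≫ inv (sigmaComparison Φ E)) ≫ partProj (fun k => Φ.obj (E k)) F₁ =
        x ≫ inv (sigmaComparison Φ E) := by
      rw [ha, Preadditive.sum_comp]
      exact Finset.sum_congr rfl fun k hk => by rw [Category.assoc, ι_partProj_mem _ hk]
    have h' := congrArg (· ≫ sigmaComparison Φ E) h
    simp only [Category.assoc, ← sigmaComparison_partProj E Φ F₁, IsIso.inv_hom_id_assoc,
      IsIso.inv_hom_id, Category.comp_id] at h'
    exact h'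
  let F := F₀ ∪ F₁
  let q : ∐ E ⟶ ∐ fun k : {k // k ∉ F} => E k.1 :=
    Sigma.desc fun k => if hk : k ∈ F then 0 else
      Sigma.ι (fun k : {k // k ∉ F} => E k.1) ⟨k, hk⟩
  let s : (∐ fun k : {k // k ∉ F} => E k.1) ⟶ ∐ E := Sigma.desc fun k => Sigma.ι E k.1
  have hsq : s ≫ q = 𝟙 _ := Sigma.hom_ext _ _ fun k => by simp [s, q, k.2]
  haveI : Epi q := (SplitEpi.mk s hsq).epi
  have hPq : ∀ G, G ⊆ F → partProj E G ≫ q = 0 := fun G hG => Sigma.hom_ext _ _ fun k => by
    by_cases hk : k ∈ G
    · rw [← Category.assoc, ι_partProj_mem E hk, comp_zero]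
      simp [q, hG hk]
    · rw [← Category.assoc, ι_partProj_not_mem E hk, zero_comp, comp_zero]
  let p : L ⟶ single.obj (∐ fun k : {k // k ∉ F} => E k.1) := p₀ ≫ single.map q
  have hp : p.f c = (e.hom ≫ q) ≫ (HomologicalComplex.singleObjXSelf (ComplexShape.up ℤ) c _).inv := by
    simp only [p, p₀, single, HomologicalComplex.comp_f, HomologicalComplex.single_map_f_self]
    erw [HomologicalComplex.mkHomToSingle_f]
    have hQq : Q₀ F₀ ≫ q = q := by
      simp only [Q₀, Preadditive.sub_comp, Category.id_comp, hPq F₀ Finset.subset_union_left,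
        sub_zero]
    simp only [Category.assoc, Iso.inv_hom_id_assoc, reassoc_of% hQq]
  have hzero : φ ≫ DerivedCategory.Q.map p = 0 := by
    rw [← cancel_mono (η.hom.app _)]
    have n := η.hom.naturality q
    simp only [Functor.comp_map] at n
    rw [zero_comp]
    simp only [p, Functor.map_comp, Category.assoc]
    rw [n]
    refine (congrArg (φ ≫ ·) (Category.assoc _ _ _).symm).trans ?_
    refine (Category.assoc _ _ _).symm.trans ?_
    change x ≫ Φ.map q = 0
    rw [← hx, Category.assoc, ← Φ.map_comp, hPq F₁ Finset.subset_union_right, Functor.map_zero,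
      comp_zero]
  haveI : ∀ j, Epi (p.f j) := fun j => by
    by_cases hj : j = c
    · subst hj
      rw [hp]
      exact epi_comp _ _
    · exact ⟨fun _ _ _ => (HomologicalComplex.isZero_single_obj_X _ _ _ _ hj).eq_of_src _ _⟩
  haveI : Epi p := HomologicalComplex.epi_of_epi_f _ inferInstance
  let Sc : ShortComplex (CochainComplex A ℤ) :=
    ShortComplex.mk (kernel.ι p) p (kernel.condition _)
  have hSES : Sc.ShortExact :=
    { exact := ShortComplex.exact_of_f_is_kernel _ (kernelIsKernel p) }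
  have hSES' := fun j : ℤ =>
    hSES.map_of_exact (HomologicalComplex.eval A (ComplexShape.up ℤ) j)
  have hiso : ∀ j, j ≠ c → IsIso ((kernel.ι p).f j) := fun j hj => by
    haveI : Mono ((kernel.ι p).f j) := (hSES' j).mono_f
    haveI : Epi ((kernel.ι p).f j) := (hSES' j).exact.epi_f
      ((HomologicalComplex.isZero_single_obj_X (ComplexShape.up ℤ) c _ j hj).eq_of_tgt _ _)
    exact isIso_of_mono_of_epi _
  -- the kernel in degree `c`
  let f := (kernel.ι p).f c
  haveI : Mono f := (hSES' c).mono_f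
  let E' : F → A := fun k => E k.1
  let i : ⨁ E' ⟶ ∐ E := biproduct.desc fun k => Sigma.ι E k.1
  let r : ∐ E ⟶ ⨁ E' := Sigma.desc fun k => if hk : k ∈ F then biproduct.ι E' ⟨k, hk⟩ else 0
  have hir : i ≫ r = 𝟙 _ := biproduct.hom_ext' _ _ fun ⟨k, hk⟩ => by simp [i, r, hk, E']
  have hri : r ≫ i = partProj E F := Sigma.hom_ext _ _ fun k => by
    by_cases hk : k ∈ F
    · rw [ι_partProj_mem E hk]; simp [i, r, hk, E']
    · rw [ι_partProj_not_mem E hk]; simp [i, r, hk]
  have hqs : q ≫ s = 𝟙 _ - partProj E F := Sigma.hom_ext _ _ fun k => by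
    rw [Preadditive.comp_sub, Category.comp_id]
    by_cases hk : k ∈ F
    · rw [ι_partProj_mem E hk]; simp [q, s, hk]
    · rw [ι_partProj_not_mem E hk]; simp [q, s, hk]
  have hfq : f ≫ e.hom ≫ q = 0 := by
    have h := congrArg (fun g => g.f c) (kernel.condition p)
    simp only [HomologicalComplex.comp_f, HomologicalComplex.zero_f, hp] at h
    rw [← Category.assoc, ← zero_comp (f := (HomologicalComplex.singleObjXSelf (ComplexShape.up ℤ) c
      (∐ fun k : {k // k ∉ F} => E k.1)).inv), cancel_mono] at h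
    exact h
  have hig : (i ≫ e.inv) ≫ p.f c = 0 := by
    rw [hp, Category.assoc, Category.assoc, e.inv_hom_id_assoc, ← Category.assoc i q]
    have : i ≫ q = 0 := biproduct.hom_ext' _ _ fun ⟨k, hk⟩ => by simp [i, q, hk, E']
    rw [this, zero_comp]
  haveI : Mono (Sc.map (HomologicalComplex.eval A (ComplexShape.up ℤ) c)).f := (hSES' c).mono_f
  let b : ⨁ E' ⟶ (kernel p).X c := (hSES' c).exact.lift (i ≫ e.inv) hig
  have hb : b ≫ f = i ≫ e.inv := (hSES' c).exact.lift_f _ _
  have hf : (f ≫ e.hom ≫ r) ≫ i ≫ e.inv = f := by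
    have h' : (f ≫ e.hom) ≫ q ≫ s = 0 := by simp [reassoc_of% hfq]
    rw [hqs, Preadditive.comp_sub, Category.comp_id, sub_eq_zero] at h'
    simp only [Category.assoc] at h' ⊢
    rw [← Category.assoc r, hri, ← reassoc_of% h', e.hom_inv_id, Category.comp_id]
  let eK : (kernel p).X c ≅ ⨁ E' :=
    { hom := f ≫ e.hom ≫ r
      inv := b
      hom_inv_id := by rw [← cancel_mono f, Category.assoc, hb, Category.id_comp, hf]
      inv_hom_id := by rw [reassoc_of% hb, e.inv_hom_id_assoc, hir] }
  have hfin : IsFinSum S (⨁ E') :=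
    ⟨F.card, fun j => E' (F.equivFin.symm j), fun j => hE _,
      ⟨(biproduct.whiskerEquiv F.equivFin.symm fun _ => Iso.refl _).symm⟩⟩
  obtain ⟨ψ, hψ⟩ := Triangle.coyoneda_exact₂ _
    (DerivedCategory.triangleOfSES_distinguished hSES) φ hzero
  exact ⟨kernel p, kernel.ι p, ψ, hψ.symm, hfin.of_iso eK.symm, hiso⟩

include h2 in
/-- A map from a compact object into a bounded complex of sums factors through finite sums. -/
theorem exists_finite_factor {K : DerivedCategory A} (hK : CohDer.IsCompactObject K) (a b : ℤ) :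
    ∀ (k : ℕ) (c : ℤ), b + 1 ≤ c + k → ∀ (L : CochainComplex A ℤ),
      (∀ j, j < a ∨ b < j → IsZero (L.X j)) → (∀ j, IsSum S (L.X j)) →
      (∀ j < c, IsFinSum S (L.X j)) → ∀ φ : K ⟶ DerivedCategory.Q.obj L,
      ∃ (L' : CochainComplex A ℤ) (u : L' ⟶ L) (ψ : K ⟶ DerivedCategory.Q.obj L'),
        ψ ≫ DerivedCategory.Q.map u = φ ∧ (∀ j, j < a ∨ b < j → IsZero (L'.X j)) ∧
        ∀ j, IsFinSum S (L'.X j) := by
  intro k
  induction k with
  | zero =>
    intro c hc L hz _ hfin φ
    refine ⟨L, 𝟙 L, φ, by simp, hz, fun j => ?_⟩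
    by_cases hj : j < c
    · exact hfin j hj
    · exact isFinSum_of_isZero S (hz j (Or.inr (by omega)))
  | succ k ih =>
    intro c hc L hz hsum hfin φ
    by_cases hcK : c < a ∨ b < c
    · refine ih (c + 1) (by omega) L hz hsum (fun j hj => ?_) φ
      by_cases hj' : j < c
      · exact hfin j hj'
      · obtain rfl : j = c := by omega
        exact isFinSum_of_isZero S (hz j hcK)
    obtain ⟨L', u, ψ, hψ, hfin', hiso⟩ :=
      exists_step S h2 hK L c (hsum c) (hfin (c - 1) (by omega)) φ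
    have hz' : ∀ j, j < a ∨ b < j → IsZero (L'.X j) := fun j hj => by
      haveI := hiso j (by rintro rfl; exact hcK hj)
      exact (hz j hj).of_iso (asIso (u.f j))
    have hsum' : ∀ j, IsSum S (L'.X j) := fun j => by
      by_cases hj : j = c
      · subst hj; exact hfin'.isSum
      · haveI := hiso j hj
        exact (hsum j).of_iso (asIso (u.f j)).symm
    obtain ⟨L'', v, χ, hχ, h₁, h₂⟩ := ih (c + 1) (by omega) L' hz' hsum' (fun j hj => by
      by_cases hj' : j = c
      · subst hj'; exact hfin'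
      · haveI := hiso j hj'
        exact (hfin j (by omega)).of_iso (asIso (u.f j)).symm) ψ
    exact ⟨L'', v ≫ u, χ, by rw [Functor.map_comp, ← Category.assoc, hχ, hψ], h₁, h₂⟩

include h2 in
/-- A compact object is a retract of a bounded complex of finite sums of members of a generating
set of finitely presented-like objects. -/
theorem exists_retract
    (h1 : ∀ X : A, ∃ (ι : Type v) (E : ι → A) (π : ∐ E ⟶ X), (∀ i, E i ∈ S) ∧ Epi π)
    {K : DerivedCategory A} (hK : CohDer.IsCompactObject K) :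
    ∃ (L : CochainComplex A ℤ) (a b : ℤ),
      (∀ i : ℤ, i < a ∨ b < i → IsZero (L.X i)) ∧ (∀ i : ℤ, IsFinSum S (L.X i)) ∧
      Nonempty (Retract K (DerivedCategory.Q.obj L)) := by
  obtain ⟨b, hb⟩ := exists_isLE hK
  obtain ⟨C, hC, ⟨eC⟩⟩ := K.exists_iso_Q_obj_of_isLE b
  obtain ⟨L, α, hLb, hLS, -, hα⟩ := TriCat.exists_quasiIso_left_resolution (fun X : A => IsSum S X)
    ⟨∐ (PEmpty.elim : PEmpty.{v + 1} → A),
      (IsZero.iff_id_eq_zero _).2 (Sigma.hom_ext _ _ fun k => k.elim),
      PEmpty.{v + 1}, PEmpty.elim, fun k => k.elim, ⟨Iso.refl _⟩⟩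
    (fun X => by
      obtain ⟨ι, E, π, hE, hπ⟩ := h1 X
      exact ⟨∐ E, π, ⟨ι, E, hE, ⟨Iso.refl _⟩⟩, hπ⟩) C b
  haveI : IsIso (DerivedCategory.Q.map α) := (DerivedCategory.isIso_Q_map_iff_quasiIso (φ := α)).2 hα
  let eP : K ≅ DerivedCategory.Q.obj L := eC ≪≫ (asIso (DerivedCategory.Q.map α)).symm
  obtain ⟨m, s, hs⟩ := exists_stupid_factor L hK eP.hom
  let G := L.stupidTrunc (ComplexShape.embeddingUpIntGE m)
  have hGz : ∀ j, j < m ∨ b < j → IsZero (G.X j) := fun j hj => by
    by_cases h : j < m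
    · exact isZero_stupidTrunc_of_lt L m j h
    · haveI := isIso_sigmaGEι_f L m j (by omega)
      haveI := hLb
      exact (L.isZero_of_isStrictlyLE b j (by omega)).of_iso (asIso ((sigmaGEι L m).f j))
  have hGS : ∀ j, IsSum S (G.X j) := fun j => by
    by_cases h : j < m
    · exact (isFinSum_of_isZero S (hGz j (Or.inl h))).isSum
    · haveI := isIso_sigmaGEι_f L m j (by omega)
      exact (hLS j).of_iso (asIso ((sigmaGEι L m).f j)).symm
  obtain ⟨L', u, ψ, hψ, hz, hfin⟩ := exists_finite_factor S h2 hK m b (b + 1 - m).toNat m (by omega)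
    G hGz hGS (fun j hj => isFinSum_of_isZero S (hGz j (Or.inl hj))) s
  refine ⟨L', m, b, hz, hfin,
    ⟨⟨ψ, DerivedCategory.Q.map u ≫ DerivedCategory.Q.map (sigmaGEι L m) ≫ eP.inv, ?_⟩⟩⟩
  rw [reassoc_of% hψ, reassoc_of% hs, eP.hom_inv_id]

end Finite

end Groth.Agent.DSites.CompactRetract
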