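import Groth.Agent.TriCat.DerivedOfAdjunction
import Groth.Agent.TriCat.DerivedProducts
import Mathlib.Algebra.Homology.DerivedCategory.Fractions
import Mathlib.Algebra.Homology.DerivedCategory.KInjective
import Mathlib.CategoryTheory.Abelian.GrothendieckAxioms.Basic
import Mathlib.Algebra.Homology.ShortComplex.ExactFunctor

/-!
# Countable products of complexes in derived categories, and the unit at K-injective complexes
-/

set_option autoImplicit false

universe t w w' v v' u u'

open CategoryTheory CategoryTheory.Limits CategoryTheory.Category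

namespace Groth.Agent.DSites.DerPi

section

variable {B : Type u} [Category.{v} B] [Abelian B] {J : Type t} [HasLimitsOfShape (Discrete J) B]

/-- Products of quasi-isomorphisms are quasi-isomorphisms when products are exact. -/
lemma quasiIso_piMap [HasExactLimitsOfShape (Discrete J) B] {K L : J → CochainComplex B ℤ}
    (s : ∀ j, K j ⟶ L j) (hs : ∀ j, QuasiIso (s j)) : QuasiIso (Limits.Pi.map s) := by
  refine ⟨fun i => ?_⟩
  let X : (J → CochainComplex B ℤ) → ℤ → (Discrete J ⥤ B) := fun M n =>
    Discrete.functor fun j => (M j).X n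
  let d : ∀ (M : J → CochainComplex B ℤ) (m n : ℤ), X M m ⟶ X M n := fun M m n =>
    Discrete.natTrans fun j => (M j.as).d m n
  let i₀ := (ComplexShape.up ℤ).prev i
  let i₁ := (ComplexShape.up ℤ).next i
  let S : (J → CochainComplex B ℤ) → ShortComplex (Discrete J ⥤ B) := fun M =>
    ShortComplex.mk (d M i₀ i) (d M i i₁) (by ext ⟨j⟩; exact (M j).d_comp_d _ _ _)
  let φ : S K ⟶ S L :=
    { τ₁ := Discrete.natTrans fun j => (s j.as).f i₀
      τ₂ := Discrete.natTrans fun j => (s j.as).f i
      τ₃ := Discrete.natTrans fun j => (s j.as).f i₁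
      comm₁₂ := by ext ⟨j⟩; exact (s j).comm _ _
      comm₂₃ := by ext ⟨j⟩; exact (s j).comm _ _ }
  have hφ : ShortComplex.QuasiIso φ := by
    rw [ShortComplex.quasiIso_iff]
    have : ∀ j, IsIso ((ShortComplex.homologyMap φ).app j) := by
      rintro ⟨j⟩
      let E := (evaluation (Discrete J) B).obj ⟨j⟩
      have h1 : IsIso (ShortComplex.homologyMap (E.mapShortComplex.map φ)) := by
        rw [← ShortComplex.quasiIso_iff]
        exact ((quasiIsoAt_iff (s j) i).1 ((hs j).quasiIsoAt i))
      have h2 := ShortComplex.mapHomologyIso_hom_naturality φ E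
      show IsIso (E.map (ShortComplex.homologyMap φ))
      have h3 : IsIso (((S K).mapHomologyIso E).hom ≫ E.map (ShortComplex.homologyMap φ)) := by
        rw [← h2]; exact IsIso.comp_isIso' h1 inferInstance
      exact IsIso.of_isIso_comp_left ((S K).mapHomologyIso E).hom _
    exact NatIso.isIso_of_isIso_app _
  have hc : ShortComplex.QuasiIso ((lim (J := Discrete J) (C := B)).mapShortComplex.map φ) :=
    ShortComplex.quasiIso_map_of_preservesLeftHomology _ φ
  have iso : ∀ (M : J → CochainComplex B ℤ) (n : ℤ), IsIso (limit.lift (X M n)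
      (Fan.mk _ fun j => (Pi.π M j).f n)) := fun M n =>
    inferInstanceAs (IsIso (piComparison (HomologicalComplex.eval B (ComplexShape.up ℤ) n) M))
  let eX : ∀ (M : J → CochainComplex B ℤ) (n : ℤ), (∏ᶜ M).X n ≅ limit (X M n) :=
    fun M n => @asIso _ _ _ _ _ (iso M n)
  have hX : ∀ (M : J → CochainComplex B ℤ) (n : ℤ) (j : J),
      (eX M n).hom ≫ limit.π (X M n) ⟨j⟩ = (Pi.π M j).f n := fun M n j => limit.lift_π _ _
  have hd : ∀ (M : J → CochainComplex B ℤ) (m n : ℤ),
      (eX M m).hom ≫ limMap (d M m n) = (∏ᶜ M).d m n ≫ (eX M n).hom := fun M m n => by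
    refine limit.hom_ext fun ⟨j⟩ => ?_
    rw [assoc, assoc, limMap_π, ← assoc, hX, hX, ← HomologicalComplex.Hom.comm]
    rfl
  have hsX : ∀ n : ℤ, (eX K n).hom ≫
      limMap (Discrete.natTrans fun j => (s j.as).f n : X K n ⟶ X L n) =
        (Limits.Pi.map s).f n ≫ (eX L n).hom := fun n => by
    refine limit.hom_ext fun ⟨j⟩ => ?_
    rw [assoc, assoc, limMap_π, ← assoc, hX, hX, ← HomologicalComplex.comp_f, Limits.Pi.map_π,
      HomologicalComplex.comp_f]
    rfl
  let e : ∀ (M : J → CochainComplex B ℤ), (∏ᶜ M).sc i ≅ lim.mapShortComplex.obj (S M) := fun M =>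
    ShortComplex.isoMk (eX M i₀) (eX M i) (eX M i₁) (hd M i₀ i) (hd M i i₁)
  rw [quasiIsoAt_iff]
  have sq : (e K).hom ≫ lim.mapShortComplex.map φ =
      (HomologicalComplex.shortComplexFunctor B (ComplexShape.up ℤ) i).map
        (Limits.Pi.map s) ≫ (e L).hom := by
    ext1
    · exact hsX i₀
    · exact hsX i
    · exact hsX i₁
  have : ShortComplex.QuasiIso ((HomologicalComplex.shortComplexFunctor B (ComplexShape.up ℤ) i).map
      (Limits.Pi.map s) ≫ (e L).hom) := sq ▸ inferInstance
  exact (ShortComplex.quasiIso_iff_comp_right _ (e L).hom).1 this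

variable [HasDerivedCategory.{w} B]

omit [HasLimitsOfShape (Discrete J) B] in
lemma Qh_quotient_map {K L : CochainComplex B ℤ} (f : K ⟶ L) :
    DerivedCategory.Qh.map ((HomotopyCategory.quotient B (ComplexShape.up ℤ)).map f) =
      (DerivedCategory.quotientCompQhIso B).hom.app K ≫ DerivedCategory.Q.map f ≫
        (DerivedCategory.quotientCompQhIso B).inv.app L := by
  rw [← assoc, ← (DerivedCategory.quotientCompQhIso B).hom.naturality f, assoc,
    Iso.hom_inv_id_app, comp_id]
  rfl

/-- Morphisms into a product of complexes in the derived category, exact products. -/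
lemma bijective_Q_pi [HasExactLimitsOfShape (Discrete J) B] (L : J → CochainComplex B ℤ)
    (Y : DerivedCategory B) :
    Function.Bijective fun (g : Y ⟶ DerivedCategory.Q.obj (∏ᶜ L)) (j : J) =>
      g ≫ DerivedCategory.Q.map (Pi.π L j) := by
  let Z := DerivedCategory.Q.objPreimage Y
  let eY : DerivedCategory.Q.obj Z ≅ Y := DerivedCategory.Q.objObjPreimageIso Y
  refine ⟨fun g g' h => sub_eq_zero.1 ?_, fun g => ?_⟩
  · have h0 : ∀ j, (g - g') ≫ DerivedCategory.Q.map (Pi.π L j) = 0 := fun j => by
      rw [Preadditive.sub_comp, sub_eq_zero]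
      exact congrFun h j
    obtain ⟨Z', s, hs, f, hf⟩ := DerivedCategory.right_fac (eY.hom ≫ (g - g'))
    have hf0 : ∀ j, DerivedCategory.Qh.map ((HomotopyCategory.quotient B (ComplexShape.up ℤ)).map
        (f ≫ Pi.π L j)) = DerivedCategory.Qh.map 0 := fun j => by
      have : DerivedCategory.Q.map (f ≫ Pi.π L j) = 0 := by
        rw [← cancel_epi (inv (DerivedCategory.Q.map s)), Functor.map_comp, ← assoc, ← hf, assoc,
          h0, comp_zero, comp_zero]
      rw [Qh_quotient_map, this, zero_comp, comp_zero, Functor.map_zero]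
    choose T r hr hfr using fun j => (MorphismProperty.map_eq_iff_postcomp DerivedCategory.Qh
      (HomotopyCategory.quasiIso B (ComplexShape.up ℤ)) _ _).1 (hf0 j)
    choose T' hT' using fun j => HomotopyCategory.quotient_obj_surjective (T j)
    obtain rfl : T = fun j => (HomotopyCategory.quotient B (ComplexShape.up ℤ)).obj (T' j) :=
      funext fun j => (hT' j).symm
    choose r' hr' using fun j => (HomotopyCategory.quotient B (ComplexShape.up ℤ)).map_surjective (r j)
    obtain rfl : r = fun j => (HomotopyCategory.quotient B (ComplexShape.up ℤ)).map (r' j) :=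
      funext fun j => (hr' j).symm
    have hq : IsIso (DerivedCategory.Q.map (Limits.Pi.map r')) := by
      rw [DerivedCategory.isIso_Q_map_iff_quasiIso]
      exact quasiIso_piMap r' fun j => (HomotopyCategory.quotient_map_mem_quasiIso_iff _).1 (hr j)
    have h1 : (HomotopyCategory.quotient B (ComplexShape.up ℤ)).map (f ≫ Limits.Pi.map r') = 0 := by
      rw [← Functor.map_zero (HomotopyCategory.quotient B (ComplexShape.up ℤ))]
      refine TriCat.quotient_hom_ext_pi _ _ fun j => ?_
      rw [assoc, Limits.Pi.map_π, zero_comp, Functor.map_zero, ← assoc, Functor.map_comp]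
      exact (hfr j).trans zero_comp
    have h2 : DerivedCategory.Q.map (f ≫ Limits.Pi.map r') = 0 := by
      have := congrArg DerivedCategory.Qh.map h1
      rw [Qh_quotient_map, Functor.map_zero] at this
      rw [← cancel_epi ((DerivedCategory.quotientCompQhIso B).hom.app _),
        ← cancel_mono ((DerivedCategory.quotientCompQhIso B).inv.app _), assoc]
      simpa using this
    have h3 : DerivedCategory.Q.map f = 0 := by
      rw [← cancel_mono (DerivedCategory.Q.map (Limits.Pi.map r')), ← Functor.map_comp, h2,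
        zero_comp]
    rw [← cancel_epi eY.hom, hf, h3, comp_zero, comp_zero]
  · choose L' f r hr hfr using fun j => DerivedCategory.left_fac (eY.hom ≫ g j)
    have hq : IsIso (DerivedCategory.Q.map (Limits.Pi.map r)) := by
      rw [DerivedCategory.isIso_Q_map_iff_quasiIso]
      exact quasiIso_piMap r fun j =>
        (DerivedCategory.isIso_Q_map_iff_quasiIso _ (r j)).1 (hr j)
    refine ⟨eY.inv ≫ DerivedCategory.Q.map (Pi.lift f) ≫ inv (DerivedCategory.Q.map (Limits.Pi.map r)),
      funext fun j => ?_⟩
    have : inv (DerivedCategory.Q.map (Limits.Pi.map r)) ≫ DerivedCategory.Q.map (Pi.π L j) =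
        DerivedCategory.Q.map (Pi.π L' j) ≫ inv (DerivedCategory.Q.map (r j)) := by
      rw [IsIso.inv_comp_eq, ← assoc, IsIso.eq_comp_inv, ← Functor.map_comp, ← Functor.map_comp,
        Limits.Pi.map_π]
    dsimp only
    rw [assoc, assoc, this, ← Functor.map_comp_assoc, Pi.lift_π, ← hfr, Iso.inv_hom_id_assoc]

end

section

variable {A : Type u} [Category.{v} A] [Abelian A] [HasDerivedCategory.{w} A] {J : Type t}
  [HasLimitsOfShape (Discrete J) A] (I : J → CochainComplex A ℤ) [∀ j, (I j).IsKInjective]

omit [HasDerivedCategory.{w} A] in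
lemma isKInjective_pi : (∏ᶜ I).IsKInjective :=
  ⟨fun {K} f hK => ⟨HomotopyCategory.homotopyOfEq _ _ (TriCat.quotient_hom_ext_pi f 0 fun n => by
    rw [zero_comp]
    exact HomotopyCategory.eq_of_homotopy _ _
      (CochainComplex.IsKInjective.homotopyZero (f ≫ Pi.π I n) hK))⟩⟩

/-- Morphisms into a product of K-injective complexes in the derived category. -/
lemma bijective_Qh_pi (Y : DerivedCategory A) :
    Function.Bijective fun (g : Y ⟶ DerivedCategory.Qh.obj
        ((HomotopyCategory.quotient A (ComplexShape.up ℤ)).obj (∏ᶜ I))) (j : J) =>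
      g ≫ DerivedCategory.Qh.map ((HomotopyCategory.quotient A _).map (Pi.π I j)) := by
  haveI := isKInjective_pi I
  obtain ⟨K, ⟨e⟩⟩ : ∃ K, Nonempty (DerivedCategory.Qh.obj
      ((HomotopyCategory.quotient A (ComplexShape.up ℤ)).obj K) ≅ Y) :=
    ⟨_, ⟨(DerivedCategory.quotientCompQhIso A).app (DerivedCategory.Q.objPreimage Y) ≪≫
      DerivedCategory.Q.objObjPreimageIso Y⟩⟩
  refine ⟨fun f g h => ?_, fun g => ?_⟩
  · obtain ⟨f', hf'⟩ := (CochainComplex.IsKInjective.Qh_map_bijective _ (∏ᶜ I)).2 (e.hom ≫ f)
    obtain ⟨g', hg'⟩ := (CochainComplex.IsKInjective.Qh_map_bijective _ (∏ᶜ I)).2 (e.hom ≫ g)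
    rw [← cancel_epi e.hom, ← hf', ← hg']
    obtain ⟨f'', rfl⟩ := (HomotopyCategory.quotient A (ComplexShape.up ℤ)).map_surjective f'
    obtain ⟨g'', rfl⟩ := (HomotopyCategory.quotient A (ComplexShape.up ℤ)).map_surjective g'
    refine congrArg _ (TriCat.quotient_hom_ext_pi _ _ fun j => ?_)
    apply (CochainComplex.IsKInjective.Qh_map_bijective _ (I j)).1
    rw [Functor.map_comp, Functor.map_comp, Functor.map_comp, Functor.map_comp, hf', hg', assoc,
      assoc]
    exact congrArg (e.hom ≫ ·) (congrFun h j)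
  · choose g' hg' using fun j =>
      (CochainComplex.IsKInjective.Qh_map_bijective
        ((HomotopyCategory.quotient A (ComplexShape.up ℤ)).obj K) (I j)).2 (e.hom ≫ g j)
    choose g'' hg'' using fun j =>
      (HomotopyCategory.quotient A (ComplexShape.up ℤ)).map_surjective (g' j)
    refine ⟨e.inv ≫ DerivedCategory.Qh.map ((HomotopyCategory.quotient A _).map (Pi.lift g'')),
      funext fun j => ?_⟩
    dsimp only
    rw [assoc, ← Functor.map_comp, ← Functor.map_comp, Pi.lift_π, hg'', hg', Iso.inv_hom_id_assoc]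

end

/-- A morphism is an isomorphism to a product when both have the same morphisms into them. -/
lemma isIso_piLift {D : Type u} [Category.{v} D] {J : Type t} {K : J → D} [HasProduct K] {P : D}
    (p : ∀ j, P ⟶ K j) (h : ∀ Y : D, Function.Bijective fun (g : Y ⟶ P) (j : J) => g ≫ p j) :
    IsIso (Pi.lift p) := by
  refine isIso_of_yoneda_map_bijective _ fun Y => ⟨fun g g' hg => (h Y).1 (funext fun j => ?_),
    fun g => ?_⟩
  · simpa using congrArg (· ≫ Pi.π K j) hg
  · obtain ⟨l, hl⟩ := (h Y).2 fun j => g ≫ Pi.π K j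
    exact ⟨l, Pi.hom_ext _ _ fun j => by simpa using congrFun hl j⟩

section

variable {A : Type u} [Category.{v} A] [Abelian A] [HasDerivedCategory.{w} A]
  {H : Type u'} [Category.{v'} H]

/-- A right derived functor is computed by K-injective complexes. -/
theorem isIso_unit_app
    (hK : ∀ K : CochainComplex A ℤ, ∃ (I : CochainComplex A ℤ) (f : K ⟶ I), I.IsKInjective ∧ QuasiIso f)
    (F : HomotopyCategory A (ComplexShape.up ℤ) ⥤ H)
    [F.HasRightDerivedFunctor (HomotopyCategory.quasiIso A (ComplexShape.up ℤ))]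
    (I : CochainComplex A ℤ) [I.IsKInjective] :
    IsIso ((F.totalRightDerivedUnit DerivedCategory.Qh
      (HomotopyCategory.quasiIso A (ComplexShape.up ℤ))).app
        ((HomotopyCategory.quotient A (ComplexShape.up ℤ)).obj I)) := by
  have := TriCat.qh_isLeftAdjoint_of_exists_resolution hK
  let adjQ := Adjunction.ofIsLeftAdjoint (DerivedCategory.Qh (C := A))
  let ρ := (DerivedCategory.Qh (C := A)).rightAdjoint
  let W := HomotopyCategory.quasiIso A (ComplexShape.up ℤ)
  have : (ρ ⋙ F).IsRightDerivedFunctor (Functor.whiskerRight adjQ.unit F) W :=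
    TriCat.isRightDerivedFunctor_of_adjunction adjQ W F
  let α := F.totalRightDerivedUnit DerivedCategory.Qh W
  let e : ρ ⋙ F ≅ F.totalRightDerived DerivedCategory.Qh W :=
    Functor.rightDerivedUnique _ _ (Functor.whiskerRight adjQ.unit F) α W
  let qI := (HomotopyCategory.quotient A (ComplexShape.up ℤ)).obj I
  have := TriCat.isIso_unit_of_isKInjective adjQ I
  have h : α.app qI = F.map (adjQ.unit.app qI) ≫ e.hom.app (DerivedCategory.Qh.obj qI) :=
    ((Functor.rightDerivedNatTrans_app (ρ ⋙ F) (F.totalRightDerived DerivedCategory.Qh W)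
      (Functor.whiskerRight adjQ.unit F) α W (𝟙 _) qI).trans (Category.id_comp _)).symm
  change IsIso (α.app qI)
  rw [h]
  exact IsIso.comp_isIso' inferInstance (e.app (DerivedCategory.Qh.obj qI)).isIso_hom

end

end Groth.Agent.DSites.DerPi
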