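import Groth.Agent.DSites.DiscreteNat
import Groth.Agent.DSites.DerPi
import Groth.Agent.DSites.BddCompact
import Groth.Agent.DSites.CompactRetract
import Groth.Agent.TriCat.AcyclicObj
import Groth.Agent.TriCat.Adapted
import Groth.Agent.TriCat.KInjRes
import Groth.Agent.KFlatLib.BrutalTrunc
import Mathlib.Algebra.Category.Grp.AB
import Mathlib.Algebra.Homology.HomologicalComplexLimits
import Mathlib.Algebra.Homology.HomotopyCategory.ShortExact
import Mathlib.CategoryTheory.Limits.Constructions.EventuallyConstant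

/-!
# Complexes of acyclic objects for a derived functor commuting with countable sums
-/

set_option autoImplicit false
set_option linter.style.haveILetI false
set_option maxHeartbeats 1000000

universe w w' v v' u u'

open CategoryTheory CategoryTheory.Limits CategoryTheory.Category CochainComplex Pretriangulated
open Groth.Agent.KFlatLib

namespace Groth.Agent.DSites.AcyclicColim

section Trunc

variable {A : Type u} [Category.{v} A] [Abelian A] [IsGrothendieckAbelian.{v} A]
  (K : CochainComplex A ℤ)

lemma exists_stupid_trans (L : CochainComplex A ℤ) (m m' : ℤ) (h : m' ≤ m) :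
    ∃ g : L.stupidTrunc (ComplexShape.embeddingUpIntGE m) ⟶
        L.stupidTrunc (ComplexShape.embeddingUpIntGE m'),
      g ≫ sigmaGEι L m' = sigmaGEι L m := by
  classical
  let g : ∀ j, (L.stupidTrunc (ComplexShape.embeddingUpIntGE m)).X j ⟶
      (L.stupidTrunc (ComplexShape.embeddingUpIntGE m')).X j := fun j =>
    if hj : m' ≤ j then
      haveI := isIso_sigmaGEι_f L m' j hj
      (sigmaGEι L m).f j ≫ inv ((sigmaGEι L m').f j)
    else 0
  have hg : ∀ j, g j ≫ (sigmaGEι L m').f j = (sigmaGEι L m).f j := fun j => by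
    by_cases hj : m' ≤ j
    · simp [g, hj]
    · exact (isZero_stupidTrunc_of_lt L m j (by omega)).eq_of_src _ _
  refine ⟨⟨g, fun i j hij => ?_⟩, HomologicalComplex.Hom.ext (funext hg)⟩
  haveI := mono_sigmaGEι_f L m' j
  rw [← cancel_mono ((sigmaGEι L m').f j), Category.assoc, Category.assoc,
    ← HomologicalComplex.Hom.comm, ← Category.assoc, hg, hg, HomologicalComplex.Hom.comm]

/-- The brutal truncations as a diagram. -/
lemma exists_diagram : ∃ (Φ : ℕ ⥤ CochainComplex A ℤ) (c : Cocone Φ),
    c.pt = K ∧ Nonempty (IsColimit c) ∧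
      (∀ n, (Φ.obj n).IsStrictlyGE (-(n : ℤ))) ∧
      (∀ n p, IsZero ((Φ.obj n).X p) ∨ Nonempty ((Φ.obj n).X p ≅ K.X p)) := by
  choose g hg using fun n : ℕ =>
    exists_stupid_trans K (-(n : ℤ)) (-((n + 1 : ℕ) : ℤ)) (by omega)
  let Φ := Functor.ofSequence g
  let c : Cocone Φ :=
    { pt := K
      ι := NatTrans.ofSequence (fun n => sigmaGEι K (-(n : ℤ))) fun n => by
        rw [Functor.ofSequence_map_homOfLE_succ]
        exact (hg n).trans (comp_id _).symm }
  refine ⟨Φ, c, rfl, ⟨HomologicalComplex.isColimitOfEval Φ c fun p => ?_⟩, fun n => ?_, fun n p => ?_⟩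
  · let F := Φ ⋙ HomologicalComplex.eval A (ComplexShape.up ℤ) p
    let c' := (HomologicalComplex.eval A (ComplexShape.up ℤ) p).mapCocone c
    have hiso : ∀ n, p.natAbs ≤ n → IsIso (c'.ι.app n) := fun n hn =>
      isIso_sigmaGEι_f K (-(n : ℤ)) p (by omega)
    have hF : F.IsEventuallyConstantFrom p.natAbs := fun n a => by
      haveI := hiso _ le_rfl
      haveI := hiso n (leOfHom a)
      exact IsIso.of_isIso_fac_right (c'.w a)
    haveI := hiso _ le_rfl
    exact hF.isColimitOfIsIso c'
  · rw [CochainComplex.isStrictlyGE_iff]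
    exact fun i hi => isZero_stupidTrunc_of_lt K _ i hi
  · rcases lt_or_ge p (-(n : ℤ)) with h | h
    · exact Or.inl (isZero_stupidTrunc_of_lt K _ p h)
    · exact Or.inr ⟨@asIso _ _ _ _ ((sigmaGEι K (-(n : ℤ))).f p) (isIso_sigmaGEι_f K _ p h)⟩

end Trunc

section Main

variable {A : Type u} [Category.{v} A] [Abelian A] [IsGrothendieckAbelian.{v} A]
  [HasDerivedCategory.{w} A] [HasDerivedCategory.{w'} AddCommGrpCat.{v}]
  (F : A ⥤ AddCommGrpCat.{v}) [F.Additive]

/-- Termwise application followed by localization. -/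
noncomputable abbrev GF :
    HomotopyCategory A (ComplexShape.up ℤ) ⥤ DerivedCategory AddCommGrpCat.{v} :=
  F.mapHomotopyCategory (ComplexShape.up ℤ) ⋙ DerivedCategory.Qh

local notation "qA" => HomotopyCategory.quotient A (ComplexShape.up ℤ)

/-- The comparison of derived application with termwise application. -/
noncomputable def compIso :
    qA ⋙ GF F ≅ F.mapHomologicalComplex (ComplexShape.up ℤ) ⋙ DerivedCategory.Q :=
  (Functor.associator _ _ _).symm ≪≫
    Functor.isoWhiskerRight (F.mapHomotopyCategoryFactors (ComplexShape.up ℤ))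
      DerivedCategory.Qh ≪≫
    Functor.associator _ _ _ ≪≫
    Functor.isoWhiskerLeft (F.mapHomologicalComplex (ComplexShape.up ℤ))
      (DerivedCategory.quotientCompQhIso AddCommGrpCat.{v})

variable [(GF F).HasRightDerivedFunctor (HomotopyCategory.quasiIso A (ComplexShape.up ℤ))]

/-- The derived functor. -/
noncomputable abbrev RFF : DerivedCategory A ⥤ DerivedCategory AddCommGrpCat.{v} :=
  (GF F).totalRightDerived DerivedCategory.Qh (HomotopyCategory.quasiIso A (ComplexShape.up ℤ))

/-- The complex is computed by the derived functor. -/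
abbrev IsU (K : CochainComplex A ℤ) : Prop :=
  IsIso (((GF F).totalRightDerivedUnit DerivedCategory.Qh
    (HomotopyCategory.quasiIso A (ComplexShape.up ℤ))).app ((qA).obj K))

lemma isU_of_kInjective (I : CochainComplex A ℤ) [I.IsKInjective] : IsU F I :=
  DerPi.isIso_unit_app (fun M => by
    obtain ⟨I, f, hI, hf, -, -⟩ := TriCat.exists_kInjective_resolution' M
    exact ⟨I, f, hI, hf⟩) _ I

lemma isU_iff {K L : CochainComplex A ℤ} (s : K ⟶ L)
    (h₁ : IsIso (DerivedCategory.Qh.map ((qA).map s)))
    (h₂ : IsIso ((GF F).map ((qA).map s))) : IsU F K ↔ IsU F L := by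
  let α := (GF F).totalRightDerivedUnit DerivedCategory.Qh
    (HomotopyCategory.quasiIso A (ComplexShape.up ℤ))
  have nat : (GF F).map ((qA).map s) ≫ α.app ((qA).obj L) =
      α.app ((qA).obj K) ≫ (RFF F).map (DerivedCategory.Qh.map ((qA).map s)) :=
    α.naturality ((qA).map s)
  haveI := h₂
  haveI : IsIso ((RFF F).map (DerivedCategory.Qh.map ((qA).map s))) :=
    @Functor.map_isIso _ _ _ _ _ _ (RFF F) _ h₁
  constructor
  · intro h
    exact @IsIso.of_isIso_fac_left _ _ _ _ _ _ _ _ h₂ (@IsIso.comp_isIso _ _ _ _ _ _ _ h ‹_›) nat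
  · intro h
    exact @IsIso.of_isIso_fac_right _ _ _ _ _ _ _ _ ‹_›
      (@IsIso.comp_isIso _ _ _ _ _ _ _ h₂ h) nat.symm

lemma isIso_Qh_iff {K L : CochainComplex A ℤ} (s : K ⟶ L) :
    IsIso (DerivedCategory.Qh.map ((qA).map s)) ↔ QuasiIso s := by
  rw [← DerivedCategory.isIso_Q_map_iff_quasiIso]
  exact NatIso.isIso_map_iff (DerivedCategory.quotientCompQhIso A) s

lemma isIso_G_iff {K L : CochainComplex A ℤ} (s : K ⟶ L) :
    IsIso ((GF F).map ((qA).map s)) ↔
      QuasiIso ((F.mapHomologicalComplex (ComplexShape.up ℤ)).map s) := by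
  rw [← DerivedCategory.isIso_Q_map_iff_quasiIso]
  exact NatIso.isIso_map_iff (compIso F) s

/-- Bounded below complexes of acyclic objects. -/
lemma isU_of_isStrictlyGE [PreservesFiniteLimits F] (K : CochainComplex A ℤ) (a : ℤ)
    [K.IsStrictlyGE a] (hK : ∀ n, TriCat.IsRightAcyclic F (K.X n)) : IsU F K := by
  obtain ⟨Z, hZ⟩ := HasZeroObject.zero (C := A)
  haveI : (isInjective A).IsClosedUnderIsomorphisms := ⟨fun e h => Injective.of_iso e h⟩
  obtain ⟨I, s, hI, hinj, hm, hs⟩ := TriCat.exists_quasiIso_resolution (A := A) Injective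
    ⟨Z, hZ, hZ.injective⟩
    (fun M => ⟨Injective.under M, Injective.ι M, inferInstance, inferInstance⟩) K a
  haveI := hI
  haveI := hinj
  haveI := hs
  haveI : I.IsKInjective := CochainComplex.isKInjective_of_injective _ a
  haveI := TriCat.quasiIso_map_of_adapted (TriCat.isAdapted_isRightAcyclic (F := F)) s hm a hK
    (fun n => TriCat.isRightAcyclic_of_injective _)
  exact (isU_iff F s ((isIso_Qh_iff s).2 inferInstance) ((isIso_G_iff F s).2 inferInstance)).2
    (isU_of_kInjective F I)

/-- Mapping cones of endomorphisms. -/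
lemma isU_mappingCone {P : CochainComplex A ℤ} (φ : P ⟶ P) (hP : IsU F P) :
    IsU F (mappingCone φ) := by
  obtain ⟨I, e, hI, he, -, -⟩ := TriCat.exists_kInjective_resolution' P
  haveI : IsIso (DerivedCategory.Qh.map ((qA).map e)) := (isIso_Qh_iff e).2 he
  obtain ⟨ψ, hψ⟩ := (CochainComplex.IsKInjective.Qh_map_bijective ((qA).obj I) I).2
    (inv (DerivedCategory.Qh.map ((qA).map e)) ≫ DerivedCategory.Qh.map ((qA).map (φ ≫ e)))
  obtain ⟨ψ, rfl⟩ := (qA).map_surjective ψ
  have hq : (qA).map (φ ≫ e) = (qA).map (e ≫ ψ) := by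
    apply (CochainComplex.IsKInjective.Qh_map_bijective ((qA).obj P) I).1
    rw [Functor.map_comp (qA) e ψ, Functor.map_comp DerivedCategory.Qh, hψ,
      IsIso.hom_inv_id_assoc]
  let H : Homotopy (φ ≫ e) (e ≫ ψ) := HomotopyCategory.homotopyOfEq _ _ hq
  let t : mappingCone.triangleh φ ⟶ mappingCone.triangleh ψ :=
    mappingCone.trianglehMapOfHomotopy H
  have hI' : IsU F I := isU_of_kInjective F I
  have hGe : IsIso ((GF F).map ((qA).map e)) := by
    let α := (GF F).totalRightDerivedUnit DerivedCategory.Qh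
      (HomotopyCategory.quasiIso A (ComplexShape.up ℤ))
    have nat : (GF F).map ((qA).map e) ≫ α.app ((qA).obj I) =
        α.app ((qA).obj P) ≫ (RFF F).map (DerivedCategory.Qh.map ((qA).map e)) :=
      α.naturality ((qA).map e)
    exact @IsIso.of_isIso_fac_right _ _ _ _ _ _ _ _ hI'
      (@IsIso.comp_isIso _ _ _ _ _ _ _ hP inferInstance) nat
  have hT₁ := HomotopyCategory.mappingCone_triangleh_distinguished φ
  have hT₂ := HomotopyCategory.mappingCone_triangleh_distinguished ψ
  let s : mappingCone φ ⟶ mappingCone ψ := mappingCone.mapOfHomotopy H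
  have h₁ : IsIso (DerivedCategory.Qh.map ((qA).map s)) :=
    isIso₃_of_isIso₁₂ (DerivedCategory.Qh.mapTriangle.map t)
      (DerivedCategory.Qh.map_distinguished _ hT₁) (DerivedCategory.Qh.map_distinguished _ hT₂)
      (inferInstanceAs (IsIso (DerivedCategory.Qh.map ((qA).map e))))
      (inferInstanceAs (IsIso (DerivedCategory.Qh.map ((qA).map e))))
  have h₂ : IsIso ((GF F).map ((qA).map s)) :=
    isIso₃_of_isIso₁₂
      (DerivedCategory.Qh.mapTriangle.map
        ((F.mapHomotopyCategory (ComplexShape.up ℤ)).mapTriangle.map t))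
      (DerivedCategory.Qh.map_distinguished _
        ((F.mapHomotopyCategory (ComplexShape.up ℤ)).map_distinguished _ hT₁))
      (DerivedCategory.Qh.map_distinguished _
        ((F.mapHomotopyCategory (ComplexShape.up ℤ)).map_distinguished _ hT₂))
      hGe hGe
  haveI : (mappingCone ψ).IsKInjective := by
    rw [CochainComplex.isKInjective_iff_rightOrthogonal]
    exact ObjectProperty.ext_of_isTriangulatedClosed₃ _ _ hT₂
      (CochainComplex.IsKInjective.rightOrthogonal I) (CochainComplex.IsKInjective.rightOrthogonal I)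
  exact (isU_iff F s h₁ h₂).2 (isU_of_kInjective F _)

/-- Coproducts. -/
lemma isU_sigma [HasColimitsOfShape (Discrete ℕ) A] [HasExactColimitsOfShape (Discrete ℕ) A]
    [PreservesColimitsOfShape (Discrete ℕ) F] [PreservesColimitsOfShape (Discrete ℕ) (RFF F)]
    (K : ℕ → CochainComplex A ℤ) (hK : ∀ n, IsU F (K n)) : IsU F (∐ K) := by
  let α := (GF F).totalRightDerivedUnit DerivedCategory.Qh
    (HomotopyCategory.quasiIso A (ComplexShape.up ℤ))
  let FC := F.mapHomologicalComplex (ComplexShape.up ℤ)
  haveI : PreservesColimit (Discrete.functor K) FC :=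
    preservesColimit_of_preserves_colimit_cocone (coproductIsCoproduct K)
      (HomologicalComplex.isColimitOfEval _ _ fun p =>
        isColimitOfPreserves (HomologicalComplex.eval A (ComplexShape.up ℤ) p ⋙ F)
          (coproductIsCoproduct K))
  haveI : PreservesColimit (Discrete.functor K ⋙ FC) DerivedCategory.Q := by
    haveI : PreservesColimit (Discrete.functor ((Discrete.functor K ⋙ FC).obj ∘ Discrete.mk))
        DerivedCategory.Q := BddCompact.preservesColimit_Q (fun n => FC.obj (K n))
    exact preservesColimit_of_iso_diagram DerivedCategory.Q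
      (Discrete.natIsoFunctor (F := Discrete.functor K ⋙ FC)).symm
  haveI : PreservesColimit (Discrete.functor K) (qA ⋙ GF F) :=
    preservesColimit_of_natIso _ (compIso F).symm
  haveI := BddCompact.preservesColimit_Q K
  haveI : PreservesColimit (Discrete.functor K) (DerivedCategory.Q ⋙ RFF F) := inferInstance
  haveI : PreservesColimit (Discrete.functor K) (qA ⋙ DerivedCategory.Qh ⋙ RFF F) :=
    preservesColimit_of_natIso _
      ((Functor.isoWhiskerRight (DerivedCategory.quotientCompQhIso A) (RFF F)).symm ≪≫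
        Functor.associator _ _ _)
  let β : qA ⋙ GF F ⟶ qA ⋙ DerivedCategory.Qh ⋙ RFF F := Functor.whiskerLeft (qA) α
  haveI : IsIso (Functor.whiskerLeft (Discrete.functor K) β) := by
    haveI : ∀ j, IsIso ((Functor.whiskerLeft (Discrete.functor K) β).app j) := fun j => hK j.as
    exact NatIso.isIso_of_isIso_app _
  let c := Cofan.mk (∐ K) (Sigma.ι K)
  let hc₁ := isColimitOfPreserves (qA ⋙ GF F) (coproductIsCoproduct K)
  let hc₂ := isColimitOfPreserves (qA ⋙ DerivedCategory.Qh ⋙ RFF F) (coproductIsCoproduct K)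
  have : α.app ((qA).obj (∐ K)) =
      (IsColimit.coconePointsIsoOfNatIso hc₁ hc₂ (asIso (Functor.whiskerLeft (Discrete.functor K) β))).hom := by
    refine hc₁.hom_ext fun j => ?_
    rw [IsColimit.comp_coconePointsIsoOfNatIso_hom]
    exact β.naturality _
  show IsIso (α.app ((qA).obj (∐ K)))
  rw [this]
  exact (IsColimit.coconePointsIsoOfNatIso hc₁ hc₂ _).isIso_hom

variable [PreservesFiniteLimits F]

theorem isU_of_acyclic
    (hcolim : ∀ (n : ℕ) (J : Type v) [SmallCategory J] [IsFiltered J],
      PreservesColimitsOfShape J (F.rightDerived n))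
    [PreservesColimitsOfShape (Discrete ℕ) (RFF F)]
    (K : CochainComplex A ℤ) (hK : ∀ m, TriCat.IsRightAcyclic F (K.X m)) : IsU F K := by
  haveI : HasExactColimitsOfShape ℕ A := CompactRetract.hasExactColimitsOfShape_nat
  haveI : HasColimitsOfShape (Discrete ℕ) A := TriCat.hasColimitsOfShape_discrete_nat
  haveI : HasExactColimitsOfShape (Discrete ℕ) A := by
    haveI := AB5OfSize_shrink.{0, 0, v, v} A
    haveI := Abelian.hasFiniteBiproducts (C := A)
    haveI : AB4OfSize.{v} A := AB4.of_AB5 A
    haveI : HasCoproducts.{0} A := fun J => inferInstance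
    haveI : AB4OfSize.{0} A := AB4OfSize_shrink.{0, v} A
    infer_instance
  haveI hd : ∀ i, PreservesColimitsOfShape (Discrete ℕ) (F.rightDerived i) := fun i => by
    haveI := DiscreteNat.preservesColimitsOfShape_nat (F.rightDerived i) (hcolim i)
    exact DiscreteNat.preservesColimitsOfShape_discrete_nat _
  haveI : PreservesColimitsOfShape (Discrete ℕ) F :=
    preservesColimitsOfShape_of_natIso F.rightDerivedZeroIsoSelf
  obtain ⟨Φ, c, hpt, ⟨hc⟩, hGE, hX⟩ := exists_diagram K
  subst hpt
  haveI : HasExactColimitsOfShape ℕ (CochainComplex A ℤ) :=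
    CompactRetract.hasExactColimitsOfShape_nat
  haveI : HasColimitsOfShape (Discrete ℕ) (CochainComplex A ℤ) := inferInstance
  let S := ShortComplex.mk _ _ (TriCat.telescope_comp_desc Φ)
  have hS : S.ShortExact := TriCat.telescope_shortExact Φ
  have hac : ∀ n p, TriCat.IsRightAcyclic F ((Φ.obj n).X p) := fun n p i hi => by
    rcases hX n p with h | ⟨⟨e⟩⟩
    · exact (F.rightDerived i).map_isZero h
    · exact (hK p i hi).of_iso ((F.rightDerived i).mapIso e)
  have hP : IsU F (∐ Φ.obj) := isU_sigma F _ fun n => by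
    haveI := hGE n
    exact isU_of_isStrictlyGE F _ (-(n : ℤ)) (hac n)
  have h1 : ∀ p, IsZero ((F.rightDerived 1).obj ((∐ Φ.obj).X p)) := fun p => by
    have hc' := isColimitOfPreserves (HomologicalComplex.eval A (ComplexShape.up ℤ) p ⋙
      F.rightDerived 1) (coproductIsCoproduct Φ.obj)
    rw [IsZero.iff_id_eq_zero]
    exact hc'.hom_ext fun j => (hac j.as p 1 one_pos).eq_of_src _ _
  let FC := F.mapHomologicalComplex (ComplexShape.up ℤ)
  have hFS : (S.map FC).ShortExact :=
    HomologicalComplex.shortExact_of_degreewise_shortExact _ fun p =>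
      TriCat.shortExact_map_of_subsingleton (F := F)
        (S := S.map (HomologicalComplex.eval A (ComplexShape.up ℤ) p))
        (hS.map_of_exact (HomologicalComplex.eval A (ComplexShape.up ℤ) p)) (h1 p)
  haveI hq₁ := mappingCone.quasiIso_descShortComplex hS
  haveI hq₂ := mappingCone.quasiIso_descShortComplex hFS
  have hq₂' : QuasiIso (FC.map (mappingCone.descShortComplex S)) := by
    rw [← mappingCone.mapHomologicalComplexIso_hom_descShortComplex]
    exact @quasiIso_comp _ _ _ _ _ _ _ _ _ _ _ _ _ inferInstance hq₂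
  have hX₃ : IsU F S.X₃ := (isU_iff F _ ((isIso_Qh_iff _).2 hq₁) ((isIso_G_iff F _).2 hq₂')).1
    (isU_mappingCone F _ hP)
  let e : S.X₃ ≅ c.pt := (colimit.isColimit Φ).coconePointUniqueUpToIso hc
  exact (isU_iff F e.hom inferInstance inferInstance).1 hX₃

end Main

end Groth.Agent.DSites.AcyclicColim
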