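import Groth.Agent.DSites.BddCompact
import Groth.Agent.TriCat.KInjRes
import Mathlib.Algebra.Homology.DerivedCategory.Ext.ExactSequences
import Mathlib.Algebra.Homology.DerivedCategory.Ext.EnoughInjectives

/-!
# Compactness in finite `Ext` dimension

If `Ext^i(G, -)` vanishes for `i > d` and commutes with sums, then `G` placed in degree zero is compact
in the derived category.
-/

set_option autoImplicit false
set_option linter.style.haveILetI false
set_option backward.isDefEq.respectTransparency false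

universe w v u

open CategoryTheory CategoryTheory.Limits CategoryTheory.Pretriangulated CategoryTheory.Abelian
open Groth.Agent.DSites.PartProj

namespace Groth.Agent.DSites.BddCompact

variable {A : Type u} [Category.{v} A] [Abelian A] [HasDerivedCategory.{w} A] [HasExt.{w} A]
  {G : A} {d : ℕ}

/-- In finite `Ext` dimension `G` does not map to sufficiently negative complexes of injectives. -/
theorem eq_zero_of_negative (hd : ∀ (F : A) (i : ℕ), d < i → Subsingleton (Ext.{w} G F i))
    (J : CochainComplex A ℤ) (hinj : ∀ n, Injective (J.X n)) [J.IsKInjective] (b : ℤ)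
    (hb : b + d + 2 ≤ 0) (hJ : ∀ i, b < i → IsZero (J.homology i))
    (φ : DerivedCategory.Q.obj ((HomologicalComplex.single A (ComplexShape.up ℤ) 0).obj G) ⟶
      DerivedCategory.Q.obj J) : φ = 0 := by
  obtain ⟨g, rfl⟩ := PartProj.exists_Q_map φ
  have hS : ∀ i : ℤ, b < i + 1 → (ShortComplex.mk (J.iCycles i) (J.toCycles i (i + 1))
      (by rw [← cancel_mono (J.iCycles (i + 1))]; simp)).ShortExact := fun i hi =>
    PartProj.shortExact_cycles J i (i + 1) rfl
      ((HomologicalComplex.exactAt_iff_isZero_homology _ _).2 (hJ _ hi))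
  have hZ : ∀ (k n : ℕ) (i : ℤ), n + k = d → i = -1 - (n : ℤ) →
      Subsingleton (Ext.{w} G (J.cycles i) (n + 1)) := fun k => by
    induction k with
    | zero => exact fun n i hn hi => hd _ _ (by omega)
    | succ k ih =>
      intro n i hn hi
      obtain ⟨i, rfl⟩ : ∃ j, i = j + 1 := ⟨i - 1, by omega⟩
      refine subsingleton_of_forall_eq 0 fun x => ?_
      obtain ⟨y, rfl⟩ := Ext.covariant_sequence_exact₃ G (hS i (by omega)) x rfl
        ((ih (n + 1) i (by omega) (by omega)).elim _ _)
      haveI := hinj i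
      rw [Ext.eq_zero_of_injective y]
      exact Ext.zero_comp _ _ _ _ _
  let sx := HomologicalComplex.singleObjXSelf (ComplexShape.up ℤ) 0 G
  let z : G ⟶ J.cycles (-1 + 1) :=
    J.liftCycles (sx.inv ≫ g.f 0 ≫ (J.XIsoOfEq (show (0 : ℤ) = -1 + 1 by omega)).hom) (-1 + 1 + 1)
      (by simp) (by
        simp only [Category.assoc, HomologicalComplex.XIsoOfEq_hom_comp_d, HomologicalComplex.Hom.comm]
        simp)
  obtain ⟨t, ht⟩ := Ext.covariant_sequence_exact₃ G (hS (-1) (by omega)) (Ext.mk₀ z) rfl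
    ((hZ d 0 (-1) (by omega) (by simp)).elim _ _)
  obtain ⟨(t : G ⟶ J.X (-1)), rfl⟩ := (Ext.mk₀_bijective _ _).2 t
  rw [Ext.mk₀_comp_mk₀] at ht
  have hy : t ≫ J.toCycles (-1) (-1 + 1) = z := (Ext.mk₀_bijective _ _).1 ht
  have hy' : t ≫ J.d (-1) (-1 + 1) =
      sx.inv ≫ g.f 0 ≫ (J.XIsoOfEq (show (0 : ℤ) = -1 + 1 by omega)).hom := by
    rw [← J.toCycles_i (-1) (-1 + 1), ← Category.assoc, hy]
    exact J.liftCycles_i _ _ _ _
  refine (DerivedCategory.Q_map_eq_of_homotopy _
    { hom := fun p q => if h : p = 0 ∧ q = -1 then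
        (((HomologicalComplex.single A (ComplexShape.up ℤ) 0).obj G).XIsoOfEq h.1).hom ≫ sx.hom ≫
          t ≫ (J.XIsoOfEq h.2).inv else 0
      zero := fun p q hpq => dif_neg fun h => hpq (by rw [h.1, h.2]; rfl)
      comm := fun p => ?_ }).trans (Functor.map_zero _ _ _)
  by_cases hp : p = 0
  · subst hp
    rw [dNext_eq _ (show (ComplexShape.up ℤ).Rel (0 : ℤ) 1 from rfl),
      prevD_eq _ (show (ComplexShape.up ℤ).Rel (-1 : ℤ) 0 from rfl),
      HomologicalComplex.single_obj_d, zero_comp, zero_add, dif_pos (And.intro rfl rfl),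
      HomologicalComplex.zero_f, add_zero]
    have h := congrArg (fun s => sx.hom ≫ s ≫ (J.XIsoOfEq (show (0 : ℤ) = -1 + 1 by omega)).inv) hy'
    simp only [Category.assoc, Iso.hom_inv_id_assoc, Iso.hom_inv_id, Category.comp_id,
      HomologicalComplex.d_comp_XIsoOfEq_inv] at h
    simp only [HomologicalComplex.XIsoOfEq_rfl, Iso.refl_hom, Iso.refl_inv, Category.id_comp,
      Category.assoc]
    exact h.symm
  · exact (HomologicalComplex.isZero_single_obj_X _ _ _ _ hp).eq_of_src _ _

variable [IsGrothendieckAbelian.{v} A]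

/-- In finite `Ext` dimension `G` does not map to sufficiently negative objects. -/
theorem eq_zero_of_isLE (hd : ∀ (F : A) (i : ℕ), d < i → Subsingleton (Ext.{w} G F i))
    (N : DerivedCategory A) (b : ℤ) (hb : b + d + 2 ≤ 0) [N.IsLE b]
    (φ : (DerivedCategory.singleFunctor A 0).obj G ⟶ N) : φ = 0 := by
  obtain ⟨I, f, hI, hf, -, hinj⟩ :=
    TriCat.exists_kInjective_resolution' (DerivedCategory.Q.objPreimage N)
  haveI := hI
  haveI := hf
  let eN : N ≅ DerivedCategory.Q.obj I :=
    (DerivedCategory.Q.objObjPreimageIso N).symm ≪≫ asIso (DerivedCategory.Q.map f)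
  let e := (DerivedCategory.singleFunctorIsoCompQ A 0).app G
  rw [← cancel_epi e.inv, ← cancel_mono eN.hom, comp_zero, zero_comp]
  exact eq_zero_of_negative hd I hinj b hb
    (fun i hi => ((N.isZero_of_isLE b i hi).of_iso
      ((DerivedCategory.homologyFunctor _ i).mapIso eN).symm).of_iso
      ((DerivedCategory.homologyFunctorFactors _ i).app I).symm) _

variable {J : Type w} [HasColimitsOfShape (Discrete J) A] [HasExactColimitsOfShape (Discrete J) A]
  [HasColimitsOfShape (Discrete J) (DerivedCategory A)]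

/-- In finite `Ext` dimension maps from `G` see finitely many summands of any family. -/
theorem fixAt_of_finite_dim (hd : ∀ (F : A) (i : ℕ), d < i → Subsingleton (Ext.{w} G F i))
    (hG : ExtFix.{w} G J) (M : J → DerivedCategory A) :
    FixAt M ((DerivedCategory.singleFunctor A 0).obj G) := by
  let b : ℤ := -(d : ℤ) - 2
  let tS : Triangulated.TStructure (DerivedCategory A) := DerivedCategory.TStructure.t
  choose P B hP hB f g h hT using fun j => tS.exists_triangle (M j) b (b + 1) rfl
  choose K eK hK using fun j => hP j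
  haveI : ∀ j, (K j).IsStrictlyLE b := hK
  haveI := BddCompact.preservesColimit_Q K
  haveI : (∐ P).IsLE b := by
    haveI : (∐ K).IsStrictlyLE b := (CochainComplex.isStrictlyLE_iff _ b).2 fun k hk => by
      refine IsZero.of_iso ?_ (PreservesCoproduct.iso
        (HomologicalComplex.eval A (ComplexShape.up ℤ) k) K)
      rw [IsZero.iff_id_eq_zero]
      exact Sigma.hom_ext _ _ fun j => ((K j).isZero_of_isStrictlyLE b k hk).eq_of_src _ _
    exact ⟨⟨∐ K, Limits.Sigma.mapIso eK ≪≫ (PreservesCoproduct.iso DerivedCategory.Q K).symm,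
      inferInstance⟩⟩
  let S : Triangle (DerivedCategory A) := Triangle.mk (Limits.Sigma.map f) (Limits.Sigma.map g)
    (Sigma.desc fun j => h j ≫ (Sigma.ι P j)⟦(1 : ℤ)⟧')
  have hS : S ∈ distTriang (DerivedCategory A) := TriCat.distinguished_of_isSum
    (fun j => Triangle.mk (f j) (g j) (h j)) hT S
    (fun j =>
      { hom₁ := Sigma.ι P j
        hom₂ := Sigma.ι M j
        hom₃ := Sigma.ι B j
        comm₁ := (Limits.Sigma.ι_map f j).symm
        comm₂ := (Limits.Sigma.ι_map g j).symm
        comm₃ := (Sigma.ι_desc (fun j => h j ≫ (Sigma.ι P j)⟦(1 : ℤ)⟧') j).symm })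
    (TriCat.isSum_sigma P) (TriCat.isSum_sigma M) (TriCat.isSum_sigma B)
  intro φ
  obtain ⟨F, hF⟩ := fixAt_of_isGE hG B (b + 1) (fun j => ⟨hB j⟩) (φ ≫ S.mor₂)
  obtain ⟨ψ, hψ⟩ := Triangle.coyoneda_exact₂ _ hS (φ - φ ≫ partProj M F) (by
    rw [Preadditive.sub_comp, Category.assoc, sub_eq_zero]
    exact (((congrArg (φ ≫ ·) (sigmaMap_partProj M g F)).trans (Category.assoc _ _ _).symm).trans hF).symm)
  refine ⟨F, (sub_eq_zero.1 (hψ.trans ?_)).symm⟩
  haveI : DerivedCategory.IsLE S.obj₁ b := show (∐ P).IsLE b from inferInstance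
  rw [eq_zero_of_isLE hd S.obj₁ b (by omega) ψ, zero_comp]

end Groth.Agent.DSites.BddCompact
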