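import Groth.Agent.DSites.TExact

/-!
# Dévissage for triangulated functors on bounded derived categories

An exact functor inducing bijections on all `Hom(M, M'[n])` for `M`, `M'` in a weak Serre class `P`,
and whose restriction `P ⥤ P'` is essentially surjective, restricts to an equivalence on bounded
objects with cohomology in these classes.
-/

set_option autoImplicit false

universe w v u w' v' u'

open CategoryTheory CategoryTheory.Limits Pretriangulated DerivedCategory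

namespace Groth.Agent.DSites

section Triangulated

variable {T : Type u} [Category.{v} T] [Preadditive T] [HasZeroObject T] [HasShift T ℤ]
  [∀ n : ℤ, (shiftFunctor T n).Additive] [Pretriangulated T]
  {T' : Type u'} [Category.{v'} T'] [Preadditive T'] [HasZeroObject T'] [HasShift T' ℤ]
  [∀ n : ℤ, (shiftFunctor T' n).Additive] [Pretriangulated T']
  (G : T ⥤ T') [G.CommShift ℤ] [G.IsTriangulated]

/-- The functor is bijective on the morphisms between two objects. -/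
def MapBij (X Y : T) : Prop := Function.Bijective (fun φ : X ⟶ Y => G.map φ)

variable {G}

omit [Preadditive T] [HasZeroObject T] [HasShift T ℤ] [∀ n : ℤ, (shiftFunctor T n).Additive]
  [Pretriangulated T] [Preadditive T'] [HasZeroObject T'] [HasShift T' ℤ]
  [∀ n : ℤ, (shiftFunctor T' n).Additive] [Pretriangulated T'] [G.CommShift ℤ] [G.IsTriangulated] in
lemma MapBij.of_iso {X Y X' Y' : T} (h : MapBij G X Y) (e : X ≅ X') (e' : Y ≅ Y') :
    MapBij G X' Y' := by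
  have hb := ((G.mapIso e).homCongr (G.mapIso e')).bijective.comp (h.comp (e.homCongr e').symm.bijective)
  refine (congrArg Function.Bijective (funext fun φ => ?_)).mpr hb
  simp [← Functor.map_comp]

omit [Preadditive T] [HasZeroObject T] [∀ n : ℤ, (shiftFunctor T n).Additive]
  [Pretriangulated T] [Preadditive T'] [HasZeroObject T'] [∀ n : ℤ, (shiftFunctor T' n).Additive]
  [Pretriangulated T'] [G.IsTriangulated] in
lemma MapBij.shift {X Y : T} (h : MapBij G X Y) (a : ℤ) : MapBij G (X⟦a⟧) (Y⟦a⟧) := by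
  have h1 : Function.Bijective (fun φ : X ⟶ Y => φ⟦a⟧') :=
    (Functor.FullyFaithful.ofFullyFaithful (shiftFunctor T a)).homEquiv.bijective
  have h2 : Function.Bijective (fun φ : G.obj X ⟶ G.obj Y => φ⟦a⟧') :=
    (Functor.FullyFaithful.ofFullyFaithful (shiftFunctor T' a)).homEquiv.bijective
  have hb := (((G.commShiftIso a).app X).symm.homCongr ((G.commShiftIso a).app Y).symm).bijective.comp
    (h2.comp h)
  refine (Function.Bijective.of_comp_iff _ h1).1 ?_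
  refine (congrArg Function.Bijective (funext fun φ => ?_)).mpr hb
  simp

/-- Five lemma in the first variable. -/
lemma MapBij.obj₂_left (Δ : Triangle T) (hΔ : Δ ∈ distinguishedTriangles) {Y : T}
    (h₁ : MapBij G Δ.obj₁ Y) (h₃ : MapBij G Δ.obj₃ Y) (h₁' : MapBij G (Δ.obj₁⟦(1 : ℤ)⟧) Y)
    (h₃' : MapBij G (Δ.obj₃⟦(-1 : ℤ)⟧) Y) : MapBij G Δ.obj₂ Y := by
  constructor
  · refine (injective_iff_map_eq_zero G.mapAddHom).2 fun x hx => ?_
    have hx' : G.map x = 0 := hx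
    have h0 : Δ.mor₁ ≫ x = 0 := h₁.1 (by simp [hx'])
    obtain ⟨y, rfl⟩ := Triangle.yoneda_exact₂ Δ hΔ x h0
    obtain ⟨z', hz'⟩ := Triangle.yoneda_exact₂ _ (G.map_distinguished _ (rot_of_distTriang _ hΔ))
      (G.map y) ((G.map_comp _ _).symm.trans hx')
    obtain ⟨z, rfl⟩ := h₁'.2 z'
    have hy : y = Δ.mor₃ ≫ z := h₃.1 (by
      show G.map y = G.map (Δ.mor₃ ≫ z)
      rw [G.map_comp]
      exact hz')
    rw [hy, ← Category.assoc, comp_distTriang_mor_zero₂₃ _ hΔ, zero_comp]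
  · intro x'
    obtain ⟨a, ha : G.map a = G.map Δ.mor₁ ≫ x'⟩ := h₁.2 (G.map Δ.mor₁ ≫ x')
    have hi : Δ.invRotate.mor₁ ≫ a = 0 := h₃'.1 (by
      let r : (Δ.obj₃⟦(-1 : ℤ)⟧ : T) ⟶ Δ.obj₁ := Δ.invRotate.mor₁
      have hr : r ≫ Δ.mor₁ = 0 := comp_distTriang_mor_zero₁₂ _ (inv_rot_of_distTriang _ hΔ)
      show G.map (r ≫ a) = G.map 0
      rw [G.map_comp, ha, ← Category.assoc, ← G.map_comp, hr, G.map_zero, zero_comp, G.map_zero])
    obtain ⟨b, hb⟩ := Triangle.yoneda_exact₂ _ (inv_rot_of_distTriang _ hΔ) a hi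
    change Δ.obj₂ ⟶ Y at b
    replace hb : a = Δ.mor₁ ≫ b := hb
    obtain ⟨c', hc'⟩ := Triangle.yoneda_exact₂ _ (G.map_distinguished _ hΔ) (x' - G.map b) (by
      show G.map Δ.mor₁ ≫ (x' - G.map b) = 0
      rw [Preadditive.comp_sub, ← G.map_comp, ← hb, ha, sub_self])
    obtain ⟨c, rfl⟩ := h₃.2 c'
    refine ⟨b + Δ.mor₂ ≫ c, ?_⟩
    show G.map (b + Δ.mor₂ ≫ c) = x'
    rw [G.map_add, G.map_comp, show G.map Δ.mor₂ ≫ G.map c = x' - G.map b from hc'.symm]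
    abel

/-- Five lemma in the second variable. -/
lemma MapBij.obj₂_right (Δ : Triangle T) (hΔ : Δ ∈ distinguishedTriangles) {X : T}
    (h₁ : MapBij G X Δ.obj₁) (h₃ : MapBij G X Δ.obj₃) (h₁' : MapBij G X (Δ.obj₁⟦(1 : ℤ)⟧))
    (h₃' : MapBij G X (Δ.obj₃⟦(-1 : ℤ)⟧)) : MapBij G X Δ.obj₂ := by
  constructor
  · refine (injective_iff_map_eq_zero G.mapAddHom).2 fun x hx => ?_
    have hx' : G.map x = 0 := hx
    have h0 : x ≫ Δ.mor₂ = 0 := h₃.1 (by simp [hx'])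
    obtain ⟨y, rfl⟩ := Triangle.coyoneda_exact₂ Δ hΔ x h0
    obtain ⟨z', hz'⟩ := Triangle.coyoneda_exact₂ _ (G.map_distinguished _ (inv_rot_of_distTriang _ hΔ))
      (G.map y) ((G.map_comp _ _).symm.trans hx')
    obtain ⟨z, rfl⟩ := h₃'.2 z'
    have hy : y = z ≫ Δ.invRotate.mor₁ := h₁.1 (by
      exact hz'.trans (G.map_comp z Δ.invRotate.mor₁).symm)
    rw [hy]
    refine (Category.assoc _ _ _).trans ?_
    exact (congrArg (z ≫ ·) (comp_distTriang_mor_zero₁₂ _ (inv_rot_of_distTriang _ hΔ))).trans comp_zero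
  · intro x'
    obtain ⟨a, ha : G.map a = x' ≫ G.map Δ.mor₂⟩ := h₃.2 (x' ≫ G.map Δ.mor₂)
    have hi : a ≫ Δ.mor₃ = 0 := h₁'.1 (by
      show G.map (a ≫ Δ.mor₃) = G.map 0
      rw [G.map_comp, ha, Category.assoc, ← G.map_comp, comp_distTriang_mor_zero₂₃ _ hΔ,
        G.map_zero, comp_zero, G.map_zero])
    obtain ⟨b, hb⟩ := Triangle.coyoneda_exact₂ _ (rot_of_distTriang _ hΔ) a hi
    change X ⟶ Δ.obj₂ at b
    replace hb : a = b ≫ Δ.mor₂ := hb
    obtain ⟨c', hc'⟩ := Triangle.coyoneda_exact₂ _ (G.map_distinguished _ hΔ) (x' - G.map b) (by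
      show (x' - G.map b) ≫ G.map Δ.mor₂ = 0
      rw [Preadditive.sub_comp, ← G.map_comp, ← hb, ha, sub_self])
    obtain ⟨c, rfl⟩ := h₁.2 c'
    refine ⟨b + c ≫ Δ.mor₁, ?_⟩
    show G.map (b + c ≫ Δ.mor₁) = x'
    rw [G.map_add, G.map_comp, show G.map c ≫ G.map Δ.mor₁ = x' - G.map b from hc'.symm]
    abel

end Triangulated

section Derived

variable {A : Type u} [Category.{v} A] [Abelian A] [HasDerivedCategory.{w} A]
  {B : Type u'} [Category.{v'} B] [Abelian B] [HasDerivedCategory.{w'} B]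
  (G : DerivedCategory A ⥤ DerivedCategory B) [G.CommShift ℤ] [G.IsTriangulated]
  (P : ObjectProperty A)

local notation "H" => DerivedCategory.homologyFunctor A
local notation "tA" => (DerivedCategory.TStructure.t (C := A))
local notation "tB" => (DerivedCategory.TStructure.t (C := B))

lemma mapBij_of_isZero_left {Z Y : DerivedCategory A} (hZ : IsZero Z) : MapBij G Z Y :=
  ⟨fun x y _ => hZ.eq_of_src x y, fun x' => ⟨0, (G.map_isZero hZ).eq_of_src _ _⟩⟩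

lemma mapBij_of_isZero_right {X Z : DerivedCategory A} (hZ : IsZero Z) : MapBij G X Z :=
  ⟨fun x y _ => hZ.eq_of_tgt x y, fun x' => ⟨0, (G.map_isZero hZ).eq_of_tgt _ _⟩⟩

/-- A functor bijective on morphisms between shifts of objects of `P` is so on bounded objects with
cohomology in `P`. -/
theorem mapBij_bounded
    (h : ∀ M M', P M → P M' → ∀ n : ℤ,
      MapBij G ((singleFunctor A 0).obj M) (((singleFunctor A 0).obj M')⟦n⟧))
    (K L : DerivedCategory A) (a b a' b' : ℤ) [K.IsGE a] [K.IsLE b] [L.IsGE a'] [L.IsLE b']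
    (hK : WSerre.cohIn P K) (hL : WSerre.cohIn P L) : MapBij G K L := by
  -- shifts of modules against shifts of modules
  have hss : ∀ M M', P M → P M' → ∀ m n : ℤ,
      MapBij G (((singleFunctor A 0).obj M)⟦m⟧) (((singleFunctor A 0).obj M')⟦n⟧) := fun M M' hM hM' m n =>
    ((h M M' hM hM' (n - m)).shift m).of_iso (Iso.refl _)
      (((shiftFunctorAdd' _ (n - m) m n (by omega)).app _).symm)
  -- devissage in the second variable
  let Φ : ObjectProperty (DerivedCategory A) :=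
    fun Y => ∀ M, P M → ∀ m n : ℤ, MapBij G (((singleFunctor A 0).obj M)⟦m⟧) (Y⟦n⟧)
  have : Φ.IsClosedUnderIsomorphisms :=
    ⟨fun e hY M hM m n => (hY M hM m n).of_iso (Iso.refl _) ((shiftFunctor _ n).mapIso e)⟩
  have hΦ : Φ L := by
    refine devissage_bounded Φ (fun Z hZ M _ m n => mapBij_of_isZero_right G (Functor.map_isZero _ hZ))
      (fun Δ hΔ h₁ h₃ M hM m n => ?_) L a' b' fun j _ _ M hM m n => ?_
    · exact MapBij.obj₂_right _ (Triangle.shift_distinguished Δ hΔ n) (h₁ M hM m n) (h₃ M hM m n)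
        ((h₁ M hM m (n + 1)).of_iso (Iso.refl _) ((shiftFunctorAdd' _ n 1 (n + 1) rfl).app _))
        ((h₃ M hM m (n - 1)).of_iso (Iso.refl _) ((shiftFunctorAdd' _ n (-1) (n - 1) (by omega)).app _))
    · exact (hss M _ hM (hL j) m (-j + n)).of_iso (Iso.refl _)
        ((shiftFunctorAdd' _ (-j) n (-j + n) rfl).app _ ≪≫
          (shiftFunctor _ n).mapIso (((singleFunctors A).shiftIso (-j) j 0 (by omega)).app _))
  -- devissage in the first variable
  let Ψ : ObjectProperty (DerivedCategory A) := fun X => ∀ m n : ℤ, MapBij G (X⟦m⟧) (L⟦n⟧)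
  have : Ψ.IsClosedUnderIsomorphisms :=
    ⟨fun e hX m n => (hX m n).of_iso ((shiftFunctor _ m).mapIso e) (Iso.refl _)⟩
  have hΨ : Ψ K := by
    refine devissage_bounded Ψ (fun Z hZ m n => mapBij_of_isZero_left G (Functor.map_isZero _ hZ))
      (fun Δ hΔ h₁ h₃ m n => ?_) K a b fun j _ _ m n => ?_
    · exact MapBij.obj₂_left _ (Triangle.shift_distinguished Δ hΔ m) (h₁ m n) (h₃ m n)
        ((h₁ (m + 1) n).of_iso ((shiftFunctorAdd' _ m 1 (m + 1) rfl).app _) (Iso.refl _))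
        ((h₃ (m - 1) n).of_iso ((shiftFunctorAdd' _ m (-1) (m - 1) (by omega)).app _) (Iso.refl _))
    · exact (hΦ _ (hK j) (-j + m) n).of_iso
        ((shiftFunctorAdd' _ (-j) m (-j + m) rfl).app _ ≪≫
          (shiftFunctor _ m).mapIso (((singleFunctors A).shiftIso (-j) j 0 (by omega)).app _)) (Iso.refl _)
  exact (hΨ 0 0).of_iso ((shiftFunctorZero _ ℤ).app K) ((shiftFunctorZero _ ℤ).app L)

variable (P' : ObjectProperty B) [WSerre.IsWeakSerre P] [WSerre.IsWeakSerre P']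

/-- Essential surjectivity on bounded objects. -/
theorem exists_preimage_bounded
    (h : ∀ M M', P M → P M' → ∀ n : ℤ,
      MapBij G ((singleFunctor A 0).obj M) (((singleFunctor A 0).obj M')⟦n⟧))
    (hsurj : ∀ N, P' N → ∃ M, P M ∧ Nonempty (G.obj ((singleFunctor A 0).obj M) ≅ (singleFunctor B 0).obj N))
    (X : DerivedCategory B) (a b : ℤ) [X.IsGE a] [X.IsLE b] (hX : WSerre.cohIn P' X) :
    ∃ K : DerivedCategory A, WSerre.cohInBdd P K ∧ Nonempty (G.obj K ≅ X) := by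
  let Φ : ObjectProperty (DerivedCategory B) :=
    fun Y => ∃ K : DerivedCategory A, WSerre.cohInBdd P K ∧ Nonempty (G.obj K ≅ Y)
  have : Φ.IsClosedUnderIsomorphisms :=
    ⟨fun e ⟨K, hK, ⟨e'⟩⟩ => ⟨K, hK, ⟨e' ≪≫ e⟩⟩⟩
  have hzero : ∀ Z, IsZero Z → Φ Z := fun Z hZ => by
    obtain ⟨O, hO⟩ := HasZeroObject.zero (C := DerivedCategory A)
    refine ⟨O, ⟨fun i => P.prop_of_isZero (Functor.map_isZero _ hO), ⟨0, ?_⟩, ⟨0, ?_⟩⟩,
      ⟨(G.map_isZero hO).iso hZ⟩⟩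
    · exact (isGE_iff _ _).2 fun i _ => Functor.map_isZero _ hO
    · exact (isLE_iff _ _).2 fun i _ => Functor.map_isZero _ hO
  have hsingle : ∀ n : ℤ, a ≤ n → n ≤ b →
      Φ ((singleFunctor B n).obj ((DerivedCategory.homologyFunctor B n).obj X)) := by
    intro n _ _
    obtain ⟨M, hM, ⟨e⟩⟩ := hsurj _ (hX n)
    let iA := ((singleFunctors A).shiftIso (-n) n 0 (by omega)).app M
    refine ⟨(singleFunctor A n).obj M, ⟨cohIn_single P hM n, ⟨n, ?_⟩, ⟨n, ?_⟩⟩,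
      ⟨G.mapIso iA.symm ≪≫ (G.commShiftIso (-n)).app _ ≪≫ (shiftFunctor _ (-n)).mapIso e ≪≫
        ((singleFunctors B).shiftIso (-n) n 0 (by omega)).app _⟩⟩
    · exact inferInstanceAs (((singleFunctor A n).obj M).IsGE n)
    · exact inferInstanceAs (((singleFunctor A n).obj M).IsLE n)
  refine devissage_bounded Φ hzero (fun Δ hΔ h₁ h₃ => ?_) X a b hsingle
  obtain ⟨K₁, ⟨hK₁, ⟨a₁, g₁⟩, ⟨b₁, l₁⟩⟩, ⟨e₁⟩⟩ := h₁
  obtain ⟨K₃, ⟨hK₃, ⟨a₃, g₃⟩, ⟨b₃, l₃⟩⟩, ⟨e₃⟩⟩ := h₃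
  let c : G.obj K₃ ⟶ G.obj (K₁⟦(1 : ℤ)⟧) :=
    e₃.hom ≫ Δ.mor₃ ≫ e₁.inv⟦(1 : ℤ)⟧' ≫ (G.commShiftIso (1 : ℤ)).inv.app K₁
  have := g₁
  have := l₁
  have := g₃
  have := l₃
  have : (K₁⟦(1 : ℤ)⟧).IsGE (a₁ - 1) := (tA).isGE_shift K₁ a₁ 1 (a₁ - 1) (by omega)
  have : (K₁⟦(1 : ℤ)⟧).IsLE (b₁ - 1) := (tA).isLE_shift K₁ b₁ 1 (b₁ - 1) (by omega)
  obtain ⟨φ, hφ⟩ := (mapBij_bounded G P h K₃ (K₁⟦(1 : ℤ)⟧) a₃ b₃ (a₁ - 1) (b₁ - 1) hK₃
    (cohIn_shift P hK₁ 1)).2 c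
  obtain ⟨K₂, i, p, hT⟩ := distinguished_cocone_triangle₂ φ
  have hge : K₂.IsGE (min a₁ a₃) := by
    refine (tA).isGE₂ _ hT _ ?_ ?_
    · exact (tA).isGE_of_ge K₁ (min a₁ a₃) a₁ (min_le_left _ _)
    · exact (tA).isGE_of_ge K₃ (min a₁ a₃) a₃ (min_le_right _ _)
  have hle : K₂.IsLE (max b₁ b₃) := by
    refine (tA).isLE₂ _ hT _ ?_ ?_
    · exact (tA).isLE_of_le K₁ b₁ (max b₁ b₃) (le_max_left _ _)
    · exact (tA).isLE_of_le K₃ b₃ (max b₁ b₃) (le_max_right _ _)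
  refine ⟨K₂, ⟨prop_H_obj₂ P _ hT hK₁ hK₃, ⟨_, hge⟩, ⟨_, hle⟩⟩, ?_⟩
  have hT' := G.map_distinguished _ hT
  refine ⟨Triangle.π₂.mapIso (isoTriangleOfIso₁₃ _ Δ hT' hΔ e₁ e₃ ?_)⟩
  show (G.map φ ≫ (G.commShiftIso (1 : ℤ)).hom.app K₁) ≫ e₁.hom⟦(1 : ℤ)⟧' = e₃.hom ≫ Δ.mor₃
  rw [show G.map φ = c from hφ]
  simp [c, ← Functor.map_comp]

end Derived

end Groth.Agent.DSites
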