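import Groth.Prelude.Def_CechOX
import Groth.Agent.QCoh.ToSheaf
import Mathlib.CategoryTheory.Sites.LocallyBijective
import Mathlib.Algebra.Homology.ShortComplex.Ab
import Mathlib.Algebra.Category.Grp.Abelian

/-!
# The Čech complex of sheaves is a resolution

Over an open contained in a member of the family the complex of sections of the Čech complex has a
contracting homotopy; so the augmented complex is exact on a basis, hence exact as a complex of sheaves.
-/

universe v u w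

set_option autoImplicit false
set_option backward.isDefEq.respectTransparency false
set_option backward.isDefEq.respectTransparency.types false

open CategoryTheory Limits Opposite

namespace Groth.Agent.DSites.CechShRes

section Homotopy

variable {D : Type u} [Category.{u} D] [HasFiniteProducts D] [Quiver.IsThin D] {A : Type v} [Category.{u} A]
  [Preadditive A] [HasProducts.{u} A] {ι : Type u} (Y : ι → D) (G : Dᵒᵖ ⥤ A) (E : A ⥤ AddCommGrpCat.{u})
  [E.Additive]

/-- The object of a tuple. -/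
noncomputable abbrev tup {n : ℕ} (i : Fin n → ι) : D := ∏ᶜ fun k => Y (i k)

/-- Values of a cochain on tuples. -/
noncomputable def eev (n : ℕ) (i : Fin (n + 1) → ι) :
    E.obj (((cechComplexFunctor Y).obj G).X n) →+ E.obj (G.obj (op (tup Y i))) :=
  (E.map (Pi.π (fun j : Fin (n + 1) → ι => G.obj (op (∏ᶜ fun k => Y (j k)))) i)).hom

/-- The projection of the tuples. -/
noncomputable abbrev tmap {n m : ℕ} (i : Fin n → ι) (f : Fin m → Fin n) : tup Y i ⟶ tup Y (i ∘ f) :=
  Pi.lift fun k => Pi.π (fun k => Y (i k)) (f k)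

lemma eev_congr {n : ℕ} {W : D} {i i' : Fin (n + 1) → ι} (h : i = i') (f : W ⟶ tup Y i) (g : W ⟶ tup Y i')
    (x : E.obj (((cechComplexFunctor Y).obj G).X n)) :
    (E.map (G.map f.op)).hom (eev Y G E n i x) = (E.map (G.map g.op)).hom (eev Y G E n i' x) := by
  subst h; rw [Subsingleton.elim f g]

lemma d_comp_π (n : ℕ) (i : Fin (n + 2) → ι) :
    ((cechComplexFunctor Y).obj G).d n (n + 1) ≫
        Pi.π (fun j : Fin (n + 2) → ι => G.obj (op (∏ᶜ fun k => Y (j k)))) i =
      ∑ j : Fin (n + 2), (-1 : ℤ) ^ (j : ℕ) •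
        (Pi.π (fun j : Fin (n + 1) → ι => G.obj (op (∏ᶜ fun k => Y (j k)))) (i ∘ j.succAbove) ≫
          G.map (tmap Y i j.succAbove).op) := by
  have e : ((cechComplexFunctor Y).obj G).d n (n + 1) =
      AlgebraicTopology.AlternatingCofaceMapComplex.objD
        ((FormalCoproduct.cosimplicialObjectFunctor (FormalCoproduct.mk _ Y).cech).obj G) n := by
    simp [cechComplexFunctor, FormalCoproduct.cochainComplexFunctor,
      AlgebraicTopology.alternatingCofaceMapComplex,
      AlgebraicTopology.AlternatingCofaceMapComplex.obj]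
  rw [e, AlgebraicTopology.AlternatingCofaceMapComplex.objD]
  refine (Preadditive.sum_comp _ _ _).trans (Finset.sum_congr rfl fun j _ => ?_)
  rw [Preadditive.zsmul_comp]
  congr 1
  exact Pi.lift_π (fun i : Fin (n + 2) → ι =>
    (Pi.π (fun j : Fin (n + 1) → ι => G.obj (op (∏ᶜ fun k => Y (j k)))) (i ∘ j.succAbove)) ≫
      G.map (tmap Y i j.succAbove).op) i

lemma eev_d (n : ℕ) (i : Fin (n + 2) → ι) (x : E.obj (((cechComplexFunctor Y).obj G).X n)) :
    eev Y G E (n + 1) i ((E.map (((cechComplexFunctor Y).obj G).d n (n + 1))).hom x) =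
      ∑ j : Fin (n + 2), (-1 : ℤ) ^ (j : ℕ) •
        (E.map (G.map (tmap Y i j.succAbove).op)).hom (eev Y G E n (i ∘ j.succAbove) x) := by
  have h := congrArg E.map (d_comp_π Y G n i)
  rw [E.map_comp, E.map_sum] at h
  refine (ConcreteCategory.congr_hom h x).trans ?_
  refine (map_sum (AddMonoidHom.mk' (fun g : E.obj (((cechComplexFunctor Y).obj G).X n) ⟶
    E.obj (G.obj (op (tup Y i))) => g.hom x) fun _ _ => rfl) _ _).trans ?_
  refine Finset.sum_congr rfl fun j _ => ?_
  simp only [AddMonoidHom.mk'_apply]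
  rw [E.map_zsmul, E.map_comp]
  rfl

variable [∀ α : Type u, PreservesLimitsOfShape (Discrete α) E]

lemma eev_ext {n : ℕ} {x y : E.obj (((cechComplexFunctor Y).obj G).X n)}
    (h : ∀ i, eev Y G E n i x = eev Y G E n i y) : x = y :=
  Concrete.isLimit_ext _ (isLimitOfPreserves E
    (productIsProduct fun j : Fin (n + 1) → ι => G.obj (op (∏ᶜ fun k => Y (j k))))) x y fun ⟨i⟩ => h i

lemma exists_eev {n : ℕ} (g : ∀ i : Fin (n + 1) → ι, E.obj (G.obj (op (tup Y i)))) :
    ∃ x, ∀ i, eev Y G E n i x = g i := by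
  let P := fun j : Fin (n + 1) → ι => G.obj (op (∏ᶜ fun k => Y (j k)))
  refine ⟨(PreservesProduct.iso E P).inv ((Concrete.productEquiv (fun j => E.obj (P j))).symm g), fun i => ?_⟩
  refine Eq.trans ?_ (Concrete.productEquiv_symm_apply_π (fun j => E.obj (P j)) g i)
  show (E.map (Pi.π P i)).hom _ = _
  have h : E.map (Pi.π P i) = (PreservesProduct.iso E P).hom ≫ Pi.π (fun j => E.obj (P j)) i := by
    rw [PreservesProduct.iso_hom, piComparison_comp_π]
  rw [h, ConcreteCategory.comp_apply, Iso.inv_hom_id_apply]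

variable {G E} {i₀ : ι}
  (hiso : ∀ (n : ℕ) (i : Fin n → ι) (_ : 0 < n),
    IsIso (E.map (G.map (show tup Y (Fin.cons i₀ i : Fin (n + 1) → ι) ⟶ tup Y i from
      Pi.lift fun k => Pi.π (fun k => Y ((Fin.cons i₀ i : Fin (n + 1) → ι) k)) k.succ).op)))

include hiso in
/-- Exactness in positive degrees. -/
theorem exists_preimage (n : ℕ) (x : E.obj (((cechComplexFunctor Y).obj G).X (n + 1)))
    (hx : (E.map (((cechComplexFunctor Y).obj G).d (n + 1) (n + 1 + 1))).hom x = 0) :
    ∃ y, (E.map (((cechComplexFunctor Y).obj G).d n (n + 1))).hom y = x := by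
  let r : ∀ {m : ℕ} (i : Fin (m + 1) → ι), tup Y (Fin.cons i₀ i : Fin (m + 2) → ι) ⟶ tup Y i := fun i =>
    Pi.lift fun k => Pi.π (fun k => Y ((Fin.cons i₀ i : Fin _ → ι) k)) k.succ
  have hr : ∀ {m : ℕ} (i : Fin (m + 1) → ι), Function.Bijective (E.map (G.map (r i).op)).hom := fun i =>
    (ConcreteCategory.isIso_iff_bijective _).1 (hiso _ i (Nat.succ_pos _))
  choose g hg using fun i : Fin (n + 1) → ι =>
    (hr i).2 (eev Y G E (n + 1) (Fin.cons i₀ i : Fin (n + 2) → ι) x)
  obtain ⟨y, hy⟩ := exists_eev Y G E g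
  refine ⟨y, eev_ext Y G E fun i => (hr i).1 ?_⟩
  have h0 := eev_d Y G E (n + 1) (Fin.cons i₀ i : Fin (n + 3) → ι) x
  rw [hx, map_zero, Fin.sum_univ_succ] at h0
  simp only [Fin.val_zero, pow_zero, one_smul, Fin.val_succ, pow_succ, mul_neg, mul_one, neg_smul,
    Finset.sum_neg_distrib] at h0
  rw [eev_d, map_sum]
  refine Eq.trans ?_ ((eq_of_sub_eq_zero ((sub_eq_add_neg _ _).trans h0.symm)).symm.trans ?_)
  · refine Finset.sum_congr rfl fun j _ => ?_
    rw [map_zsmul]
    congr 1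
    rw [hy]
    have hcons : (Fin.cons i₀ (i ∘ j.succAbove) : Fin (n + 2) → ι) =
        (Fin.cons i₀ i : Fin (n + 3) → ι) ∘ j.succ.succAbove := by
      funext k
      refine Fin.cases ?_ (fun k => ?_) k
      · simp
      · simp
    let q : tup Y (Fin.cons i₀ i : Fin (n + 3) → ι) ⟶ tup Y (Fin.cons i₀ (i ∘ j.succAbove) : Fin (n + 2) → ι) :=
      tmap Y _ j.succ.succAbove ≫ eqToHom (congrArg (tup Y) hcons.symm)
    have e : (E.map (G.map (tmap Y i j.succAbove).op) ≫ E.map (G.map (r i).op)) =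
        E.map (G.map (r (i ∘ j.succAbove)).op) ≫ E.map (G.map q.op) := by
      rw [← E.map_comp, ← E.map_comp, ← G.map_comp, ← G.map_comp, ← op_comp, ← op_comp,
        Subsingleton.elim (r i ≫ tmap Y i j.succAbove) (q ≫ r (i ∘ j.succAbove))]
    refine (ConcreteCategory.congr_hom e (g (i ∘ j.succAbove))).trans ?_
    refine (congrArg (E.map (G.map q.op)).hom (hg _)).trans ?_
    exact eev_congr Y G E hcons _ _ x
  · exact eev_congr Y G E (funext fun k => by simp) _ _ x

include hiso in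
/-- A cocycle in degree zero is determined by its value at `i₀`. -/
theorem ext_zero (x y : E.obj (((cechComplexFunctor Y).obj G).X 0))
    (hx : (E.map (((cechComplexFunctor Y).obj G).d 0 1)).hom x = 0)
    (hy : (E.map (((cechComplexFunctor Y).obj G).d 0 1)).hom y = 0)
    (h : eev Y G E 0 (fun _ => i₀) x = eev Y G E 0 (fun _ => i₀) y) : x = y := by
  refine eev_ext Y G E fun i => ((ConcreteCategory.isIso_iff_bijective _).1 (hiso 1 i Nat.one_pos)).1 ?_
  let r : tup Y (Fin.cons i₀ i : Fin 2 → ι) ⟶ tup Y i :=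
    Pi.lift fun k => Pi.π (fun k => Y ((Fin.cons i₀ i : Fin 2 → ι) k)) k.succ
  have key : ∀ z : E.obj (((cechComplexFunctor Y).obj G).X 0),
      (E.map (((cechComplexFunctor Y).obj G).d 0 1)).hom z = 0 →
      (E.map (G.map r.op)).hom (eev Y G E 0 i z) =
        (E.map (G.map (show tup Y (Fin.cons i₀ i : Fin 2 → ι) ⟶ tup Y (fun _ : Fin 1 => i₀) from
          Pi.lift fun _ => Pi.π (fun k => Y ((Fin.cons i₀ i : Fin 2 → ι) k)) 0).op)).hom
            (eev Y G E 0 (fun _ => i₀) z) := fun z hz => by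
    have h0 := eev_d Y G E 0 (Fin.cons i₀ i : Fin 2 → ι) z
    rw [hz, map_zero, Fin.sum_univ_two] at h0
    simp only [Fin.val_zero, pow_zero, one_smul, Fin.val_one, pow_one, neg_smul] at h0
    refine Eq.trans ?_ ((eq_of_sub_eq_zero ((sub_eq_add_neg _ _).trans h0.symm)).trans ?_)
    · exact eev_congr Y G E (funext fun k => by fin_cases k; rfl) _ _ z
    · exact eev_congr Y G E (funext fun k => by fin_cases k; rfl) _ _ z
  exact (key x hx).trans ((congrArg _ h).trans (key y hy).symm)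

end Homotopy

section Scheme

open AlgebraicGeometry CechOX TopologicalSpace

variable {X : Scheme.{u}} {ι : Type u} (𝒰 : ι → X.Opens)

/-- Sections over an open, as a functor on modules. -/
noncomputable abbrev secF (V : X.Opens) : X.Modules ⥤ AddCommGrpCat.{u} :=
  Scheme.Modules.toPresheaf X ⋙ (evaluation _ _).obj (op V)

lemma isIso_map_of_eq (P : (X.Opens)ᵒᵖ ⥤ AddCommGrpCat.{u}) {a b : X.Opens} (h : a ⟶ b) (e : b ≤ a) :
    IsIso (P.map h.op) := by
  have : IsIso h := ⟨homOfLE e, Subsingleton.elim _ _, Subsingleton.elim _ _⟩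
  infer_instance

instance (V : X.Opens) : (secF V).Additive := ⟨fun {_ _ _ _} => rfl⟩

variable (F : X.Modules)

/-- The family of the direct images of the restrictions. -/
noncomputable abbrev fam : (X.Opens)ᵒᵖ ⥤ X.Modules := pushRestrFam.flip.obj F

lemma hiso_secF {V : X.Opens} {i₀ : ι} (hV : V ≤ 𝒰 i₀) (n : ℕ) (i : Fin n → ι) (_hn : 0 < n) :
    IsIso ((secF V).map ((fam F).map (show tup 𝒰 (Fin.cons i₀ i : Fin (n + 1) → ι) ⟶ tup 𝒰 i from
      Pi.lift fun k => Pi.π (fun k => 𝒰 ((Fin.cons i₀ i : Fin (n + 1) → ι) k)) k.succ).op)) := by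
  let a := tup 𝒰 (Fin.cons i₀ i : Fin (n + 1) → ι)
  have hle : tup 𝒰 i ⊓ V ≤ a := leOfHom <| Pi.lift fun k => homOfLE (by
    refine Fin.cases ?_ (fun k => ?_) k
    · simpa using inf_le_right.trans hV
    · simpa using inf_le_left.trans (leOfHom (Pi.π (fun k => 𝒰 (i k)) k)))
  have e : (tup 𝒰 i).ι ''ᵁ ((tup 𝒰 i).ι ⁻¹ᵁ V) ≤ a.ι ''ᵁ (a.ι ⁻¹ᵁ V) := by
    rw [Scheme.Hom.image_preimage_eq_opensRange_inf, Scheme.Hom.image_preimage_eq_opensRange_inf,
      Scheme.Opens.opensRange_ι, Scheme.Opens.opensRange_ι]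
    exact le_inf hle inf_le_right
  exact isIso_map_of_eq F.presheaf (homOfLE _) e

lemma isIso_aug {V : X.Opens} {W : X.Opens} (hV : V ≤ W) :
    IsIso ((secF V).map ((Scheme.Modules.restrictAdjunction W.ι).unit.app F)) := by
  have e : V ≤ W.ι ''ᵁ (W.ι ⁻¹ᵁ V) := by
    rw [Scheme.Hom.image_preimage_eq_opensRange_inf, Scheme.Opens.opensRange_ι]
    exact le_inf hV le_rfl
  show IsIso (((Scheme.Modules.restrictAdjunction W.ι).unit.app F).app V)
  rw [Scheme.Modules.restrictAdjunction_unit_app_app]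
  exact isIso_map_of_eq F.presheaf _ e

variable (h𝒰 : ⨆ i, 𝒰 i = ⊤)

include h𝒰 in
/-- A short complex of modules is exact if it is exact on sections over small opens. -/
theorem exact_of_small (S : ShortComplex X.Modules)
    (h : ∀ (V : X.Opens) (i₀ : ι), V ≤ 𝒰 i₀ → ∀ x : (secF V).obj S.X₂, ((secF V).map S.g).hom x = 0 →
      ∃ y, ((secF V).map S.f).hom y = x) : S.Exact := by
  let T : X.Modules ⥤ Sheaf (Opens.grothendieckTopology X) AddCommGrpCat.{u} := QCoh.toAbFunctor X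
  haveI : T.Faithful := inferInstanceAs (SheafOfModules.toSheaf X.ringCatSheaf).Faithful
  rw [← S.exact_map_iff_of_faithful T]
  let K := kernel (T.map S.g)
  let l : T.obj S.X₁ ⟶ K := kernel.lift _ (T.map S.f) (by rw [← T.map_comp, S.zero, T.map_zero])
  have : Sheaf.IsLocallySurjective l := by
    refine ⟨fun {V} s p hp => ?_⟩
    obtain ⟨i, hi⟩ := Opens.mem_iSup.1 (show p ∈ ⨆ i, 𝒰 i by rw [h𝒰]; trivial)
    let W := V ⊓ 𝒰 i
    refine ⟨W, homOfLE inf_le_left, ?_, ⟨hp, hi⟩⟩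
    let s' := K.obj.map (homOfLE (inf_le_left : W ≤ V)).op s
    have hz : ((secF W).map S.g).hom ((kernel.ι (T.map S.g)).hom.app (op W) s') = 0 :=
      ConcreteCategory.congr_hom (congrArg (fun φ => φ.hom.app (op W)) (kernel.condition (T.map S.g))) s'
    obtain ⟨y, hy⟩ := h W i inf_le_right _ hz
    refine ⟨y, ?_⟩
    have hm : Mono ((kernel.ι (T.map S.g)).hom.app (op W)) :=
      inferInstanceAs (Mono ((sheafToPresheaf _ _ ⋙ (evaluation _ _).obj (op W)).map (kernel.ι (T.map S.g))))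
    refine (AddCommGrpCat.mono_iff_injective _).1 hm ?_
    refine Eq.trans ?_ hy
    exact ConcreteCategory.congr_hom (congrArg (fun φ => φ.hom.app (op W))
      (kernel.lift_ι (T.map S.g) (T.map S.f) _)) y
  have : Epi l := Sheaf.epi_of_isLocallySurjective l
  exact (S.map T).exact_iff_epi_kernel_lift.2 this

lemma eev_aug (V : X.Opens) (i : Fin 1 → ι) (y : (secF V).obj F) :
    eev 𝒰 (fam F) (secF V) 0 i (((secF V).map (cechShAug 𝒰 F)).hom y) =
      ((secF V).map ((Scheme.Modules.restrictAdjunction (∏ᶜ (𝒰 ∘ i)).ι).unit.app F)).hom y := by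
  have h := congrArg (secF V).map (Pi.lift_π (fun i : (Fin 1 → ι) =>
    (Scheme.Modules.restrictAdjunction (∏ᶜ (𝒰 ∘ i)).ι).unit.app F) i)
  rw [Functor.map_comp] at h
  exact ConcreteCategory.congr_hom h y

include h𝒰 in
/-- The coaugmentation is a monomorphism. -/
theorem mono_aug : Mono (cechShAug 𝒰 F) := by
  refine ((ShortComplex.mk (0 : F ⟶ F) (cechShAug 𝒰 F) zero_comp).exact_iff_mono rfl).1
    (exact_of_small 𝒰 h𝒰 _ fun V i₀ hV x hx => ⟨0, ?_⟩)
  let j : Fin 1 → ι := fun _ => i₀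
  have hW : V ≤ ∏ᶜ (𝒰 ∘ j) :=
    hV.trans (leOfHom (Pi.lift fun _ : Fin 1 => 𝟙 (𝒰 i₀) : 𝒰 i₀ ⟶ ∏ᶜ (𝒰 ∘ j)))
  refine (map_zero _).trans (((ConcreteCategory.isIso_iff_bijective _).1 (isIso_aug F hW)).1 ?_).symm
  refine Eq.trans ?_ (map_zero _).symm
  refine (eev_aug 𝒰 F V j x).symm.trans ?_
  exact (congrArg (eev 𝒰 (fam F) (secF V) 0 j) hx).trans (map_zero _)

lemma fam_map_unit {V W W' : X.Opens} (h : W' ⟶ W) (s : (secF V).obj F) :
    ((secF V).map ((fam F).map h.op)).hom
        (((secF V).map ((Scheme.Modules.restrictAdjunction W.ι).unit.app F)).hom s) =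
      (F.presheaf.map (homOfLE (W'.ι.image_preimage_le V)).op).hom s := by
  show ((pushRestrMapApp (leOfHom h) F).app V).hom
    ((((Scheme.Modules.restrictAdjunction W.ι).unit.app F).app V).hom s) = _
  rw [Scheme.Modules.restrictAdjunction_unit_app_app, pushRestrMapApp_app]
  refine (ConcreteCategory.congr_hom (F.presheaf.map_comp _ _) s).symm.trans ?_
  rfl

/-- The coaugmentation composed with the first differential is zero. -/
theorem aug_comp_d : cechShAug 𝒰 F ≫ ((cechSh 𝒰).obj F).d 0 1 = 0 := by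
  refine (Scheme.Modules.toPresheaf X).map_injective ?_
  ext V s
  show ((secF V).map (cechShAug 𝒰 F ≫ ((cechComplexFunctor 𝒰).obj (fam F)).d 0 1)).hom s =
    ((secF V).map (0 : F ⟶ ((cechComplexFunctor 𝒰).obj (fam F)).X 1)).hom s
  refine eev_ext 𝒰 (fam F) (secF V) fun i => ?_
  rw [Functor.map_comp, ConcreteCategory.comp_apply]
  refine (eev_d 𝒰 (fam F) (secF V) 0 i _).trans ?_
  rw [Functor.map_zero, Fin.sum_univ_two, eev_aug, eev_aug]
  simp only [Fin.val_zero, pow_zero, one_smul, Fin.val_one, pow_one, neg_smul]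
  refine Eq.trans ?_ (map_zero (eev 𝒰 (fam F) (secF V) 1 i)).symm
  refine add_neg_eq_zero.2 ?_
  exact (fam_map_unit F (tmap 𝒰 i (Fin.succAbove 0)) s).trans
    (fam_map_unit F (tmap 𝒰 i (Fin.succAbove 1)) s).symm

include h𝒰 in
theorem exact_aug :
    (ShortComplex.mk (cechShAug 𝒰 F) (((cechSh 𝒰).obj F).d 0 1) (aug_comp_d 𝒰 F)).Exact :=
  exact_of_small 𝒰 h𝒰 _ fun V i₀ hV x hx => by
    let j : Fin 1 → ι := fun _ => i₀
    have hW : V ≤ ∏ᶜ (𝒰 ∘ j) :=
      hV.trans (leOfHom (Pi.lift fun _ : Fin 1 => 𝟙 (𝒰 i₀) : 𝒰 i₀ ⟶ ∏ᶜ (𝒰 ∘ j)))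
    obtain ⟨y, hy⟩ := ((ConcreteCategory.isIso_iff_bijective _).1 (isIso_aug F hW)).2
      (eev 𝒰 (fam F) (secF V) 0 j x)
    refine ⟨y, ext_zero 𝒰 (fun n i hn => hiso_secF 𝒰 F hV n i hn) _ _ ?_ hx ((eev_aug 𝒰 F V j y).trans hy)⟩
    exact (ConcreteCategory.congr_hom (((secF V).map_comp _ _).symm.trans
      ((congrArg (secF V).map (aug_comp_d 𝒰 F)).trans ((secF V).map_zero _ _))) y).trans rfl

include h𝒰 in
theorem exactAt_succ (p : ℕ) : ((cechSh 𝒰).obj F).ExactAt (p + 1) := by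
  rw [HomologicalComplex.exactAt_iff' _ p (p + 1) (p + 1 + 1) (by simp) (by simp)]
  exact exact_of_small 𝒰 h𝒰 _ fun V i₀ hV x hx =>
    exists_preimage 𝒰 (fun n i hn => hiso_secF 𝒰 F hV n i hn) p x hx

end Scheme

end Groth.Agent.DSites.CechShRes
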