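import Groth.Agent.DSites.CmpMain
import Groth.Agent.SiteBase.Kill
import Groth.Agent.SiteBase.LerayDegen
import Groth.Agent.SiteBase.SESResLib

/-!
Consequences of the comparison of two topologies: weak Serre subcategories, cohomology, killing of equalised classes.
-/

universe u

open CategoryTheory CategoryTheory.Limits Opposite CategoryTheory.Abelian

namespace Groth.Agent.DSites.Cmp

variable {C : Type u} [SmallCategory C] {J J' : GrothendieckTopology C} {h : J' ≤ J} {P : MorphismProperty C}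
  {A' : ∀ X : C, ObjectProperty (Sh J' X)} (S : Setting h P A')

include S

theorem isWeakSerre_inverseImage (h5 : Refines J J' P) (X : C) :
    WSerre.IsWeakSerre ((A' X).inverseImage (eps J h X)) := by
  haveI := S.weak X
  refine { exists_zero := ?_, kernels_le := ?_, cokernels_le := ?_, prop_X₂_of_shortExact := ?_ }
  · obtain ⟨Z, hZ, hPZ⟩ := (A' X).exists_prop_of_containsZero
    obtain ⟨Z₀, hZ₀⟩ := HasZeroObject.zero (C := Sh J X)
    exact ⟨Z₀, hZ₀, (A' X).prop_of_iso (hZ.iso (Functor.map_isZero (eps J h X) hZ₀)) hPZ⟩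
  · rintro _ ⟨f, k, hk, hf₁, hf₂⟩
    exact (A' X).prop_of_isLimit_kernelFork (KernelFork.mapIsLimit _ hk (eps J h X)) hf₁ hf₂
  · rintro _ ⟨f, k, hk, hf₁, hf₂⟩
    have hA := (A' X).prop_cokernel ((eps J h X).map f) hf₁ hf₂
    obtain ⟨-, ⟨e⟩⟩ := cokernel_of_essImage (eps J h X) f (S.mem_essImage hA)
    exact (A' X).prop_of_iso (e ≪≫ (eps J h X).mapIso
      (IsColimit.coconePointUniqueUpToIso (colimit.isColimit _) hk)) hA
  · intro T hT h₁ h₃
    have hepi := epi_map_g_of_R_one (eps J h X) hT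
      ((van S h5 1).isZero h₁ le_rfl le_rfl)
    have := hT.mono_f
    exact (A' X).prop_X₂_of_shortExact
      ({ exact := hT.exact.map_of_mono_of_preservesKernel (eps J h X) hT.mono_f inferInstance
         mono_f := inferInstanceAs (Mono ((eps J h X).map T.f))
         epi_g := hepi } : (T.map (eps J h X)).ShortExact) h₁ h₃

omit S in
/-- Sections in degree zero cohomology, naturally. -/
lemma huZero_natural {D : Type u} [SmallCategory D] {K : GrothendieckTopology D} {F G : Sheaf K AddCommGrpCat.{u}}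
    (U : D) (φ : F ⟶ G) (y : Ext (CohCx.freeSheaf K U) F 0) :
    SiteBase.huZero G U (y.comp (Ext.mk₀ φ) (add_zero 0)) = φ.hom.app (op U) (SiteBase.huZero F U y) := by
  obtain ⟨ψ, rfl⟩ := (Ext.mk₀_bijective _ _).2 y
  rw [Ext.mk₀_comp_mk₀, SiteBase.huZero_mk₀, SiteBase.huZero_mk₀, SiteBase.secEquiv_comp]

theorem nonempty_cohomology_iso (h5 : Refines J J' P) (X : C) (F' : Sh J' X) (hF' : A' X F') (n : ℕ)
    [haveI := SiteCmp.idContinuous (SiteCmp.over_le h X);
      ((𝟭 (Over X)).sheafPushforwardContinuous AddCommGrpCat.{u} (J'.over X) (J.over X)).IsRightAdjoint] :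
    Nonempty (CohSite.HU F' n (Over.mk (𝟙 X)) ≃+
      CohSite.HU ((SiteCmp.epsShInv (SiteCmp.over_le h X) AddCommGrpCat.{u}).obj F') n (Over.mk (𝟙 X))) := by
  haveI := S.weak X
  let U : Over X := Over.mk (𝟙 X)
  obtain ⟨G, ⟨e⟩⟩ := S.mem_essImage hF'
  have hG : A' X ((eps J h X).obj G) := (A' X).prop_of_iso e.symm hF'
  let ε := SiteCmp.epsShInv (SiteCmp.over_le h X) AddCommGrpCat.{u}
  let adj := SiteCmp.epsShAdj (SiteCmp.over_le h X) AddCommGrpCat.{u}
  haveI : IsIso adj.counit := Adjunction.counit_isIso_of_R_fully_faithful adj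
  let e' : ε.obj F' ≅ G := ε.mapIso e.symm ≪≫ asIso (adj.counit.app G)
  let Z := CohCx.freeSheaf (J.over X) U
  let Z' := CohCx.freeSheaf (J'.over X) U
  obtain ⟨φ⟩ := LerayDegen.ext_equiv_of_rightDerived Z Z' (eps J h X)
    (fun I hI => (eps_preservesInjective h X).injective_obj hI)
    (fun G => (SiteBase.huZero G U).trans (SiteBase.huZero ((eps J h X).obj G) U).symm)
    (fun {G G'} φ y => by
      apply (SiteBase.huZero ((eps J h X).obj G') U).injective
      rw [huZero_natural]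
      exact ((SiteBase.huZero _ U).apply_symm_apply _).trans ((huZero_natural U φ y).trans
        (congrArg (φ.hom.app (op U)) ((SiteBase.huZero ((eps J h X).obj G) U).apply_symm_apply _).symm)))
    (SESResLib.derivedLES (eps J h X)) G
    (fun q => (van S h5 (q + 1)).isZero hG (by omega) le_rfl) n
  exact ⟨((((extFunctor n).obj (op Z')).mapIso e.symm).addCommGroupIsoToAddEquiv.trans φ.symm).trans
    (((extFunctor n).obj (op Z)).mapIso e'.symm).addCommGroupIsoToAddEquiv⟩

omit S in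
/-- The class of a cocycle section. -/
noncomputable abbrev cl {D : Type u} [SmallCategory D] {K : GrothendieckTopology D} {F : Sheaf K AddCommGrpCat.{u}}
    (R : InjectiveResolution F) {m : ℕ} {U : D} (φ : CohCx.freeSheaf K U ⟶ R.cocomplex.X m)
    (hφ : φ ≫ R.cocomplex.d m (m + 1) = 0) : CohSite.HU F m U :=
  R.extMk φ (m + 1) rfl hφ

omit S in
lemma res_cl {D : Type u} [SmallCategory D] {K : GrothendieckTopology D} {F : Sheaf K AddCommGrpCat.{u}}
    (R : InjectiveResolution F) {m : ℕ} {U V : D} (g : V ⟶ U) (φ : CohCx.freeSheaf K U ⟶ R.cocomplex.X m)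
    (hφ : φ ≫ R.cocomplex.d m (m + 1) = 0) :
    CohSite.res F m g (cl R φ hφ) = cl R (CohCx.freeSheafMap K g ≫ φ) (by rw [Category.assoc, hφ, comp_zero]) :=
  (SiteBase.res_eq_comp F m g _).trans (R.mk₀_comp_extMk φ (m + 1) rfl hφ _)

omit S in
lemma exists_section_of_cl_eq_zero {D : Type u} [SmallCategory D] {K : GrothendieckTopology D}
    {F : Sheaf K AddCommGrpCat.{u}} (R : InjectiveResolution F) {m : ℕ} {U : D}
    (φ : CohCx.freeSheaf K U ⟶ R.cocomplex.X (m + 1)) (hφ : φ ≫ R.cocomplex.d (m + 1) (m + 1 + 1) = 0)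
    (h0 : cl R φ hφ = 0) :
    ∃ y, (R.cocomplex.d m (m + 1)).hom.app (op U) y = SiteBase.secEquiv K U _ φ := by
  obtain ⟨g, hg⟩ := (R.extMk_eq_zero_iff φ (m + 1 + 1) rfl hφ m rfl).1 h0
  exact ⟨SiteBase.secEquiv K U _ g, (SiteBase.secEquiv_comp U g _).symm.trans (congrArg _ hg)⟩

omit S in
lemma cl_eq_zero_of_section {D : Type u} [SmallCategory D] {K : GrothendieckTopology D}
    {F : Sheaf K AddCommGrpCat.{u}} (R : InjectiveResolution F) {m : ℕ} {U : D}
    (φ : CohCx.freeSheaf K U ⟶ R.cocomplex.X (m + 1)) (hφ : φ ≫ R.cocomplex.d (m + 1) (m + 1 + 1) = 0)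
    (y : (R.cocomplex.X m).obj.obj (op U))
    (hy : (R.cocomplex.d m (m + 1)).hom.app (op U) y = SiteBase.secEquiv K U _ φ) : cl R φ hφ = 0 :=
  (R.extMk_eq_zero_iff φ (m + 1 + 1) rfl hφ m rfl).2 ⟨(SiteBase.secEquiv K U _).symm y,
    (SiteBase.secEquiv K U _).injective ((SiteBase.secEquiv_comp U _ _).trans
      ((congrArg _ ((SiteBase.secEquiv K U _).apply_symm_apply y)).trans hy))⟩

theorem exists_cover_killing {X Y : C} (f : X ⟶ Y) (hf : P f)
    (hcov : Sieve.ofArrows (fun _ : PUnit.{u + 1} => X) (fun _ => f) ∈ J Y)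
    (F' : Sh J' Y) (hF' : A' Y F') (n : ℕ) (θ : CohSite.HU F' (n + 1) (Over.mk f))
    (hθ : ∀ (W : C) (p q : W ⟶ X) (hW : IsPullback p q f f),
      CohSite.res F' (n + 1) (Over.homMk p rfl : Over.mk (p ≫ f) ⟶ Over.mk f) θ =
        CohSite.res F' (n + 1) (Over.homMk q hW.w.symm : Over.mk (p ≫ f) ⟶ Over.mk f) θ) :
    ∃ (ι : Type u) (Z : ι → C) (g : ∀ i, Z i ⟶ Y), Sieve.ofArrows Z g ∈ J' Y ∧
      ∀ (i : ι) (W : C) (p : W ⟶ Z i) (q : W ⟶ X), IsPullback p q (g i) f →
        CohSite.res F' (n + 1) (Over.homMk q rfl : Over.mk (q ≫ f) ⟶ Over.mk f) θ = 0 := by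
  haveI : HasPullbacksAlong f := S.hasPullbacksAlong hf
  haveI := S.weak Y
  let R := injectiveResolution F'
  let E := R.cocomplex
  let Uf : Over Y := Over.mk f
  let U₀ : Over Y := Over.mk (𝟙 Y)
  obtain ⟨φ, hφ, rfl⟩ : ∃ (φ : CohCx.freeSheaf (J'.over Y) Uf ⟶ E.X (n + 1)) (hφ : φ ≫ E.d (n + 1) (n + 1 + 1) = 0),
      cl R φ hφ = θ := R.extMk_surjective θ (n + 1 + 1) rfl
  let x := SiteBase.secEquiv (J'.over Y) Uf _ φ
  have hx : (E.d (n + 1) (n + 2)).hom.app (op Uf) x = 0 := by
    refine (SiteBase.secEquiv_comp Uf φ _).symm.trans ?_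
    exact (congrArg _ hφ).trans (map_zero _)
  have hex : ∀ j, E.ExactAt (j + 1) := R.cocomplex_exactAt_succ
  haveI : Epi (E.toCycles n (n + 1)) := epi_toCycles_of_exactAt E n (hex n)
  let e := E.toCycles n (n + 1)
  let i := E.iCycles (n + 1)
  obtain ⟨b, hb⟩ : ∃ b, i.hom.app (op Uf) b = x := by
    have hd : (ShortComplex.mk i (E.d (n + 1) (n + 2)) (E.iCycles_d _ _)).Exact :=
      ShortComplex.exact_of_f_is_kernel _ (E.cyclesIsKernel (n + 1) (n + 2) (by simp))
    obtain ⟨c, hc⟩ := BigSiteLib.FppfDesc.exists_kernel_section (E.d (n + 1) (n + 2)) x hx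
    let l := hd.lift (kernel.ι (E.d (n + 1) (n + 2))) (kernel.condition _)
    exact ⟨l.hom.app (op Uf) c, (ConcreteCategory.comp_apply _ _ c).symm.trans
      ((congrArg (fun t => t.hom.app (op Uf) c) (hd.lift_f _ _)).trans hc)⟩
  let Φ := res J' f ⋙ pf J' f
  let π := cokernel.π (Φ.map e)
  have hQ : A' Y (cokernel (Φ.map e)) := by
    let IW := SiteBase.mapResolution (res J' f) R
    have hC : ∀ k p : ℕ, IsZero (((pf J' f).rightDerived (p + 1)).obj (IW.cocomplex.X k)) := fun k p => by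
      have : Injective (IW.cocomplex.X k) := IW.injective k
      exact isZero_R_injective _ _ p
    have he : Epi ((res J' f).map e) := inferInstance
    have hi : Mono ((res J' f).map i) := inferInstance
    obtain ⟨e₁⟩ := @nonempty_R_iso_cokernel (Sh J' X) _ _ (Sh J' Y) _ _ (pf J' f) _ _ IW.cocomplex hC _ n
      (fun j h₁ _ => by
        obtain ⟨j, rfl⟩ : ∃ k, j = k + 1 := ⟨j - 1, by omega⟩
        exact IW.cocomplex_exactAt_succ j)
      _ ((res J' f).map e) ((res J' f).map i)
      (((res J' f).map_comp e i).symm.trans (congrArg (res J' f).map (E.toCycles_i _ _))) he hi _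
      (cyclesZeroIso IW)
    exact (A' Y).prop_of_iso e₁ (S.pf_mem f hf (S.restr f F' hF') (n + 1))
  have h0 : (resAdj J' f).unit.app (E.cycles (n + 1)) ≫ π = 0 := by
    rw [← cancel_epi e, comp_zero, ← Category.assoc]
    refine (congrArg (· ≫ π) ((resAdj J' f).unit.naturality e)).trans ?_
    rw [Category.assoc, cokernel.condition, comp_zero]
  let bc : Over Y ⥤ Over Y := Over.pullback f ⋙ Over.map f
  let k₀ : bc.obj U₀ ⟶ Uf := Over.homMk (pullback.snd (𝟙 Y) f)
  let b₀ : (Φ.obj (E.cycles (n + 1))).obj.obj (op U₀) := (E.cycles (n + 1)).obj.map k₀.op b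
  let c : Uf ⟶ U₀ := Over.homMk f (Category.comp_id _)
  have hsW : π.hom.app (op Uf) ((Φ.obj (E.cycles (n + 1))).obj.map c.op b₀) = 0 := by
    let W := bc.obj Uf
    let pW : W ⟶ Uf := Over.homMk (pullback.fst f f) pullback.condition
    let qW : W ⟶ Uf := Over.homMk (pullback.snd f f)
    have hq : (Φ.obj (E.cycles (n + 1))).obj.map c.op b₀ = (E.cycles (n + 1)).obj.map qW.op b := by
      show (E.cycles (n + 1)).obj.map ((Over.map f).map ((Over.pullback f).map c)).op
        ((E.cycles (n + 1)).obj.map k₀.op b) = _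
      rw [← ConcreteCategory.comp_apply, ← Functor.map_comp, ← op_comp]
      congr 4
      apply Over.OverMorphism.ext
      show ((Over.pullback f).map c).left ≫ pullback.snd (𝟙 Y) f = pullback.snd f f
      exact pullback.lift_snd _ _ _
    have hθ' : CohSite.res F' (n + 1) qW (cl R φ hφ) = CohSite.res F' (n + 1) pW (cl R φ hφ) := by
      have hp := hθ _ (pullback.fst f f) (pullback.snd f f) (IsPullback.of_hasPullback f f)
      let t : W ⟶ Over.mk (pullback.fst f f ≫ f) := Over.homMk (𝟙 _) (by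
        show 𝟙 _ ≫ pullback.fst f f ≫ f = pullback.snd f f ≫ f
        rw [Category.id_comp, pullback.condition])
      have := congrArg (CohSite.res F' (n + 1) t) hp
      simp only [res_cl] at this ⊢
      refine Eq.trans ?_ (this.symm.trans ?_) <;>
      · congr 1
        rw [← Category.assoc, ← SiteBase.freeSheafMap_comp]
        congr 2
        apply Over.OverMorphism.ext
        simp [t, pW, qW]
    rw [res_cl, res_cl, ← sub_eq_zero] at hθ'
    have hd' : (CohCx.freeSheafMap (J'.over Y) qW ≫ φ - CohCx.freeSheafMap (J'.over Y) pW ≫ φ) ≫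
        E.d (n + 1) (n + 1 + 1) = 0 := by
      rw [Preadditive.sub_comp, Category.assoc, Category.assoc, hφ, comp_zero, comp_zero, sub_zero]
    obtain ⟨y, hy⟩ := exists_section_of_cl_eq_zero R _ hd' ((R.sub_extMk _ _ _ rfl _ _).symm.trans hθ')
    rw [map_sub, SiteBase.secEquiv_freeSheafMap, SiteBase.secEquiv_freeSheafMap] at hy
    have hb' : ((E.cycles (n + 1)).obj.map qW.op b) =
        (E.cycles (n + 1)).obj.map pW.op b + e.hom.app (op W) y := by
      apply BigSiteLib.FppfDesc.app_injective_of_mono i W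
      rw [map_add]
      have h1 : ∀ g : W ⟶ Uf, i.hom.app (op W) ((E.cycles (n + 1)).obj.map g.op b) = (E.X (n + 1)).obj.map g.op x :=
        fun g => (ConcreteCategory.congr_hom (i.hom.naturality g.op) b).trans (congrArg _ hb)
      have h2 : i.hom.app (op W) (e.hom.app (op W) y) = (E.d n (n + 1)).hom.app (op W) y :=
        (ConcreteCategory.comp_apply _ _ y).symm.trans
          (congrArg (fun t => t.hom.app (op W) y) (E.toCycles_i n (n + 1)))
      rw [h1, h1, h2, hy]
      exact (add_sub_cancel _ _).symm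
    rw [hq, hb']
    have hpW : ((Over.mapPullbackAdj f).counit.app Uf) = pW := by
      apply Over.OverMorphism.ext
      rw [Over.mapPullbackAdj_counit_app]
      rfl
    rw [show (E.cycles (n + 1)).obj.map pW.op b =
      ((resAdj J' f).unit.app (E.cycles (n + 1))).hom.app (op Uf) b from by rw [unit_app_apply, hpW]]
    have a1 : π.hom.app (op Uf) (((resAdj J' f).unit.app (E.cycles (n + 1))).hom.app (op Uf) b) = 0 :=
      (ConcreteCategory.comp_apply _ _ b).symm.trans (congrArg (fun t => t.hom.app (op Uf) b) h0)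
    have a2 : π.hom.app (op Uf) ((Φ.map e).hom.app (op Uf) y) = 0 :=
      (ConcreteCategory.comp_apply _ _ y).symm.trans
        (congrArg (fun t => t.hom.app (op Uf) y) (cokernel.condition (Φ.map e)))
    exact ((π.hom.app (op Uf)).hom.map_add _ _).trans ((congrArg₂ (· + ·) a1 a2).trans (add_zero _))
  have hs : π.hom.app (op U₀) b₀ = 0 := by
    obtain ⟨Q₀, ⟨eQ⟩⟩ := S.mem_essImage hQ
    apply BigSiteLib.FppfDesc.app_injective_of_mono eQ.inv U₀
    rw [map_zero]
    refine sheaf_ext Y (G := Q₀) _ (J.overEquiv_symm_mem_over U₀ _ hcov) fun V g hg => ?_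
    obtain ⟨W, a, w, hw, hfac⟩ := (Sieve.overEquiv_symm_iff _ g).1 hg
    obtain ⟨⟨⟩⟩ := hw
    let g' : V ⟶ Uf := Over.homMk a (by
      show a ≫ f = V.hom
      rw [hfac, ← Over.w g]; exact (Category.comp_id _).symm)
    have hg' : g = g' ≫ c := Over.OverMorphism.ext hfac.symm
    have hz : (cokernel (Φ.map e)).obj.map g.op (π.hom.app (op U₀) b₀) = 0 := by
      rw [hg', op_comp, Functor.map_comp, ConcreteCategory.comp_apply]
      refine (congrArg _ ?_).trans (map_zero _)
      exact (ConcreteCategory.congr_hom (π.hom.naturality c.op) b₀).symm.trans hsW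
    exact (ConcreteCategory.congr_hom (eQ.inv.hom.naturality g.op) _).symm.trans
      ((congrArg _ hz).trans ((eQ.inv.hom.app (op V)).hom.map_zero.trans (Q₀.obj.map g.op).hom.map_zero.symm))
  have hcover := imageSieve_of_bd J' (Φ.map e) b₀ hs
  rw [GrothendieckTopology.mem_over_iff] at hcover
  let T := Sieve.overEquiv U₀ (Presheaf.imageSieve (Φ.map e).hom b₀)
  refine ⟨Σ Z : C, {g : Z ⟶ Y // T.arrows g}, fun i => i.1, fun i => i.2.1,
    J'.superset_covering (fun Z g hg => Sieve.ofArrows_mk _ _ (⟨Z, g, hg⟩ : Σ Z : C, {g : Z ⟶ Y // T.arrows g}))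
      hcover, ?_⟩
  rintro ⟨Z, g, hg⟩ W p q hW
  obtain ⟨y, hy⟩ := (Sieve.overEquiv_iff (Y := U₀) (Presheaf.imageSieve (Φ.map e).hom b₀) g).1 hg
  let Ug : Over Y := Over.mk (g ≫ U₀.hom)
  let gg : Ug ⟶ U₀ := Over.homMk g
  let t : Over.mk (q ≫ f) ⟶ bc.obj Ug :=
    Over.homMk (pullback.lift p q (by show p ≫ g ≫ 𝟙 Y = q ≫ f; rw [Category.comp_id]; exact hW.w))
      (by show pullback.lift p q _ ≫ pullback.snd _ f ≫ f = q ≫ f; rw [pullback.lift_snd_assoc])
  refine (res_cl R _ φ hφ).trans (cl_eq_zero_of_section R _ _ ((E.X n).obj.map t.op y) ?_)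
  rw [SiteBase.secEquiv_freeSheafMap]
  refine (ConcreteCategory.congr_hom ((E.d n (n + 1)).hom.naturality t.op) y).trans ?_
  have hy' : e.hom.app (op (bc.obj Ug)) y = (Φ.obj (E.cycles (n + 1))).obj.map gg.op b₀ := hy
  have h2 : (E.d n (n + 1)).hom.app (op (bc.obj Ug)) y = i.hom.app _ (e.hom.app (op (bc.obj Ug)) y) :=
    (congrArg (fun t => t.hom.app (op (bc.obj Ug)) y) (E.toCycles_i n (n + 1)).symm).trans
      (ConcreteCategory.comp_apply _ _ y)
  refine (congrArg ((E.X (n + 1)).obj.map t.op) (h2.trans (congrArg _ hy'))).trans ?_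
  show (E.X (n + 1)).obj.map t.op (i.hom.app _ ((E.cycles (n + 1)).obj.map (bc.map gg).op
    ((E.cycles (n + 1)).obj.map k₀.op b))) = (E.X (n + 1)).obj.map _ x
  rw [← hb]
  have n1 : ∀ (A B : Over Y) (m : A ⟶ B) (z : (E.cycles (n + 1)).obj.obj (op B)),
      i.hom.app (op A) ((E.cycles (n + 1)).obj.map m.op z) = (E.X (n + 1)).obj.map m.op (i.hom.app (op B) z) :=
    fun A B m z => (ConcreteCategory.comp_apply _ _ z).symm.trans
      ((ConcreteCategory.congr_hom (i.hom.naturality m.op) z).trans (ConcreteCategory.comp_apply _ _ z))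
  refine (congrArg ((E.X (n + 1)).obj.map t.op) ((n1 _ _ (bc.map gg) _).trans
    (congrArg _ (n1 _ _ k₀ b)))).trans ?_
  refine Eq.trans ?_ (?_ : (E.X (n + 1)).obj.map (t ≫ bc.map gg ≫ k₀).op (i.hom.app (op Uf) b) = _)
  · simp only [op_comp, Functor.map_comp, ConcreteCategory.comp_apply]
  · congr 4
    apply Over.OverMorphism.ext
    show pullback.lift p q _ ≫ ((Over.pullback f).map gg).left ≫ pullback.snd (𝟙 Y) f = q
    exact (congrArg (pullback.lift p q _ ≫ ·) (pullback.lift_snd _ _ _)).trans (pullback.lift_snd _ _ _)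

end Groth.Agent.DSites.Cmp
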