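import Groth.Agent.TriCat.RightDerivedBridge
import Groth.Agent.H9Misc.FinDimDerived
import Mathlib.Algebra.Homology.Refinements
import Mathlib.Algebra.Homology.HomologySequence

/-!
Dimension shifting along cycles of a complex, and comparison of images of cocycles under a left exact
functor. These are the formal inputs for comparing two topologies.
-/

universe v v' u u'

open CategoryTheory CategoryTheory.Limits

namespace Groth.Agent.DSites.Cmp

variable {A : Type u} [Category.{v} A] [Abelian A]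

/-- The image of a differential, with its two short exact sequences. -/
lemma cycles_shortExact {C : CochainComplex A ℕ} (k : ℕ) {B : A} (e : C.X k ⟶ B) (i : B ⟶ C.X (k + 1))
    (he : e ≫ i = C.d k (k + 1)) [Epi e] [Mono i] :
    ∃ w : C.iCycles k ≫ e = 0, (ShortComplex.mk (C.iCycles k) e w).ShortExact := by
  have w : C.iCycles k ≫ e = 0 := by
    rw [← cancel_mono i, Category.assoc, he, C.iCycles_d, zero_comp]
  refine ⟨w, ?_⟩
  have hd : (ShortComplex.mk (C.iCycles k) (C.d k (k + 1)) (C.iCycles_d k (k + 1))).Exact :=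
    ShortComplex.exact_of_f_is_kernel _ (C.cyclesIsKernel k (k + 1) (by simp))
  refine { exact := ?_, mono_f := inferInstanceAs (Mono (C.iCycles k)), epi_g := ‹Epi e› }
  rw [ShortComplex.exact_iff_exact_up_to_refinements]
  intro T x hx
  exact hd.exact_up_to_refinements x (show x ≫ C.d k (k + 1) = 0 by
    rw [← he]; exact (Category.assoc _ _ _).symm.trans (by rw [show x ≫ e = 0 from hx, zero_comp]))

lemma epi_toCycles_of_exactAt (C : CochainComplex A ℕ) (k : ℕ) (h : C.ExactAt (k + 1)) :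
    Epi (C.toCycles k (k + 1)) := by
  rw [HomologicalComplex.exactAt_iff_isZero_homology] at h
  exact Preadditive.epi_of_cancel_zero _ fun {T} g hg => by
    obtain ⟨l, hl⟩ := CokernelCofork.IsColimit.desc'
      (C.homologyIsCokernel k (k + 1) (by simp)) g hg
    rw [← hl, h.eq_of_src l 0, comp_zero]

variable {B : Type u'} [Category.{v'} B] [Abelian B] (G : A ⥤ B) [G.Additive]

section LES

variable [EnoughInjectives A] {S : ShortComplex A} (hS : S.ShortExact)

include hS

lemma isZero_R_X₂ (p : ℕ) (h₁ : IsZero ((G.rightDerived p).obj S.X₁))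
    (h₃ : IsZero ((G.rightDerived p).obj S.X₃)) : IsZero ((G.rightDerived p).obj S.X₂) := by
  let := HasDerivedCategory.standard A
  let := HasDerivedCategory.standard B
  obtain ⟨δ, w₁, w₂, w₃, e₁, -, -⟩ := TriCat.exists_rightDerived_ses G hS p
  exact e₁.isZero_X₂ (h₁.eq_of_src _ _) (h₃.eq_of_tgt _ _)

lemma isZero_R_X₃ (p : ℕ) (h₂ : IsZero ((G.rightDerived p).obj S.X₂))
    (h₁ : IsZero ((G.rightDerived (p + 1)).obj S.X₁)) : IsZero ((G.rightDerived p).obj S.X₃) := by
  let := HasDerivedCategory.standard A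
  let := HasDerivedCategory.standard B
  obtain ⟨δ, w₁, w₂, w₃, -, e₂, -⟩ := TriCat.exists_rightDerived_ses G hS p
  exact e₂.isZero_X₂ (h₂.eq_of_src _ _) (h₁.eq_of_tgt _ _)

lemma nonempty_R_shift (p : ℕ) (h : IsZero ((G.rightDerived (p + 1)).obj S.X₂))
    (h' : IsZero ((G.rightDerived (p + 2)).obj S.X₂)) :
    Nonempty ((G.rightDerived (p + 1)).obj S.X₃ ≅ (G.rightDerived (p + 2)).obj S.X₁) := by
  let := HasDerivedCategory.standard A
  let := HasDerivedCategory.standard B
  obtain ⟨δ, w₁, w₂, w₃, -, e₂, e₃⟩ := TriCat.exists_rightDerived_ses G hS (p + 1)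
  have : Mono δ := e₂.mono_g (h.eq_of_src _ _)
  have : Epi δ := e₃.epi_f (h'.eq_of_tgt _ _)
  have : IsIso δ := isIso_of_mono_of_epi δ
  exact ⟨asIso δ⟩

variable [PreservesFiniteLimits G]

lemma nonempty_R_one (h : IsZero ((G.rightDerived 1).obj S.X₂)) :
    Nonempty ((G.rightDerived 1).obj S.X₁ ≅ cokernel (G.map S.g)) := by
  let := HasDerivedCategory.standard A
  let := HasDerivedCategory.standard B
  obtain ⟨δ, w₁, w₂, w₃, -, e₂, e₃⟩ := TriCat.exists_rightDerived_ses G hS 0
  have : Epi δ := e₃.epi_f (h.eq_of_tgt _ _)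
  exact ⟨(IsColimit.coconePointUniqueUpToIso e₂.gIsCokernel (cokernelIsCokernel _)) ≪≫
    cokernel.mapIso ((G.rightDerived 0).map S.g) (G.map S.g)
      (G.rightDerivedZeroIsoSelf.app _) (G.rightDerivedZeroIsoSelf.app _)
      (G.rightDerivedZeroIsoSelf.hom.naturality S.g)⟩

lemma epi_map_g_of_R_one (h : IsZero ((G.rightDerived 1).obj S.X₁)) : Epi (G.map S.g) := by
  let := HasDerivedCategory.standard A
  let := HasDerivedCategory.standard B
  obtain ⟨δ, w₁, w₂, w₃, -, e₂, -⟩ := TriCat.exists_rightDerived_ses G hS 0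
  have : Epi ((G.rightDerived 0).map S.g) := e₂.epi_f (h.eq_of_tgt _ _)
  have hn : (G.rightDerived 0).map S.g ≫ G.rightDerivedZeroIsoSelf.hom.app S.X₃ =
      G.rightDerivedZeroIsoSelf.hom.app S.X₂ ≫ G.map S.g := G.rightDerivedZeroIsoSelf.hom.naturality S.g
  have : Epi (G.rightDerivedZeroIsoSelf.hom.app S.X₂ ≫ G.map S.g) := by rw [← hn]; infer_instance
  exact epi_of_epi (G.rightDerivedZeroIsoSelf.hom.app S.X₂) _

end LES

lemma isZero_R_of_iso [EnoughInjectives A] {X Y : A} (e : X ≅ Y) {p : ℕ}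
    (h : IsZero ((G.rightDerived p).obj Y)) : IsZero ((G.rightDerived p).obj X) :=
  h.of_iso ((G.rightDerived p).mapIso e)

section Shift

variable [EnoughInjectives A] (C : CochainComplex A ℕ)
  (hC : ∀ k p : ℕ, IsZero ((G.rightDerived (p + 1)).obj (C.X k)))

include hC

/-- Cycles inherit vanishing from cohomology. -/
lemma isZero_R_cycles (m : ℕ)
    (hH : ∀ q, q < m → ∀ p, 1 ≤ p → p ≤ m → IsZero ((G.rightDerived p).obj (C.homology q))) :
    ∀ q p : ℕ, p + q + 1 ≤ m → IsZero ((G.rightDerived (p + 1)).obj (C.cycles q)) := by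
  intro q
  induction q with
  | zero => exact fun p hp => isZero_R_of_iso G C.isoHomologyπ₀ (hH 0 (by omega) _ (by omega) (by omega))
  | succ q ih =>
    intro p hp
    let b := Abelian.factorThruImage (C.toCycles q (q + 1))
    obtain ⟨w, hw⟩ := cycles_shortExact q b (Abelian.image.ι (C.toCycles q (q + 1)) ≫ C.iCycles (q + 1))
      (by simp [b])
    have hB := isZero_R_X₃ G hw (p + 1) (hC q p) (ih (p + 1) (by omega))
    let S := ShortComplex.mk (Abelian.image.ι (C.toCycles q (q + 1))) (C.homologyπ (q + 1))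
      (by rw [← cancel_epi b]; simp [b])
    have hS : S.ShortExact :=
      { exact := by
          rw [ShortComplex.exact_iff_exact_up_to_refinements]
          intro T x hx
          obtain ⟨T', π, hπ, y, hy⟩ := (ShortComplex.exact_of_g_is_cokernel
            (ShortComplex.mk _ _ (C.toCycles_comp_homologyπ q (q + 1)))
            (C.homologyIsCokernel q (q + 1) (by simp))).exact_up_to_refinements x hx
          exact ⟨T', π, hπ, y ≫ b, by rw [hy]; simp [S, b]⟩ }
    exact isZero_R_X₂ G hS (p + 1) hB (hH (q + 1) (by omega) _ (by omega) (by omega))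

variable [PreservesFiniteLimits G]

/-- Cocycles in the image of cohomology zero are coboundaries, up to refinements. -/
lemma exists_boundary (k : ℕ)
    (hH : ∀ q, q < k + 1 → ∀ p, 1 ≤ p → p ≤ k + 1 → IsZero ((G.rightDerived p).obj (C.homology q)))
    {T : B} (a : T ⟶ G.obj (C.cycles (k + 1))) (ha : a ≫ G.map (C.homologyπ (k + 1)) = 0) :
    ∃ (T' : B) (π : T' ⟶ T) (_ : Epi π) (t : T' ⟶ G.obj (C.X k)),
      π ≫ a = t ≫ G.map (C.toCycles k (k + 1)) := by
  let b := Abelian.factorThruImage (C.toCycles k (k + 1))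
  obtain ⟨w, hw⟩ := cycles_shortExact k b (Abelian.image.ι (C.toCycles k (k + 1)) ≫ C.iCycles (k + 1))
    (by simp [b])
  have : Epi (G.map b) := epi_map_g_of_R_one G hw (isZero_R_cycles G C hC (k + 1) hH k 0 (by omega))
  let S := ShortComplex.mk (Abelian.image.ι (C.toCycles k (k + 1))) (C.homologyπ (k + 1))
    (by rw [← cancel_epi b]; simp [b])
  have hS : S.Exact := by
    rw [ShortComplex.exact_iff_exact_up_to_refinements]
    intro T x hx
    obtain ⟨T', π, hπ, y, hy⟩ := (ShortComplex.exact_of_g_is_cokernel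
      (ShortComplex.mk _ _ (C.toCycles_comp_homologyπ k (k + 1)))
      (C.homologyIsCokernel k (k + 1) (by simp))).exact_up_to_refinements x hx
    exact ⟨T', π, hπ, y ≫ b, by rw [hy]; simp [S, b]⟩
  obtain ⟨T', π, hπ, y, hy⟩ := (hS.map_of_mono_of_preservesKernel G
    (inferInstanceAs (Mono (Abelian.image.ι (C.toCycles k (k + 1))))) inferInstance).exact_up_to_refinements a ha
  obtain ⟨T'', π', hπ', t, ht⟩ := surjective_up_to_refinements_of_epi (G.map b) y
  refine ⟨T'', π' ≫ π, inferInstance, t, ?_⟩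
  refine (Category.assoc _ _ _).trans ((congrArg (π' ≫ ·) hy).trans ?_)
  refine (Category.assoc _ _ _).symm.trans ((congrArg (· ≫ _) ht).trans ?_)
  refine (Category.assoc _ _ _).trans (congrArg (t ≫ ·) ?_)
  exact (G.map_comp _ _).symm.trans (congrArg G.map (Abelian.image.fac _))

omit [PreservesFiniteLimits G] in
/-- A piece of a resolution: iterated shift to the cycles. -/
lemma nonempty_R_cycles_iso (k : ℕ) (hex : ∀ j, 1 ≤ j → j ≤ k → C.ExactAt j) :
    ∀ p : ℕ, Nonempty ((G.rightDerived (p + 1)).obj (C.cycles k) ≅ (G.rightDerived (p + 1 + k)).obj (C.cycles 0)) := by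
  induction k with
  | zero => exact fun p => ⟨Iso.refl _⟩
  | succ k ih =>
    intro p
    have := epi_toCycles_of_exactAt C k (hex (k + 1) (by omega) le_rfl)
    obtain ⟨w, hw⟩ := cycles_shortExact k (C.toCycles k (k + 1)) (C.iCycles (k + 1)) (C.toCycles_i _ _)
    obtain ⟨e⟩ := nonempty_R_shift G hw p (hC k p) (hC k (p + 1))
    obtain ⟨e'⟩ := ih (fun j h₁ h₂ => hex j h₁ (by omega)) (p + 1)
    exact ⟨e ≪≫ e' ≪≫ eqToIso (by rw [show p + 1 + 1 + k = p + 1 + (k + 1) by omega])⟩

/-- Higher derived functors by a complex exact in low degrees. -/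
theorem nonempty_R_iso_cokernel (k : ℕ) (hex : ∀ j, 1 ≤ j → j ≤ k → C.ExactAt j) {I : A}
    (e : C.X k ⟶ I) (i : I ⟶ C.X (k + 1)) (he : e ≫ i = C.d k (k + 1)) [Epi e] [Mono i]
    {M : A} (eM : M ≅ C.cycles 0) :
    Nonempty ((G.rightDerived (k + 1)).obj M ≅ cokernel (G.map e)) := by
  obtain ⟨w, hw⟩ := cycles_shortExact k e i he
  obtain ⟨e₁⟩ := nonempty_R_one G hw (hC k 0)
  obtain ⟨e₂⟩ := nonempty_R_cycles_iso G C hC k hex 0
  exact ⟨(G.rightDerived (k + 1)).mapIso eM ≪≫ eqToIso (by rw [show k + 1 = 0 + 1 + k by omega]) ≪≫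
    e₂.symm ≪≫ e₁⟩

end Shift

lemma isZero_R_injective [EnoughInjectives A] (X : A) [Injective X] (p : ℕ) :
    IsZero ((G.rightDerived (p + 1)).obj X) :=
  G.isZero_rightDerived_obj_injective_succ p X

section MapCycles

variable [PreservesFiniteLimits G] (C : CochainComplex A ℕ)

/-- Cycles of an image complex. -/
noncomputable def mapCyc (k : ℕ) : G.obj (C.cycles k) ⟶ ((G.mapHomologicalComplex _).obj C).cycles k :=
  ((G.mapHomologicalComplex _).obj C).liftCycles (G.map (C.iCycles k)) (k + 1) (by simp)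
    (show G.map (C.iCycles k) ≫ G.map (C.d k (k + 1)) = 0 by rw [← G.map_comp, C.iCycles_d, G.map_zero])

omit [PreservesFiniteLimits G] in
@[reassoc (attr := simp)]
lemma mapCyc_i (k : ℕ) : mapCyc G C k ≫ ((G.mapHomologicalComplex _).obj C).iCycles k = G.map (C.iCycles k) :=
  HomologicalComplex.liftCycles_i _ _ _ _ _

instance isIso_mapCyc (k : ℕ) : IsIso (mapCyc G C k) := by
  let K := (G.mapHomologicalComplex _).obj C
  have hd : (ShortComplex.mk (C.iCycles k) (C.d k (k + 1)) (C.iCycles_d k (k + 1))).Exact :=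
    ShortComplex.exact_of_f_is_kernel _ (C.cyclesIsKernel k (k + 1) (by simp))
  have hE := hd.map_of_mono_of_preservesKernel G (inferInstanceAs (Mono (C.iCycles k))) inferInstance
  have : Mono (G.map (C.iCycles k)) := inferInstance
  obtain ⟨l, hl⟩ : ∃ l : K.cycles k ⟶ G.obj (C.cycles k), l ≫ G.map (C.iCycles k) = K.iCycles k :=
    ⟨@ShortComplex.Exact.lift _ _ _ _ _ hE _ (K.iCycles k) (K.iCycles_d k (k + 1)) this,
      @ShortComplex.Exact.lift_f _ _ _ _ _ hE _ (K.iCycles k) (K.iCycles_d k (k + 1)) this⟩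
  refine ⟨l, ?_, ?_⟩
  · exact (cancel_mono (G.map (C.iCycles k))).1 ((Category.assoc _ _ _).trans
      ((congrArg (mapCyc G C k ≫ ·) hl).trans ((mapCyc_i G C k).trans (Category.id_comp _).symm)))
  · exact (cancel_mono (K.iCycles k)).1 ((Category.assoc _ _ _).trans
      ((congrArg (l ≫ ·) (mapCyc_i G C k)).trans (hl.trans (Category.id_comp _).symm)))

omit [PreservesFiniteLimits G] in
@[reassoc (attr := simp)]
lemma map_toCycles_mapCyc (j k : ℕ) :
    G.map (C.toCycles j k) ≫ mapCyc G C k = ((G.mapHomologicalComplex _).obj C).toCycles j k := by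
  refine (cancel_mono (((G.mapHomologicalComplex _).obj C).iCycles k)).1 ?_
  refine (Category.assoc _ _ _).trans ((congrArg (_ ≫ ·) (mapCyc_i G C k)).trans ?_)
  exact (G.map_comp _ _).symm.trans ((congrArg G.map (C.toCycles_i j k)).trans
    (((G.mapHomologicalComplex _).obj C).toCycles_i j k).symm)

/-- Homology of an image complex as a cokernel. -/
noncomputable def homologyMapIso (j : ℕ) :
    ((G.mapHomologicalComplex _).obj C).homology (j + 1) ≅ cokernel (G.map (C.toCycles j (j + 1))) :=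
  IsColimit.coconePointUniqueUpToIso (((G.mapHomologicalComplex _).obj C).homologyIsCokernel j (j + 1) (by simp))
      (cokernelIsCokernel _) ≪≫
    (cokernel.mapIso (G.map (C.toCycles j (j + 1))) (((G.mapHomologicalComplex _).obj C).toCycles j (j + 1))
      (Iso.refl _) (asIso (mapCyc G C (j + 1)))
      (by rw [asIso_hom, map_toCycles_mapCyc]; exact (Category.id_comp _).symm)).symm

/-- Homology in degree zero of an image complex. -/
noncomputable def homologyMapIso₀ :
    ((G.mapHomologicalComplex _).obj C).homology 0 ≅ G.obj (C.cycles 0) :=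
  (CochainComplex.isoHomologyπ₀ ((G.mapHomologicalComplex _).obj C)).symm ≪≫ (asIso (mapCyc G C 0)).symm

end MapCycles

/-- If the cokernel of the image of a map is in the image of a fully faithful functor, the functor
preserves the cokernel. -/
theorem cokernel_of_essImage [G.Full] [G.Faithful] {P Q : A} (a : P ⟶ Q)
    (h : G.essImage (cokernel (G.map a))) :
    Epi (G.map (cokernel.π a)) ∧ Nonempty (cokernel (G.map a) ≅ G.obj (cokernel a)) := by
  obtain ⟨M, ⟨e⟩⟩ := h
  let g := G.preimage (cokernel.π (G.map a) ≫ e.inv)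
  have hg : G.map g = cokernel.π (G.map a) ≫ e.inv := G.map_preimage _
  have w : a ≫ g = 0 := G.map_injective (by rw [G.map_comp, hg, cokernel.condition_assoc, zero_comp, G.map_zero])
  have hc : IsColimit (CokernelCofork.ofπ g w) :=
    CokernelCofork.IsColimit.ofπ g w
      (fun {T} x hx => G.preimage (e.hom ≫ cokernel.desc (G.map a) (G.map x)
        (by rw [← G.map_comp, hx, G.map_zero])))
      (fun {T} x hx => G.map_injective (by
        rw [G.map_comp, G.map_preimage]
        simp))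
      (fun {T} x hx y hy => G.map_injective (by
        rw [G.map_preimage, ← Iso.inv_comp_eq]
        apply coequalizer.hom_ext
        rw [cokernel.π_desc, ← hy, G.map_comp, hg, Category.assoc]))
  let f := IsColimit.coconePointUniqueUpToIso hc (cokernelIsCokernel a)
  have hf : g ≫ f.hom = cokernel.π a :=
    IsColimit.comp_coconePointUniqueUpToIso_hom hc (cokernelIsCokernel a) WalkingParallelPair.one
  refine ⟨?_, ⟨e.symm ≪≫ G.mapIso f⟩⟩
  rw [← hf, G.map_comp, hg]
  infer_instance

/-- The descent step: a cocycle which is a coboundary in the second complex is one in the first. -/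
theorem exists_coboundary_of_ses [EnoughInjectives A] [PreservesFiniteLimits G] [G.Full] [G.Faithful]
    (S : ShortComplex (CochainComplex A ℕ)) (hS : S.ShortExact)
    (hinj₁ : ∀ k, Injective (S.X₁.X k)) (hinj₂ : ∀ k, Injective (S.X₂.X k))
    (hI : ∀ j, 1 ≤ j → S.X₁.ExactAt j) (m : ℕ)
    (hK₀ : G.essImage (cokernel (G.map (HomologicalComplex.homologyMap S.f 0))))
    (hK : Epi (G.map (S.X₂.homologyπ m)))
    (hG : ∀ p, 1 ≤ p → p ≤ m → IsZero ((G.rightDerived p).obj (cokernel (HomologicalComplex.homologyMap S.f 0))))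
    (hH : ∀ q, 1 ≤ q → q < m → ∀ p, 1 ≤ p → p ≤ m → IsZero ((G.rightDerived p).obj (S.X₂.homology q)))
    {T : B} (a : T ⟶ G.obj (S.X₁.X (m + 1))) (ha : a ≫ G.map (S.X₁.d (m + 1) (m + 2)) = 0)
    (y : T ⟶ G.obj (S.X₂.X m)) (hy : a ≫ G.map (S.f.f (m + 1)) = y ≫ G.map (S.X₂.d m (m + 1))) :
    ∃ (T' : B) (π : T' ⟶ T) (_ : Epi π) (t : T' ⟶ G.obj (S.X₁.X m)),
      π ≫ a = t ≫ G.map (S.X₁.d m (m + 1)) := by
  have hdeg : ∀ k, (S.map (HomologicalComplex.eval A (ComplexShape.up ℕ) k)).ShortExact := fun k =>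
    hS.map_of_exact _
  have hmono : ∀ k, Mono (S.f.f k) := fun k => (hdeg k).mono_f
  have hsplit : ∀ k, ∃ s : S.X₃.X k ⟶ S.X₂.X k, s ≫ S.g.f k = 𝟙 _ := fun k =>
    let σ := @ShortComplex.ShortExact.splittingOfInjective _ _ _ _ (hdeg k) (hinj₁ k) _
    ⟨σ.s, σ.s_g⟩
  have hinj₃ : ∀ k, Injective (S.X₃.X k) := fun k => by
    obtain ⟨s, hs⟩ := hsplit k
    exact Retract.injective { i := s, r := S.g.f k, retract := hs }
  have hiso : ∀ q, 1 ≤ q → IsIso (HomologicalComplex.homologyMap S.g q) := fun q hq => by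
    have h₁ := (HomologicalComplex.exactAt_iff_isZero_homology _ _).1 (hI q hq)
    have h₂ := (HomologicalComplex.exactAt_iff_isZero_homology _ _).1 (hI (q + 1) (by omega))
    have : Mono (HomologicalComplex.homologyMap S.g q) := (hS.homology_exact₂ q).mono_g (h₁.eq_of_src _ _)
    have : Epi (HomologicalComplex.homologyMap S.g q) :=
      (hS.homology_exact₃ q (q + 1) (by simp)).epi_f (h₂.eq_of_tgt _ _)
    exact isIso_of_mono_of_epi _
  have h0 : Epi (HomologicalComplex.homologyMap S.g 0) :=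
    (hS.homology_exact₃ 0 1 (by simp)).epi_f
      (((HomologicalComplex.exactAt_iff_isZero_homology _ _).1 (hI 1 le_rfl)).eq_of_tgt _ _)
  have hc : ∃ e : cokernel (HomologicalComplex.homologyMap S.f 0) ≅ S.X₃.homology 0,
      cokernel.π _ ≫ e.hom = HomologicalComplex.homologyMap S.g 0 :=
    ⟨IsColimit.coconePointUniqueUpToIso (cokernelIsCokernel _) (hS.homology_exact₂ 0).gIsCokernel,
      IsColimit.comp_coconePointUniqueUpToIso_hom (cokernelIsCokernel _) _ WalkingParallelPair.one⟩
  obtain ⟨ec, hec⟩ := hc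
  have hH3 : ∀ q, q < m → ∀ p, 1 ≤ p → p ≤ m → IsZero ((G.rightDerived p).obj (S.X₃.homology q)) := by
    intro q hq p hp hpm
    rcases q with _ | q
    · exact isZero_R_of_iso G ec.symm (hG p hp hpm)
    · have := hiso (q + 1) (by omega)
      exact isZero_R_of_iso G (asIso (HomologicalComplex.homologyMap S.g (q + 1))).symm
        (hH (q + 1) (by omega) hq p hp hpm)
  have hlift : Epi (G.map (HomologicalComplex.cyclesMap S.g m ≫ S.X₃.homologyπ m)) := by
    rw [← HomologicalComplex.homologyπ_naturality, G.map_comp]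
    have : Epi (G.map (HomologicalComplex.homologyMap S.g m)) := by
      rcases m with _ | k
      · rw [← hec, G.map_comp]
        have := (cokernel_of_essImage G _ hK₀).1
        infer_instance
      · have := hiso (k + 1) (by omega)
        infer_instance
    infer_instance
  let z := y ≫ G.map (S.g.f m)
  have hz : z ≫ G.map (S.X₃.d m (m + 1)) = 0 := by
    rw [Category.assoc, ← G.map_comp, S.g.comm, G.map_comp, ← Category.assoc, ← hy, Category.assoc,
      ← G.map_comp, show S.f.f (m + 1) ≫ S.g.f (m + 1) = 0 from (S.map (HomologicalComplex.eval A (ComplexShape.up ℕ) (m + 1))).zero,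
      G.map_zero, comp_zero]
  let K3 := (G.mapHomologicalComplex (ComplexShape.up ℕ)).obj S.X₃
  obtain ⟨z', hz'⟩ : ∃ z' : T ⟶ G.obj (S.X₃.cycles m), z' ≫ G.map (S.X₃.iCycles m) = z := by
    refine ⟨K3.liftCycles z (m + 1) (by simp) hz ≫ inv (mapCyc G S.X₃ m), ?_⟩
    refine (Category.assoc _ _ _).trans ((congrArg (_ ≫ ·) ?_).trans (K3.liftCycles_i z (m + 1) (by simp) hz))
    exact (IsIso.inv_comp_eq _).2 (mapCyc_i G S.X₃ m).symm
  obtain ⟨T₁, π₁, hπ₁, c, hc⟩ := surjective_up_to_refinements_of_epi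
    (G.map (HomologicalComplex.cyclesMap S.g m ≫ S.X₃.homologyπ m)) (z' ≫ G.map (S.X₃.homologyπ m))
  rw [G.map_comp] at hc
  have hrest : (π₁ ≫ z' - c ≫ G.map (HomologicalComplex.cyclesMap S.g m)) ≫ G.map (S.X₃.homologyπ m) = 0 := by
    rw [Preadditive.sub_comp, Category.assoc, Category.assoc, hc, sub_self]
  obtain ⟨T₂, π₂, hπ₂, w, hw, hwd⟩ : ∃ (T₂ : B) (π₂ : T₂ ⟶ T₁) (_ : Epi π₂) (w : T₂ ⟶ G.obj (S.X₂.X m)),
      π₂ ≫ (π₁ ≫ z' - c ≫ G.map (HomologicalComplex.cyclesMap S.g m)) ≫ G.map (S.X₃.iCycles m) =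
        w ≫ G.map (S.g.f m) ∧ w ≫ G.map (S.X₂.d m (m + 1)) = 0 := by
    rcases m with _ | k
    · refine ⟨T₁, 𝟙 _, inferInstance, 0, ?_, zero_comp⟩
      have h := (cancel_mono (G.map (S.X₃.homologyπ 0))).1 (hrest.trans zero_comp.symm)
      simp [h]
    · obtain ⟨T', π, hπ, t, ht⟩ := exists_boundary G S.X₃ (fun j p => by
        have := hinj₃ j
        exact isZero_R_injective G _ p) k hH3 _ hrest
      obtain ⟨s, hs⟩ := hsplit k
      refine ⟨T', π, hπ, t ≫ G.map s ≫ G.map (S.X₂.d k (k + 1)), ?_, ?_⟩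
      · rw [← Category.assoc π, ht, Category.assoc, Category.assoc, Category.assoc, ← G.map_comp,
          ← G.map_comp, ← G.map_comp, S.X₃.toCycles_i, ← S.g.comm, ← Category.assoc s, hs,
          Category.id_comp]
      · rw [Category.assoc, Category.assoc, ← G.map_comp, S.X₂.d_comp_d, G.map_zero, comp_zero, comp_zero]
  let y' := π₂ ≫ π₁ ≫ y - π₂ ≫ c ≫ G.map (S.X₂.iCycles m) - w
  have hy' : y' ≫ G.map (S.g.f m) = 0 := by
    have h1 : G.map (S.X₂.iCycles m) ≫ G.map (S.g.f m) =
        G.map (HomologicalComplex.cyclesMap S.g m) ≫ G.map (S.X₃.iCycles m) := by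
      rw [← G.map_comp, ← G.map_comp, HomologicalComplex.cyclesMap_i]
    simp only [y', Preadditive.sub_comp, Category.assoc, h1, ← hw, Preadditive.comp_sub, hz']
    simp [z]
  obtain ⟨i, hi⟩ : ∃ i, i ≫ G.map (S.f.f m) = y' := by
    have hE := (hdeg m).exact.map_of_mono_of_preservesKernel G (hdeg m).mono_f inferInstance
    have : Mono (G.map (S.f.f m)) := by
      have := hmono m
      infer_instance
    exact ⟨@ShortComplex.Exact.lift _ _ _ _ _ hE _ y' hy' this, @ShortComplex.Exact.lift_f _ _ _ _ _ hE _ y' hy' this⟩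
  refine ⟨T₂, π₂ ≫ π₁, inferInstance, i, ?_⟩
  have := hmono (m + 1)
  rw [← cancel_mono (G.map (S.f.f (m + 1)))]
  have e1 : (i ≫ G.map (S.X₁.d m (m + 1))) ≫ G.map (S.f.f (m + 1)) = y' ≫ G.map (S.X₂.d m (m + 1)) := by
    rw [← hi, Category.assoc, Category.assoc, ← G.map_comp, ← G.map_comp, S.f.comm]
  rw [e1, Category.assoc, Category.assoc, hy]
  simp only [y', Preadditive.sub_comp, Category.assoc, hwd, sub_zero]
  rw [← G.map_comp, S.X₂.iCycles_d, G.map_zero, comp_zero, comp_zero, sub_zero]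

/-- A factorisation through an image after restriction gives one before, up to refinements, when maps to the
cokernel are detected by restriction. -/
theorem exists_refinement_of_adj {A : Type u} [Category.{v} A] [Abelian A] {B : Type u'} [Category.{v'} B]
    [Abelian B] {R : A ⥤ B} {G : B ⥤ A} [R.PreservesMonomorphisms] [G.PreservesMonomorphisms]
    [R.PreservesZeroMorphisms] (adj : R ⊣ G) {E₀ E₁ I : A} {a : E₀ ⟶ E₁} (e : E₀ ⟶ I) (i : I ⟶ E₁) [Epi e] [Mono i]
    (hei : e ≫ i = a)
    (hdet : ∀ {T : A} (u : T ⟶ cokernel ((R ⋙ G).map e)), R.map u = 0 → u = 0)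
    {Z : A} (φ : Z ⟶ E₁) (ψ : Z ⟶ (R ⋙ G).obj I) (hψ : φ ≫ adj.unit.app E₁ = ψ ≫ (R ⋙ G).map i) :
    ∃ (T : A) (π : T ⟶ Z) (_ : Epi π) (y : T ⟶ (R ⋙ G).obj E₀),
      π ≫ φ ≫ adj.unit.app E₁ = y ≫ (R ⋙ G).map a := by
  let Φ := R ⋙ G
  let π := cokernel.π (Φ.map e)
  let v := R.map ψ ≫ adj.counit.app (R.obj I)
  have hv : R.map φ = v ≫ R.map i := by
    have h1 := congrArg R.map hψ
    rw [Functor.map_comp, Functor.map_comp] at h1
    calc R.map φ = R.map φ ≫ R.map (adj.unit.app _) ≫ adj.counit.app _ := by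
          rw [adj.left_triangle_components]; exact (Category.comp_id _).symm
      _ = R.map ψ ≫ R.map (Φ.map i) ≫ adj.counit.app _ := by
          rw [← Category.assoc, h1, Category.assoc]
      _ = v ≫ R.map i := by
          rw [Category.assoc]
          exact congrArg (R.map ψ ≫ ·) (adj.counit.naturality (R.map i))
  have hψ' : R.map ψ = v ≫ R.map (adj.unit.app I) := by
    have : Mono (R.map i) := inferInstance
    have : Mono (Φ.map i) := inferInstanceAs (Mono (G.map (R.map i)))
    rw [← cancel_mono (R.map (Φ.map i)), Category.assoc, ← R.map_comp, ← R.map_comp, ← hψ, R.map_comp, hv,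
      Category.assoc, ← R.map_comp]
    exact congrArg (v ≫ ·) (congrArg R.map (adj.unit.naturality i))
  have h0 : adj.unit.app I ≫ π = 0 := by
    rw [← cancel_epi e, comp_zero, ← Category.assoc]
    refine (congrArg (· ≫ π) (adj.unit.naturality e)).trans ?_
    rw [Category.assoc, cokernel.condition, comp_zero]
  have hu : ψ ≫ π = 0 := hdet _ (by
    rw [R.map_comp, hψ', Category.assoc, ← R.map_comp, h0, R.map_zero, comp_zero])
  obtain ⟨T₁, π₁, hπ₁, y, hy⟩ := (ShortComplex.exact_cokernel (Φ.map e)).exact_up_to_refinements ψ hu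
  refine ⟨T₁, π₁, hπ₁, y, ?_⟩
  refine (congrArg (π₁ ≫ ·) hψ).trans ?_
  refine (Category.assoc _ _ _).symm.trans ((congrArg (· ≫ Φ.map i) hy).trans ?_)
  exact (Category.assoc _ _ _).trans (congrArg (y ≫ ·) ((Φ.map_comp e i).symm.trans (congrArg Φ.map hei)))

/-- The descent step for a degreewise monomorphism of complexes of injectives. -/
theorem exists_coboundary_of_mono {A : Type u} [Category.{v} A] [Abelian A] [EnoughInjectives A] {B : Type u'}
    [Category.{v'} B] [Abelian B] (G : A ⥤ B) [G.Additive] [PreservesFiniteLimits G] [G.Full] [G.Faithful]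
    {I K : CochainComplex A ℕ} (f : I ⟶ K) (hf : ∀ k, Mono (f.f k))
    (hinj₁ : ∀ k, Injective (I.X k)) (hinj₂ : ∀ k, Injective (K.X k))
    (hI : ∀ j, 1 ≤ j → I.ExactAt j) (m : ℕ)
    (hK₀ : G.essImage (cokernel (G.map (HomologicalComplex.homologyMap f 0))))
    (hK : Epi (G.map (K.homologyπ m)))
    (hG : ∀ p, 1 ≤ p → p ≤ m → IsZero ((G.rightDerived p).obj (cokernel (HomologicalComplex.homologyMap f 0))))
    (hH : ∀ q, 1 ≤ q → q < m → ∀ p, 1 ≤ p → p ≤ m → IsZero ((G.rightDerived p).obj (K.homology q)))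
    {T : B} (a : T ⟶ G.obj (I.X (m + 1))) (ha : a ≫ G.map (I.d (m + 1) (m + 2)) = 0)
    (y : T ⟶ G.obj (K.X m)) (hy : a ≫ G.map (f.f (m + 1)) = y ≫ G.map (K.d m (m + 1))) :
    ∃ (T' : B) (π : T' ⟶ T) (_ : Epi π) (t : T' ⟶ G.obj (I.X m)),
      π ≫ a = t ≫ G.map (I.d m (m + 1)) := by
  have : Mono f := HomologicalComplex.mono_of_mono_f _ hf
  exact exists_coboundary_of_ses G (ShortComplex.mk f (cokernel.π f) (cokernel.condition _))
    { exact := ShortComplex.exact_cokernel _ } hinj₁ hinj₂ hI m hK₀ hK hG hH a ha y hy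

end Groth.Agent.DSites.Cmp
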