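import Groth.Agent.DSites.CmpRes
import Groth.Agent.DSites.CmpShift
import Groth.Agent.SiteBase.DerivedPrecomp
import Groth.Prelude.Def_WeakSerre

/-!
Comparison of two topologies: the induction proving that higher direct images of the comparison functor vanish.
-/

universe u

open CategoryTheory CategoryTheory.Limits Opposite

namespace Groth.Agent.DSites.Cmp

variable {C : Type u} [SmallCategory C] {J J' : GrothendieckTopology C}

/-- The hypotheses of a compare situation other than the refinement of coverings. -/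
structure Setting (h : J' ≤ J) (P : MorphismProperty C) (A' : ∀ X : C, ObjectProperty (Sh J' X)) : Prop where
  weak : ∀ X, WSerre.IsWeakSerre (A' X)
  base : ∀ ⦃X Y : C⦄ (f : X ⟶ Y), P f → ∀ ⦃Y' : C⦄ (g : Y' ⟶ Y),
      ∃ (W : C) (p : W ⟶ Y') (q : W ⟶ X), IsPullback p q g f ∧ P p
  restr : ∀ ⦃X Y : C⦄ (f : X ⟶ Y) (F' : Sh J' Y), A' Y F' → A' X ((res J' f).obj F')
  isSheaf : ∀ (X : C) (F' : Sh J' X), A' X F' → Presheaf.IsSheaf (J.over X) F'.obj
  derived : ∀ ⦃X Y : C⦄ (f : X ⟶ Y)
      [((Over.map f).sheafPushforwardCocontinuous AddCommGrpCat.{u} (J'.over X) (J'.over Y)).Additive],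
      P f → ∀ (F' : Sh J' X), A' X F' → ∀ i : ℕ,
        A' Y ((((Over.map f).sheafPushforwardCocontinuous AddCommGrpCat.{u} (J'.over X) (J'.over Y)).rightDerived i).obj F')

variable {h : J' ≤ J} {P : MorphismProperty C} {A' : ∀ X : C, ObjectProperty (Sh J' X)}

lemma Setting.hasPullbacksAlong (S : Setting h P A') {X Y : C} {f : X ⟶ Y} (hf : P f) : HasPullbacksAlong f :=
  fun g => let ⟨_, _, _, hp, _⟩ := S.base f hf g; hp.hasPullback

lemma Setting.pf_mem (S : Setting h P A') {X Y : C} (f : X ⟶ Y) [HasPullbacksAlong f] (hf : P f) {F' : Sh J' X}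
    (hF : A' X F') (i : ℕ) : A' Y (((pf J' f).rightDerived i).obj F') :=
  have := additive_cocont J' f
  have := S.weak Y
  (A' Y).prop_of_iso ((cocontRIso J' f i).app F') (S.derived f hf F' hF i)

lemma Setting.mem_essImage (S : Setting h P A') {X : C} {G : Sh J' X} (hG : A' X G) : (eps J h X).essImage G :=
  essImage_of_isSheaf h X G (S.isSheaf X G hG)

/-- The comparison image of an injective resolution. -/
noncomputable abbrev epsCx (h : J' ≤ J) {X : C} {F : Sh J X} (I : InjectiveResolution F) : CochainComplex (Sh J' X) ℕ :=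
  ((eps J h X).mapHomologicalComplex (ComplexShape.up ℕ)).obj I.cocomplex

/-- Higher images vanish in degrees `1, …, m`. -/
def Van (h : J' ≤ J) (A' : ∀ X : C, ObjectProperty (Sh J' X)) (m : ℕ) : Prop :=
  ∀ (X : C) (F : Sh J X), A' X ((eps J h X).obj F) → ∀ I : InjectiveResolution F,
    ∀ j, 1 ≤ j → j ≤ m → (epsCx h I).ExactAt j

lemma Van.mono {m n : ℕ} (hV : Van h A' n) (hmn : m ≤ n) : Van h A' m :=
  fun X F hF I j h₁ h₂ => hV X F hF I j h₁ (h₂.trans hmn)

lemma Van.isZero {m : ℕ} (hV : Van h A' m) {X : C} {F : Sh J X} (hF : A' X ((eps J h X).obj F)) {p : ℕ}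
    (hp : 1 ≤ p) (hpm : p ≤ m) : IsZero (((eps J h X).rightDerived p).obj F) :=
  ((HomologicalComplex.exactAt_iff_isZero_homology _ _).1 (hV X F hF (injectiveResolution F) p hp hpm)).of_iso
    ((injectiveResolution F).isoRightDerivedObj (eps J h X) p)

lemma van_of_isZero {m : ℕ}
    (hV : ∀ (X : C) (F : Sh J X), A' X ((eps J h X).obj F) → ∀ i : ℕ, 1 ≤ i → i ≤ m →
      IsZero (((eps J h X).rightDerived i).obj F)) : Van h A' m :=
  fun X F hF I j h₁ h₂ => (HomologicalComplex.exactAt_iff_isZero_homology _ _).2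
    ((hV X F hF j h₁ h₂).of_iso (I.isoRightDerivedObj (eps J h X) j).symm)

/-- Degree zero cycles of a resolution. -/
noncomputable def cyclesZeroIso {A : Type*} [Category A] [Abelian A] {F : A} (I : InjectiveResolution F) :
    F ≅ I.cocomplex.cycles 0 :=
  (HomologicalComplex.singleObjHomologySelfIso (ComplexShape.up ℕ) 0 F).symm ≪≫
    asIso (HomologicalComplex.homologyMap I.ι 0) ≪≫ (CochainComplex.isoHomologyπ₀ I.cocomplex).symm

section Push

variable (S : Setting h P A') {X Y : C} (f : X ⟶ Y) [HasPullbacksAlong f] (hf : P f)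
  {F : Sh J X} (hF : A' X ((eps J h X).obj F)) (I : InjectiveResolution F)

include S hf hF

/-- Push-forward of a resolution: its cohomology stays good in low degrees. -/
theorem derivedK (k : ℕ) (hex : ∀ j, 1 ≤ j → j ≤ k → (epsCx h I).ExactAt j) :
    A' Y ((eps J h Y).obj ((((pf J f).mapHomologicalComplex _).obj I.cocomplex).homology k)) ∧
      Epi ((eps J h Y).map ((((pf J f).mapHomologicalComplex _).obj I.cocomplex).homologyπ k)) ∧
      Nonempty (((pf J' f).rightDerived k).obj ((eps J h X).obj F) ≅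
        (eps J h Y).obj (((pf J f).rightDerived k).obj F)) := by
  let K := ((pf J f).mapHomologicalComplex (ComplexShape.up ℕ)).obj I.cocomplex
  have := S.weak Y
  suffices H : Epi ((eps J h Y).map (K.homologyπ k)) ∧
      Nonempty (((pf J' f).rightDerived k).obj ((eps J h X).obj F) ≅ (eps J h Y).obj (K.homology k)) by
    obtain ⟨hπ, ⟨e⟩⟩ := H
    exact ⟨(A' Y).prop_of_iso e (S.pf_mem f hf hF k), hπ,
      ⟨e ≪≫ (eps J h Y).mapIso (I.isoRightDerivedObj (pf J f) k).symm⟩⟩
  cases k with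
  | zero =>
    refine ⟨inferInstance, ⟨(pf J' f).rightDerivedZeroIsoSelf.app _ ≪≫ ?_⟩⟩
    exact (pf J' f).mapIso ((eps J h X).mapIso (cyclesZeroIso I)) ≪≫
      (eps J h Y).mapIso (homologyMapIso₀ (pf J f) I.cocomplex).symm
  | succ j =>
    let e : (epsCx h I).X j ⟶ (eps J h X).obj (I.cocomplex.cycles (j + 1)) :=
      (eps J h X).map (I.cocomplex.toCycles j (j + 1))
    let i : (eps J h X).obj (I.cocomplex.cycles (j + 1)) ⟶ (epsCx h I).X (j + 1) :=
      (eps J h X).map (I.cocomplex.iCycles (j + 1))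
    have he : e ≫ i = (epsCx h I).d j (j + 1) :=
      ((eps J h X).map_comp _ _).symm.trans (congrArg (eps J h X).map (I.cocomplex.toCycles_i _ _))
    have : Epi e := by
      have := epi_toCycles_of_exactAt (epsCx h I) j (hex (j + 1) (by omega) le_rfl)
      have h' : e = (epsCx h I).toCycles j (j + 1) ≫ inv (mapCyc (eps J h X) I.cocomplex (j + 1)) :=
        (IsIso.eq_comp_inv _).2 (map_toCycles_mapCyc (eps J h X) I.cocomplex j (j + 1))
      rw [h']; infer_instance
    have : Mono i := inferInstanceAs (Mono ((eps J h X).map (I.cocomplex.iCycles (j + 1))))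
    obtain ⟨e₁⟩ := nonempty_R_iso_cokernel (pf J' f) (epsCx h I)
      (fun k p => by
        have : Injective ((epsCx h I).X k) :=
          (eps_preservesInjective h X).injective_obj (I.injective k)
        exact isZero_R_injective _ _ p)
      j (fun l h₁ h₂ => hex l h₁ (by omega)) e i he
      ((eps J h X).mapIso (cyclesZeroIso I) ≪≫ asIso (mapCyc (eps J h X) I.cocomplex 0))
    let e₂ : cokernel ((pf J' f).map e) ≅ cokernel ((eps J h Y).map (K.toCycles j (j + 1))) :=
      cokernel.mapIso _ _ (Iso.refl _) ((eps J h Y).mapIso (asIso (mapCyc (pf J f) I.cocomplex (j + 1))))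
        (by
          refine Eq.trans ?_ (Category.id_comp _).symm
          exact ((eps J h Y).map_comp _ _).symm.trans
            (congrArg (eps J h Y).map (map_toCycles_mapCyc (pf J f) I.cocomplex j (j + 1))))
    have hA : A' Y (cokernel ((eps J h Y).map (K.toCycles j (j + 1)))) :=
      (A' Y).prop_of_iso (e₁ ≪≫ e₂) (S.pf_mem f hf hF (j + 1))
    obtain ⟨hπ, ⟨e₃⟩⟩ := cokernel_of_essImage (eps J h Y) _ (S.mem_essImage hA)
    let e₄ : cokernel (K.toCycles j (j + 1)) ≅ K.homology (j + 1) :=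
      IsColimit.coconePointUniqueUpToIso (cokernelIsCokernel _) (K.homologyIsCokernel j (j + 1) (by simp))
    have h4 : cokernel.π (K.toCycles j (j + 1)) ≫ e₄.hom = K.homologyπ (j + 1) :=
      IsColimit.comp_coconePointUniqueUpToIso_hom (cokernelIsCokernel _) _ WalkingParallelPair.one
    refine ⟨?_, ⟨e₁ ≪≫ e₂ ≪≫ e₃ ≪≫ (eps J h Y).mapIso e₄⟩⟩
    show Epi ((eps J h Y).map (K.homologyπ (j + 1)))
    rw [← h4, Functor.map_comp]
    infer_instance

end Push

section Core

variable (S : Setting h P A') {X Y : C} (f : X ⟶ Y) (hf : P f)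
  (hcov : Sieve.ofArrows (fun _ : PUnit.{u + 1} => X) (fun _ => f) ∈ J Y)

include hcov in
lemma mono_unit [HasPullbacksAlong f] (G : Sh J Y) : Mono ((resAdj J f).unit.app G) := by
  refine Preadditive.mono_of_cancel_zero _ fun {T} a ha => ?_
  refine eq_zero_of_res J (le_refl J) f hcov (Q := G) a ?_
  have h1 := congrArg (res J f).map ha
  rw [Functor.map_comp, Functor.map_zero] at h1
  exact ((Category.comp_id _).symm.trans ((congrArg (_ ≫ ·) ((resAdj J f).left_triangle_components G).symm).trans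
    ((Category.assoc _ _ _).symm.trans ((congrArg (· ≫ _) h1).trans zero_comp))))

include S hf hcov in
/-- The first half of the descent: a factorisation through images on the cover gives one on the base. -/
theorem exists_refinement [HasPullbacksAlong f] {F : Sh J Y} (hF : A' Y ((eps J h Y).obj F)) (I : InjectiveResolution F)
    (m : ℕ) (hV : Van h A' m) {B : Sh J' Y} (e : (epsCx h I).X m ⟶ B) (i : B ⟶ (epsCx h I).X (m + 1))
    [Epi e] [Mono i] (hei : e ≫ i = (epsCx h I).d m (m + 1))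
    {Z : Sh J' Y} (φ : Z ⟶ (epsCx h I).X (m + 1)) (ψ : Z ⟶ (res J' f ⋙ pf J' f).obj B)
    (hψ : φ ≫ (resAdj J' f).unit.app _ = ψ ≫ (res J' f ⋙ pf J' f).map i) :
    ∃ (T : Sh J' Y) (π : T ⟶ Z) (_ : Epi π) (y : T ⟶ (res J' f ⋙ pf J' f).obj ((epsCx h I).X m)),
      π ≫ φ ≫ (resAdj J' f).unit.app _ = y ≫ (res J' f ⋙ pf J' f).map ((epsCx h I).d m (m + 1)) := by
  let R := res J' f
  let Φ := res J' f ⋙ pf J' f
  let η := (resAdj J' f).unit
  haveI := S.weak Y
  let π := cokernel.π (Φ.map e)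
  have hQ : A' Y (cokernel (Φ.map e)) := by
    let IW := SiteBase.mapResolution (res J f) I
    have hFW : A' X ((eps J h X).obj ((res J f).obj F)) := S.restr f _ hF
    have hC : ∀ k p : ℕ, IsZero (((pf J' f).rightDerived (p + 1)).obj ((epsCx h IW).X k)) := fun k p => by
      have : Injective ((epsCx h IW).X k) := (eps_preservesInjective h X).injective_obj (IW.injective k)
      exact isZero_R_injective _ _ p
    have he : Epi (R.map e) := inferInstance
    have hi : Mono (R.map i) := inferInstance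
    obtain ⟨e₁⟩ := @nonempty_R_iso_cokernel (Sh J' X) _ _ (Sh J' Y) _ _ (pf J' f) _ _ (epsCx h IW) hC _ m
      (fun j h₁ h₂ => hV X _ hFW IW j h₁ h₂) _ (R.map e) (R.map i)
      ((R.map_comp e i).symm.trans (congrArg R.map hei)) he hi _
      ((eps J h X).mapIso (cyclesZeroIso IW) ≪≫ asIso (mapCyc (eps J h X) IW.cocomplex 0))
    exact (A' Y).prop_of_iso e₁ (S.pf_mem f hf hFW (m + 1))
  refine exists_refinement_of_adj (resAdj J' f) e i hei (fun {T} u hu => ?_) φ ψ hψ
  obtain ⟨Q₀, ⟨eQ⟩⟩ := S.mem_essImage hQ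
  rw [← cancel_mono eQ.inv, zero_comp]
  refine eq_zero_of_res J h f hcov (Q := Q₀) _ ?_
  exact (R.map_comp u eQ.inv).trans ((congrArg (· ≫ R.map eQ.inv) hu).trans zero_comp)

set_option maxHeartbeats 1000000 in
include S hf hcov in
/-- The second half of the descent. -/
theorem comp_cokernel_eq_zero [HasPullbacksAlong f] {F : Sh J Y} (hF : A' Y ((eps J h Y).obj F))
    (I : InjectiveResolution F) (m : ℕ) (hV : Van h A' m) {T : Sh J' Y} (φ : T ⟶ (epsCx h I).X (m + 1))
    (hφd : φ ≫ (epsCx h I).d (m + 1) (m + 2) = 0) (y : T ⟶ (res J' f ⋙ pf J' f).obj ((epsCx h I).X m))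
    (hy : φ ≫ (resAdj J' f).unit.app _ = y ≫ (res J' f ⋙ pf J' f).map ((epsCx h I).d m (m + 1))) :
    φ ≫ cokernel.π ((epsCx h I).d m (m + 1)) = 0 := by
  haveI := S.weak Y
  let unitCx : I.cocomplex ⟶ ((pf J f).mapHomologicalComplex _).obj (SiteBase.mapResolution (res J f) I).cocomplex :=
    { f := fun k => (resAdj J f).unit.app (I.cocomplex.X k)
      comm' := fun k l _ => ((resAdj J f).unit.naturality (I.cocomplex.d k l)).symm }
  let IW := SiteBase.mapResolution (res J f) I
  have hFW : A' X ((eps J h X).obj ((res J f).obj F)) := S.restr f _ hF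
  have hK := fun q (hq : q ≤ m) =>
    derivedK S f hf hFW IW q (fun j h₁ h₂ => hV X _ hFW IW j h₁ (h₂.trans hq))
  have hI₀ : A' Y ((eps J h Y).obj (I.cocomplex.homology 0)) :=
    (A' Y).prop_of_iso ((eps J h Y).mapIso (cyclesZeroIso I ≪≫ CochainComplex.isoHomologyπ₀ I.cocomplex)) hF
  have hG' : A' Y (cokernel ((eps J h Y).map (HomologicalComplex.homologyMap unitCx 0))) :=
    (A' Y).prop_cokernel _ hI₀ (hK 0 (Nat.zero_le m)).1
  obtain ⟨-, ⟨eG⟩⟩ := cokernel_of_essImage (eps J h Y) _ (S.mem_essImage hG')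
  obtain ⟨T₂, π₂, hπ₂, t, ht⟩ := exists_coboundary_of_mono (eps J h Y) unitCx (fun k => mono_unit f hcov _) (fun k => I.injective k)
    (fun k => (pf_preservesInjective J f).injective_obj (IW.injective k))
    (fun j hj => by
      obtain ⟨j, rfl⟩ : ∃ k, j = k + 1 := ⟨j - 1, by omega⟩
      exact I.cocomplex_exactAt_succ j)
    m (S.mem_essImage hG') (hK m le_rfl).2.1
    (fun p h₁ h₂ => hV.isZero ((A' Y).prop_of_iso eG hG') h₁ h₂)
    (fun q _ hq p h₁ h₂ => hV.isZero (hK q hq.le).1 h₁ h₂)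
    φ hφd y hy
  rw [← cancel_epi π₂, comp_zero, ← Category.assoc]
  exact (congrArg (· ≫ cokernel.π _) ht).trans ((Category.assoc _ _ _).trans
    ((congrArg (t ≫ ·) (cokernel.condition _)).trans comp_zero))

set_option maxHeartbeats 1000000 in
include S hf hcov in
/-- A cocycle which is locally a coboundary on a covering in `P` is locally a coboundary. -/
theorem bd_of_cover_P {F : Sh J Y} (hF : A' Y ((eps J h Y).obj F)) (I : InjectiveResolution F) (m : ℕ)
    (hV : Van h A' m) (x : ((epsCx h I).X (m + 1)).obj.obj (op (Over.mk (𝟙 Y))))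
    (hx : ((epsCx h I).d (m + 1) (m + 2)).hom.app _ x = 0)
    (hxf : Bd J' ((epsCx h I).d m (m + 1))
      (((epsCx h I).X (m + 1)).obj.map (Over.homMk f : Over.mk f ⟶ Over.mk (𝟙 Y)).op x)) :
    Bd J' ((epsCx h I).d m (m + 1)) x := by
  haveI : HasPullbacksAlong f := S.hasPullbacksAlong hf
  let U₀ : Over Y := Over.mk (𝟙 Y)
  let E := epsCx h I
  let a := E.d m (m + 1)
  let e : E.X m ⟶ kernel (cokernel.π a) := kernel.lift (cokernel.π a) a (cokernel.condition a)
  let i : kernel (cokernel.π a) ⟶ E.X (m + 1) := kernel.ι _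
  haveI : Epi e := (ShortComplex.exact_iff_epi_kernel_lift _).1 (ShortComplex.exact_cokernel a)
  let φ := (SiteBase.secEquiv (J'.over Y) U₀ (E.X (m + 1))).symm x
  have hφd : φ ≫ E.d (m + 1) (m + 2) = 0 := by
    rw [SiteBase.secEquiv_symm_comp]
    exact (congrArg _ hx).trans (map_zero _)
  let k : (Over.map f).obj ((Over.pullback f).obj U₀) ⟶ Over.mk f :=
    Over.homMk (pullback.snd (𝟙 Y) f)
  have hk : ((Over.mapPullbackAdj f).counit.app U₀) = k ≫ (Over.homMk f : Over.mk f ⟶ U₀) := by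
    apply Over.OverMorphism.ext
    rw [Over.mapPullbackAdj_counit_app]
    exact (Category.comp_id _).symm.trans pullback.condition
  have hr : (E.X (m + 1)).obj.map ((Over.mapPullbackAdj f).counit.app U₀).op x =
      (E.X (m + 1)).obj.map k.op ((E.X (m + 1)).obj.map (Over.homMk f : Over.mk f ⟶ U₀).op x) := by
    rw [hk, op_comp, Functor.map_comp]; rfl
  obtain ⟨b, hb⟩ := BigSiteLib.FppfDesc.exists_kernel_section (cokernel.π a)
    ((E.X (m + 1)).obj.map ((Over.mapPullbackAdj f).counit.app U₀).op x)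
    ((congrArg _ hr).trans (bd_map J' a k hxf))
  let ψ := (SiteBase.secEquiv (J'.over Y) U₀ ((res J' f ⋙ pf J' f).obj (kernel (cokernel.π a)))).symm b
  have hψ : φ ≫ (resAdj J' f).unit.app _ = ψ ≫ (res J' f ⋙ pf J' f).map i := by
    exact hom_unit_eq J' f i x b hb
  obtain ⟨T₁, π₁, hπ₁, y, hy⟩ :=
    exists_refinement S f hf hcov hF I m hV e i (kernel.lift_ι _ _ _) φ ψ hψ
  have hfin := comp_cokernel_eq_zero S f hf hcov hF I m hV (π₁ ≫ φ)
    ((Category.assoc _ _ _).trans ((congrArg (π₁ ≫ ·) hφd).trans comp_zero)) y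
    ((Category.assoc _ _ _).trans hy)
  rw [Category.assoc, ← comp_zero (f := π₁), cancel_epi] at hfin
  have h2 := congrArg (SiteBase.secEquiv (J'.over Y) U₀ _) hfin
  rw [SiteBase.secEquiv_comp, map_zero, AddEquiv.apply_symm_apply] at h2
  exact h2

end Core

section Induction

lemma map₃_eq {D : Type u} [SmallCategory D] (P : Dᵒᵖ ⥤ AddCommGrpCat.{u}) {A B B' U V : D} (a : A ⟶ B) (b : B ⟶ B')
    (c : B' ⟶ U) (a' : A ⟶ V) (c' : V ⟶ U) (x : P.obj (op U)) (e : a ≫ b ≫ c = a' ≫ c') :
    P.map a.op (P.map b.op (P.map c.op x)) = P.map a'.op (P.map c'.op x) := by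
  simp only [← ConcreteCategory.comp_apply, ← Functor.map_comp, ← op_comp, e]

/-- Every covering of the finer topology is refined by coverings from `P` and the coarser one. -/
def Refines (J J' : GrothendieckTopology C) (P : MorphismProperty C) : Prop :=
  ∀ (U : C) (S : Sieve U), S ∈ J U → ∃ (ι : Type u) (V : ι → C) (v : ∀ j, V j ⟶ U),
    Sieve.ofArrows V v ∈ J' U ∧ ∀ j, ∃ (W : C) (w : W ⟶ V j), P w ∧
      Sieve.ofArrows (fun _ : PUnit.{u + 1} => W) (fun _ => w) ∈ J (V j) ∧
      ∃ (κ : Type u) (Wk : κ → C) (wk : ∀ k, Wk k ⟶ W), Sieve.ofArrows Wk wk ∈ J' W ∧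
        ∀ k, S.arrows (wk k ≫ w ≫ v j)

variable (S : Setting h P A') (h5 : Refines J J' P)

include S h5

theorem exactAt_succ (m : ℕ) (hV : Van h A' m) {X : C} {F : Sh J X} (hF : A' X ((eps J h X).obj F))
    (I : InjectiveResolution F) : (epsCx h I).ExactAt (m + 1) := by
  rw [HomologicalComplex.exactAt_iff' _ m (m + 1) (m + 2) (by simp) (by simp)]
  refine BigSiteLib.FppfDesc.exact_of_locally_boundary fun U x hx => ?_
  refine imageSieve_of_bd J' ((epsCx h I).d m (m + 1)) x ?_
  have hτ : Presheaf.imageSieve (I.cocomplex.d m (m + 1)).hom x ∈ J.over X U :=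
    BigSiteLib.FppfDesc.locally_boundary
      (S := ShortComplex.mk (I.cocomplex.d m (m + 1)) (I.cocomplex.d (m + 1) (m + 2)) (I.cocomplex.d_comp_d _ _ _))
      (I.exact_succ m) x hx
  rw [GrothendieckTopology.mem_over_iff] at hτ
  obtain ⟨ι, V, v, hv, hW⟩ := h5 U.left _ hτ
  refine bd_of_cover J' _ x _ (J'.overEquiv_symm_mem_over U _ hv) fun Z g hg => ?_
  obtain ⟨V₁, l, v₁, hv₁, hfac⟩ := (Sieve.overEquiv_symm_iff _ g).1 hg
  obtain ⟨j⟩ := hv₁
  let g₀ : V j ⟶ X := v j ≫ U.hom
  let k : (Over.map g₀).obj (Over.mk (𝟙 (V j))) ⟶ U := Over.homMk (v j) (Category.id_comp _).symm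
  let k' : Z ⟶ (Over.map g₀).obj (Over.mk (𝟙 (V j))) := Over.homMk l (by
    show l ≫ 𝟙 _ ≫ v j ≫ U.hom = Z.hom
    rw [Category.id_comp, ← Category.assoc, hfac]
    exact Over.w g)
  have hg' : g = k' ≫ k := Over.OverMorphism.ext hfac.symm
  rw [hg', op_comp, Functor.map_comp, ConcreteCategory.comp_apply]
  refine bd_map J' _ k' (bd_of_res J' _ g₀ (U := Over.mk (𝟙 (V j))) _ ?_)
  obtain ⟨W, w, hw, hwcov, κ, Wk, wk, hwk, hS⟩ := hW j
  let x' := ((epsCx h I).X (m + 1)).obj.map k.op x
  refine bd_of_cover_P S w hw hwcov (F := (res J g₀).obj F) (S.restr g₀ _ hF)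
    (SiteBase.mapResolution (res J g₀) I) m hV x' ?_ ?_
  · exact (ConcreteCategory.congr_hom (((epsCx h I).d (m + 1) (m + 2)).hom.naturality k.op) x).trans
      ((congrArg _ hx).trans (((epsCx h I).X (m + 2)).obj.map k.op).hom.map_zero)
  · refine bd_of_cover J' _ _ _ (J'.overEquiv_symm_mem_over (Over.mk w) _ hwk) fun T q hq => ?_
    obtain ⟨W₁, l', w₁, hw₁, hfac'⟩ := (Sieve.overEquiv_symm_iff _ q).1 hq
    obtain ⟨c⟩ := hw₁
    obtain ⟨y, hy⟩ := (Sieve.overEquiv_iff _ _).1 (hS c)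
    have hwq : l' ≫ (wk c ≫ w ≫ v j) ≫ U.hom = T.hom ≫ v j ≫ U.hom := by
      have h1 : (l' ≫ wk c) ≫ w = T.hom := (congrArg (· ≫ w) hfac').trans (Over.w q)
      rw [← h1]
      simp only [Category.assoc]
    let q₀ : (Over.map g₀).obj T ⟶ Over.mk ((wk c ≫ w ≫ v j) ≫ U.hom) := Over.homMk l' hwq
    have key : (((epsCx h I).X (m + 1)).obj.map
          ((Over.map g₀).map q).op (((epsCx h I).X (m + 1)).obj.map
            ((Over.map g₀).map (Over.homMk w (Category.comp_id _) : Over.mk w ⟶ Over.mk (𝟙 (V j)))).op x')) =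
        ((epsCx h I).d m (m + 1)).hom.app _ ((I.cocomplex.X m).obj.map q₀.op y) := by
      refine Eq.trans ?_ (ConcreteCategory.congr_hom (((epsCx h I).d m (m + 1)).hom.naturality q₀.op) y).symm
      refine Eq.trans ?_ (congrArg (((epsCx h I).X (m + 1)).obj.map q₀.op) hy).symm
      show ((epsCx h I).X (m + 1)).obj.map _ (((epsCx h I).X (m + 1)).obj.map _
        (((epsCx h I).X (m + 1)).obj.map _ x)) = ((epsCx h I).X (m + 1)).obj.map _ (((epsCx h I).X (m + 1)).obj.map _ x)
      refine map₃_eq ((epsCx h I).X (m + 1)).obj _ _ _ _ _ x ?_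
      apply Over.OverMorphism.ext
      show q.left ≫ w ≫ v j = l' ≫ wk c ≫ w ≫ v j
      rw [← hfac']; simp
    exact key.symm ▸ bd_image J' ((epsCx h (SiteBase.mapResolution (res J g₀) I)).d m (m + 1)) _

theorem van (m : ℕ) : Van h A' m := by
  induction m with
  | zero => exact fun X F hF I j h₁ h₂ => absurd h₂ (by omega)
  | succ m ih =>
    intro X F hF I j h₁ h₂
    rcases Nat.lt_or_ge j (m + 1) with hj | hj
    · exact ih X F hF I j h₁ (by omega)
    · obtain rfl : j = m + 1 := le_antisymm h₂ hj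
      exact exactAt_succ S h5 m ih hF I

end Induction

end Groth.Agent.DSites.Cmp
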