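import Groth.Prelude.Def_SiteCmp
import Groth.Agent.BigSiteLib.FppfDesc.LocExact
import Groth.Agent.SiteBase.Sections
import Groth.Agent.SiteBase.Rpush
import Mathlib.Algebra.Category.Grp.AB
import Mathlib.CategoryTheory.Functor.Flat
import Mathlib.CategoryTheory.Sites.CoverLifting
import Mathlib.CategoryTheory.Preadditive.Injective.Preserves

/-!
Localised sites along an arrow: restriction, relocalisation push-forward and the comparison of topologies.
-/

universe u

open CategoryTheory CategoryTheory.Limits Opposite

namespace Groth.Agent.DSites.Cmp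

variable {C : Type u} [SmallCategory C]

/-- Abelian sheaves on a localised site. -/
abbrev Sh (J : GrothendieckTopology C) (X : C) := Sheaf (J.over X) AddCommGrpCat.{u}

variable (J : GrothendieckTopology C) {J' : GrothendieckTopology C} (h : J' ≤ J) {X Y : C} (f : X ⟶ Y)

/-- The comparison functor on a localised site. -/
noncomputable abbrev eps (X : C) : Sh J X ⥤ Sh J' X := SiteCmp.epsSh (SiteCmp.over_le h X) AddCommGrpCat.{u}

/-- Restriction along an arrow. -/
noncomputable abbrev res : Sh J Y ⥤ Sh J X := CohSite.push (J.over Y) (J.over X) (Over.map f)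

instance isContinuous_overPullback [HasPullbacksAlong f] :
    (Over.pullback f).IsContinuous (J.over Y) (J.over X) :=
  (Over.mapPullbackAdj f).isContinuous_of_isCocontinuous _ _

/-- Push-forward along an arrow with base changes. -/
noncomputable abbrev pf [HasPullbacksAlong f] : Sh J X ⥤ Sh J Y :=
  CohSite.push (J.over X) (J.over Y) (Over.pullback f)

/-- Restriction is left adjoint to push-forward. -/
noncomputable abbrev resAdj [HasPullbacksAlong f] : res J f ⊣ pf J f :=
  (Over.mapPullbackAdj f).sheafPushforwardContinuous (J.over X) (J.over Y)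

lemma unit_app_apply [HasPullbacksAlong f] (G : Sh J Y) {U : Over Y} (x : G.obj.obj (op U)) :
    ((resAdj J f).unit.app G).hom.app (op U) x = G.obj.map ((Over.mapPullbackAdj f).counit.app U).op x := rfl

lemma pf_res_map_apply [HasPullbacksAlong f] {G H : Sh J Y} (i : G ⟶ H) {U : Over Y}
    (b : G.obj.obj (op ((Over.map f).obj ((Over.pullback f).obj U)))) :
    ((res J f ⋙ pf J f).map i).hom.app (op U) b = i.hom.app (op ((Over.map f).obj ((Over.pullback f).obj U))) b := rfl

/-- Sections of a pushed restriction are sections over the base change. -/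
lemma hom_unit_eq [HasPullbacksAlong f] {G H : Sh J Y} (i : G ⟶ H) {U : Over Y} (x : H.obj.obj (op U))
    (b : G.obj.obj (op ((Over.map f).obj ((Over.pullback f).obj U))))
    (hb : i.hom.app (op ((Over.map f).obj ((Over.pullback f).obj U))) b =
      H.obj.map ((Over.mapPullbackAdj f).counit.app U).op x) :
    (SiteBase.secEquiv (J.over Y) U H).symm x ≫ (resAdj J f).unit.app H =
      (SiteBase.secEquiv (J.over Y) U ((res J f ⋙ pf J f).obj G)).symm b ≫ (res J f ⋙ pf J f).map i := by
  have key : ∀ {P Q R : Sh J Y} (a : P ⟶ R) (c : Q ⟶ R) (p : P.obj.obj (op U)) (q : Q.obj.obj (op U)),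
      a.hom.app (op U) p = c.hom.app (op U) q →
      (SiteBase.secEquiv (J.over Y) U P).symm p ≫ a = (SiteBase.secEquiv (J.over Y) U Q).symm q ≫ c := by
    intro P Q R a c p q e
    rw [SiteBase.secEquiv_symm_comp, SiteBase.secEquiv_symm_comp]
    exact congrArg _ e
  refine key ((resAdj J f).unit.app H) ((res J f ⋙ pf J f).map i) x b ?_
  exact (unit_app_apply J f H x).trans (hb.symm.trans (pf_res_map_apply J f i b).symm)

/-- The relocalisation push-forward is precomposition with base change. -/
noncomputable def cocontIso [HasPullbacksAlong f] :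
    (Over.map f).sheafPushforwardCocontinuous AddCommGrpCat.{u} (J.over X) (J.over Y) ≅ pf J f :=
  Adjunction.rightAdjointUniq ((Over.map f).sheafAdjunctionCocontinuous AddCommGrpCat.{u} (J.over X) (J.over Y))
    (resAdj J f)

lemma additive_cocont [HasPullbacksAlong f] :
    ((Over.map f).sheafPushforwardCocontinuous AddCommGrpCat.{u} (J.over X) (J.over Y)).Additive :=
  Functor.additive_of_iso (cocontIso J f).symm

/-- Derived relocalisation push-forwards by base change. -/
noncomputable def cocontRIso [HasPullbacksAlong f]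
    [((Over.map f).sheafPushforwardCocontinuous AddCommGrpCat.{u} (J.over X) (J.over Y)).Additive] (i : ℕ) :
    ((Over.map f).sheafPushforwardCocontinuous AddCommGrpCat.{u} (J.over X) (J.over Y)).rightDerived i ≅
      (pf J f).rightDerived i :=
  SiteBase.rightDerivedCongr (cocontIso J f) i

instance preservesFiniteLimits_res : PreservesFiniteLimits (res J f) := by
  have : (res J f).IsRightAdjoint := inferInstance
  infer_instance

instance preservesFiniteColimits_res : PreservesFiniteColimits (res J f) := by
  have : (res J f).IsLeftAdjoint :=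
    ((Over.map f).sheafAdjunctionCocontinuous AddCommGrpCat.{u} (J.over X) (J.over Y)).isLeftAdjoint
  infer_instance

instance preservesFiniteLimits_pf [HasPullbacksAlong f] : PreservesFiniteLimits (pf J f) := by
  have : (pf J f).IsRightAdjoint := (resAdj J f).isRightAdjoint
  infer_instance

/-- Lifts of an object over the target. -/
abbrev Fib (W : Over Y) : Type u := {g : W.left ⟶ X // g ≫ f = W.hom}

/-- The final discrete family of costructured arrows. -/
noncomputable def fibArrow (W : (Over Y)ᵒᵖ) : Discrete (Fib f W.unop) ⥤ CostructuredArrow (Over.map f).op W :=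
  Discrete.functor fun g => CostructuredArrow.mk (Y := op (Over.mk g.1))
    (Over.homMk (𝟙 _) ((Category.id_comp _).trans g.2) : W.unop ⟶ (Over.map f).obj (Over.mk g.1)).op

theorem final_fibArrow (W : (Over Y)ᵒᵖ) : (fibArrow f W).Final := ⟨fun T => by
  let w : W.unop.left ⟶ T.left.unop.left := T.hom.unop.left
  let g : Fib f W.unop := ⟨w ≫ T.left.unop.hom, (Category.assoc _ _ _).trans (Over.w T.hom.unop)⟩
  let k : T ⟶ (fibArrow f W).obj ⟨g⟩ := CostructuredArrow.homMk (Over.homMk w rfl : Over.mk g.1 ⟶ T.left.unop).op
    (Quiver.Hom.unop_inj (Over.OverMorphism.ext (Category.id_comp _)))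
  haveI : Nonempty (StructuredArrow T (fibArrow f W)) := ⟨StructuredArrow.mk k⟩
  have huniq : ∀ o : StructuredArrow T (fibArrow f W), o = StructuredArrow.mk k := by
    rintro ⟨⟨⟨⟩⟩, ⟨g'⟩, m⟩
    have h1 : m.left.unop.left = w := by
      have h := congrArg (fun t => CommaMorphism.left (Quiver.Hom.unop t)) (CostructuredArrow.w m)
      exact (Category.id_comp _).symm.trans h
    have h2 : g' = g := Subtype.ext ((Over.w m.left.unop).symm.trans (by rw [h1]; rfl))
    subst h2
    have h3 : m = k := CostructuredArrow.hom_ext _ _ (Quiver.Hom.unop_inj (Over.OverMorphism.ext h1))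
    subst h3
    rfl
  exact zigzag_isConnected fun a b => by rw [huniq a, huniq b]⟩

theorem lan_map_preservesFiniteLimits :
    PreservesFiniteLimits ((Over.map f).op.lan : ((Over X)ᵒᵖ ⥤ AddCommGrpCat.{u}) ⥤ (Over Y)ᵒᵖ ⥤ AddCommGrpCat.{u}) := by
  refine ⟨fun I _ _ => ?_⟩
  apply preservesLimitsOfShape_of_evaluation ((Over.map f).op.lan : ((Over X)ᵒᵖ ⥤ AddCommGrpCat.{u}) ⥤ _) I
  intro W
  haveI := final_fibArrow f W
  haveI : AB4.{u} AddCommGrpCat.{u} := AB4.of_AB5 _
  haveI : HasExactColimitsOfShape (Discrete (Fib f W.unop)) AddCommGrpCat.{u} := inferInstance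
  haveI : PreservesLimitsOfShape I ((Functor.whiskeringLeft _ _ AddCommGrpCat.{u}).obj (CostructuredArrow.proj (Over.map f).op W) ⋙
      (Functor.whiskeringLeft _ _ AddCommGrpCat.{u}).obj (fibArrow f W) ⋙ colim) := inferInstance
  exact preservesLimitsOfShape_of_natIso
    (lanEvaluationIsoColim AddCommGrpCat.{u} (Over.map f).op W ≪≫ Functor.isoWhiskerLeft _ (Functor.Final.colimIso (fibArrow f W)).symm).symm

theorem shriek_preservesFiniteLimits :
    PreservesFiniteLimits ((Over.map f).sheafPullback AddCommGrpCat.{u} (J.over X) (J.over Y)) := by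
  haveI := lan_map_preservesFiniteLimits f
  refine preservesFiniteLimits_of_natIso
    (F := sheafToPresheaf _ _ ⋙ ((Over.map f).op.lan ⋙ presheafToSheaf (J.over Y) AddCommGrpCat.{u})) ?_
  exact (Functor.sheafPullbackConstruction.sheafPullbackIso (Over.map f) AddCommGrpCat.{u} (J.over X) (J.over Y)).symm

instance res_preservesInjective : (res J f).PreservesInjectiveObjects where
  injective_obj {I} hI := by
    haveI := shriek_preservesFiniteLimits J f
    exact ((Over.map f).sheafAdjunctionContinuous AddCommGrpCat.{u} (J.over X) (J.over Y)).map_injective I hI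

instance pf_preservesInjective [HasPullbacksAlong f] : (pf J f).PreservesInjectiveObjects where
  injective_obj {I} hI := (resAdj J f).map_injective I hI

variable (X) {J}

instance eps_full : (eps J h X).Full where
  map_surjective g := ⟨⟨g.hom⟩, rfl⟩

instance eps_faithful : (eps J h X).Faithful where
  map_injective {F G} a b hab := by
    apply Sheaf.hom_ext
    exact congrArg (fun t => t.hom) hab

instance eps_preservesFiniteLimits : PreservesFiniteLimits (eps J h X) := by
  have := SiteCmp.idContinuous (SiteCmp.over_le h X)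
  have : (eps J h X).IsRightAdjoint :=
    inferInstanceAs ((𝟭 (Over X)).sheafPushforwardContinuous AddCommGrpCat.{u} (J'.over X) (J.over X)).IsRightAdjoint
  infer_instance

instance eps_additive : (eps J h X).Additive where

/-- Sheafification for the finer topology, as a left adjoint of the comparison functor. -/
noncomputable def epsLeftAdj :
    sheafToPresheaf (J'.over X) AddCommGrpCat.{u} ⋙ presheafToSheaf (J.over X) AddCommGrpCat.{u} ⊣ eps J h X :=
  Adjunction.mkOfHomEquiv
    { homEquiv := fun G F => ((sheafificationAdjunction (J.over X) AddCommGrpCat.{u}).homEquiv G.obj F).trans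
        { toFun := fun g => ⟨g⟩
          invFun := fun g => g.hom
          left_inv := fun _ => rfl
          right_inv := fun _ => rfl }
      homEquiv_naturality_left_symm := fun a g =>
        (sheafificationAdjunction (J.over X) AddCommGrpCat.{u}).homEquiv_naturality_left_symm a.hom g.hom
      homEquiv_naturality_right := fun {G F F'} a g => Sheaf.hom_ext
        ((sheafificationAdjunction (J.over X) AddCommGrpCat.{u}).homEquiv_naturality_right a g) }

instance eps_preservesInjective : (eps J h X).PreservesInjectiveObjects where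
  injective_obj {I} hI := by
    have : PreservesFiniteLimits (sheafToPresheaf (J'.over X) AddCommGrpCat.{u} ⋙
        presheafToSheaf (J.over X) AddCommGrpCat.{u}) := comp_preservesFiniteLimits _ _
    exact (epsLeftAdj h X).map_injective I hI

lemma essImage_of_isSheaf (G : Sh J' X) (hG : Presheaf.IsSheaf (J.over X) G.obj) : (eps J h X).essImage G :=
  ⟨⟨G.obj, hG⟩, ⟨Iso.refl _⟩⟩

/-- Sections of a sheaf agree when they agree locally. -/
lemma sheaf_ext {G : Sh J X} {U : Over X} {x y : G.obj.obj (op U)} (S : Sieve U) (hS : S ∈ J.over X U)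
    (H : ∀ ⦃V : Over X⦄ (g : V ⟶ U), S.arrows g → G.obj.map g.op x = G.obj.map g.op y) : x = y :=
  (((isSheaf_iff_isSheaf_of_type _ _).1
    ((Presheaf.isSheaf_iff_isSheaf_forget (J.over X) G.obj (forget AddCommGrpCat.{u})).1 G.2)) S hS).isSeparatedFor.ext H

variable {X} (J)

section Bd

variable {P Q : Sh J X} (a : P ⟶ Q)

/-- A section which is a local image. -/
def Bd {U : Over X} (x : Q.obj.obj (op U)) : Prop := (cokernel.π a).hom.app (op U) x = 0

lemma bd_map {U V : Over X} (g : V ⟶ U) {x : Q.obj.obj (op U)} (hx : Bd J a x) : Bd J a (Q.obj.map g.op x) :=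
  (ConcreteCategory.congr_hom ((cokernel.π a).hom.naturality g.op) x).trans
    ((congrArg ((cokernel a).obj.map g.op) hx).trans (map_zero _))

lemma bd_of_cover {U : Over X} (x : Q.obj.obj (op U)) (S : Sieve U) (hS : S ∈ J.over X U)
    (H : ∀ ⦃V : Over X⦄ (g : V ⟶ U), S.arrows g → Bd J a (Q.obj.map g.op x)) : Bd J a x := by
  refine sheaf_ext X S hS fun V g hg => ?_
  exact (ConcreteCategory.congr_hom ((cokernel.π a).hom.naturality g.op) x).symm.trans
    ((H g hg).trans (map_zero _).symm)

lemma bd_image {U : Over X} (y : P.obj.obj (op U)) : Bd J a (a.hom.app (op U) y) :=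
  (ConcreteCategory.comp_apply _ _ y).symm.trans
    (congrArg (fun t => t.hom.app (op U) y) (cokernel.condition a))

lemma bd_of_imageSieve {U : Over X} (x : Q.obj.obj (op U)) (hx : Presheaf.imageSieve a.hom x ∈ J.over X U) :
    Bd J a x :=
  bd_of_cover J a x _ hx fun V g ⟨y, hy⟩ => hy ▸ bd_image J a y

lemma imageSieve_of_bd {U : Over X} (x : Q.obj.obj (op U)) (hx : Bd J a x) :
    Presheaf.imageSieve a.hom x ∈ J.over X U :=
  BigSiteLib.FppfDesc.locally_boundary (ShortComplex.exact_cokernel a) x hx

/-- Local images restrict along arrows and conversely. -/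
lemma bd_of_res {Z : C} (g : Z ⟶ X) {U : Over Z} (x : Q.obj.obj (op ((Over.map g).obj U)))
    (hx : Bd J ((res J g).map a) x) : Bd J a x := by
  refine bd_of_cover J a x _
    ((J.over_map_coverPreserving g).cover_preserve (imageSieve_of_bd J ((res J g).map a) x hx)) ?_
  rintro V k ⟨V', k', l, ⟨y, hy⟩, rfl⟩
  have : Bd J a (Q.obj.map ((Over.map g).map k').op x) := by
    have h' : a.hom.app (op ((Over.map g).obj V')) y = Q.obj.map ((Over.map g).map k').op x := hy
    rw [← h']
    exact bd_image J a y
  have h2 : Q.obj.map (l ≫ (Over.map g).map k').op x = Q.obj.map l.op (Q.obj.map ((Over.map g).map k').op x) := by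
    rw [op_comp, Functor.map_comp]; rfl
  rw [h2]
  exact bd_map J a l this

lemma bd_res {Z : C} (g : Z ⟶ X) {U : Over Z} (x : Q.obj.obj (op ((Over.map g).obj U)))
    (hx : Bd J a x) : Bd J ((res J g).map a) x := by
  refine bd_of_imageSieve J ((res J g).map a) x ((J.over Z).superset_covering ?_
    ((Over.map g).cover_lift (J.over Z) (J.over X) (imageSieve_of_bd J a x hx)))
  rintro V k ⟨y, hy⟩
  exact ⟨y, hy⟩

end Bd

/-- A map to a sheaf vanishes as soon as it vanishes on a covering arrow. -/
lemma eq_zero_of_res (hcov : Sieve.ofArrows (fun _ : PUnit.{u + 1} => X) (fun _ => f) ∈ J Y)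
    {T : Sh J' Y} {Q : Sh J Y} (v : T ⟶ (eps J h Y).obj Q) (hv : (res J' f).map v = 0) : v = 0 := by
  ext U t
  have hS : (Sieve.ofArrows (fun _ : PUnit.{u + 1} => X) (fun _ => f)).pullback U.unop.hom ∈ J U.unop.left :=
    J.pullback_stable _ hcov
  refine sheaf_ext Y (G := Q) _ (J.overEquiv_symm_mem_over U.unop _ hS) fun V g hg => ?_
  obtain ⟨W, a, b, hb, hfac⟩ := (Sieve.overEquiv_symm_iff _ g).1 hg
  obtain ⟨⟨⟩⟩ := hb
  have hV : a ≫ f = V.hom := hfac.trans (Over.w g)
  let V' : Over X := Over.mk a
  let e : V ⟶ (Over.map f).obj V' := Over.homMk (𝟙 _) ((Category.id_comp _).trans hV)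
  have hz : v.hom.app (op V) (T.obj.map g.op t) = 0 := by
    have hT : T.obj.map g.op t = T.obj.map e.op (T.obj.map (Over.homMk g.left (by
        exact (Over.w g).trans hV.symm) : (Over.map f).obj V' ⟶ U.unop).op t) := by
      rw [← ConcreteCategory.comp_apply, ← Functor.map_comp, ← op_comp]
      congr 4
      exact Over.OverMorphism.ext (Category.id_comp g.left).symm
    rw [hT]
    refine (ConcreteCategory.congr_hom (v.hom.naturality e.op) _).trans ?_
    have := congrArg (fun t => t.hom.app (op V')) hv
    exact (congrArg (Q.obj.map e.op) (ConcreteCategory.congr_hom this _)).trans (map_zero _)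
  exact (ConcreteCategory.congr_hom (v.hom.naturality g.op) t).symm.trans (hz.trans (map_zero _).symm)

end Groth.Agent.DSites.Cmp
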