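import Groth.Agent.DSites.BddCompact
import Groth.Agent.DSites.FPB.SumSections
import Groth.Agent.DSites.CollColim.Collection
import Groth.Agent.SiteBase.ExtMod
import Groth.Agent.SiteBase.HKRep

/-!
# `Ext` out of `j_{U!} O_U` commutes with sums, for `U` in a collection with finite covering families
-/

universe u

set_option autoImplicit false
set_option backward.isDefEq.respectTransparency false
set_option backward.isDefEq.respectTransparency.types false
set_option linter.unusedSectionVars false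

open CategoryTheory CategoryTheory.Limits Opposite Abelian
open Groth.Agent.DSites.PartProj

namespace Groth.Agent.DSites.CollSum

variable {C : Type u} [SmallCategory C] [HasPullbacks C] {J : GrothendieckTopology C} (P : CollColim.Coll J)

/-- Members of the collection are quasi-compact. -/
theorem isQCSite {W : C} (hW : W ∈ P.B) : ToposFin.IsQCSite J W := fun T hT => by
  obtain ⟨ι, Y, hY, hT'⟩ := P.h2 W hW T hT
  obtain ⟨hfin, -, hcov, -⟩ := P.h1 W ι Y hY
  obtain ⟨n, ⟨e⟩⟩ := Finite.exists_equiv_fin ι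
  refine ⟨n, fun k => (Y (e.symm k)).left, fun k => (Y (e.symm k)).hom, fun k => hT' _,
    J.superset_covering (fun Z g hg => ?_) hcov⟩
  rw [Sieve.mem_ofArrows_iff] at hg ⊢
  obtain ⟨i, a, rfl⟩ := hg
  obtain ⟨k, rfl⟩ := e.symm.surjective i
  exact ⟨k, a, rfl⟩

section Cech

variable {I : Type u} {A : I → Sheaf J AddCommGrpCat.{u}} {c : Cofan A} (hc : IsColimit c)

include hc in
/-- The Cech complex of a sum of sheaves acyclic for a covering family is acyclic. -/
theorem exactAt_cech {U : C} {ι : Type u} (Y : ι → Over U) (hY : P.Cov U ι Y) (p : ℕ)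
    (h : ∀ i, (SiteBase.cechCx (Over.forget U) Y (A i)).ExactAt (p + 1)) :
    (SiteBase.cechCx (Over.forget U) Y c.pt).ExactAt (p + 1) := by
  obtain ⟨hfin, -, -, hB⟩ := P.h1 U ι Y hY
  classical
  cases nonempty_fintype ι
  let K (i : I) := SiteBase.cechCx (Over.forget U) Y (A i)
  let KC := SiteBase.cechCx (Over.forget U) Y c.pt
  let f (i : I) : K i ⟶ KC := (cechComplexFunctor Y).map (Functor.whiskerLeft (Over.forget U).op (c.inj i).hom)
  let g (i : I) : KC ⟶ K i :=
    (cechComplexFunctor Y).map (Functor.whiskerLeft (Over.forget U).op (FPB.proj hc i).hom)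
  have hd : ∀ {A B : CochainComplex AddCommGrpCat.{u} ℕ} (g : A ⟶ B) (m n : ℕ) (a : A.X m),
      (B.d m n).hom ((g.f m).hom a) = (g.f n).hom ((A.d m n).hom a) := fun g m n a =>
    ConcreteCategory.congr_hom (g.comm m n) a
  rw [HomologicalComplex.exactAt_iff' _ p (p + 1) (p + 1 + 1) (by simp) (by simp), ShortComplex.ab_exact_iff]
  intro z (hz : (KC.d (p + 1) (p + 1 + 1)).hom z = 0)
  choose S hS using fun b : Fin (p + 1 + 1) → ι =>
    FPB.exists_finset_sections hc (isQCSite P (hB (p + 1) b)) (SiteBase.cev Y _ (p + 1) b z)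
  let T := Finset.univ.biUnion S
  have hzT : ∑ i ∈ T, ((f i).f (p + 1)).hom (((g i).f (p + 1)).hom z) = z := by
    refine SiteBase.cev_ext Y _ fun b => ?_
    refine (map_sum _ _ _).trans (Eq.trans ?_ (hS b T (Finset.subset_biUnion_of_mem S (Finset.mem_univ b))))
    refine Finset.sum_congr rfl fun i _ => ?_
    refine (SiteBase.cev_map Y _ _ _ _ _).trans ?_
    exact congrArg ((c.inj i).hom.app _) (SiteBase.cev_map Y _ _ _ _ _)
  choose v hv using fun i => SiteBase.exists_preimage_of_exactAt (h i) (((g i).f (p + 1)).hom z)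
    (by rw [hd, hz, map_zero])
  refine ⟨∑ i ∈ T, ((f i).f p).hom (v i), ?_⟩
  show (KC.d p (p + 1)).hom _ = z
  rw [map_sum]
  refine Eq.trans (Finset.sum_congr rfl fun i _ => ?_) hzT
  rw [hd (f i), hv i]

include hc in
/-- A sum of totally acyclic sheaves has no higher cohomology on members of the collection. -/
theorem subsingleton_HU (hA : ∀ i, CohCx.IsTotallyAcyclic (A i)) {U : C} (hU : U ∈ P.B) (q : ℕ) :
    Subsingleton (CohSite.HU c.pt (q + 1) U) :=
  SiteBase.subsingleton_HU_of_cartan (J := J) (F := c.pt) (fun V => V ∈ P.B)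
    (K := { k : Σ (V : C) (ι : Type u), ι → Over V // P.Cov k.1 k.2.1 k.2.2 })
    (fun k => Over k.1.1) (fun k => Over.forget k.1.1) (fun k => k.1.2.1) (fun k => k.1.2.2)
    (fun k n a => (P.h1 _ _ _ k.2).2.2.2 n a) (fun k => SiteBase.injAcyclic_over _)
    (fun V hV T hT => by
      obtain ⟨ι, Y, hY, hT'⟩ := P.h2 V hV T hT
      exact ⟨⟨⟨V, ι, Y⟩, hY⟩, SiteBase.ctxOver Y, (P.h1 _ _ _ hY).2.2.1, hT'⟩)
    (fun k q => exactAt_cech P hc k.1.2.2 k.2 q fun i => by
      obtain ⟨e⟩ := SiteBase.nonempty_cech_addEquiv_HU (SiteBase.ctxOver k.1.2.2) (P.h1 _ _ _ k.2).2.2.1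
        (SiteBase.injAcyclic_over _) (q + 1) (A i)
        fun n a r => SiteBase.subsingleton_HU_of_totallyAcyclic (hA i) _ r
      have := SiteBase.subsingleton_HU_of_totallyAcyclic (hA i) k.1.1 q
      rw [HomologicalComplex.exactAt_iff_isZero_homology]
      have := e.toEquiv.subsingleton
      exact AddCommGrpCat.isZero_of_subsingleton _) hU q

end Cech

variable {O : Sheaf J CommRingCat.{u}} [HasExt.{u} (ModSite.Mod O)] {I : Type u}

omit [HasPullbacks C] [HasExt.{u} (ModSite.Mod O)] in
/-- Maps out of `j_{U!} O_U` are sections. -/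
noncomputable def freeSec (U : C) (M : ModSite.Mod O) :
    (ModSite.freeOn O U ⟶ M) ≃+ ((SheafOfModules.toSheaf (ModSite.ringSh O)).obj M).obj.obj (op U) :=
  { FPB.secOf (U := U) (M := M) with
    map_add' := fun a b => by
      have happ : ∀ (a : FPB.fr O U ⟶ M),
          FPB.secOf a = ((ModTensor.fg O).map a).app (op U) (FPB.secOf (𝟙 (FPB.fr O U))) := fun a =>
        ((congrArg FPB.secOf (Category.id_comp a)).symm).trans (FPB.secOf_comp (𝟙 _) a)
      show FPB.secOf (a + b) = FPB.secOf a + FPB.secOf b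
      rw [happ a, happ b, happ (a + b)]
      rfl }

omit [HasPullbacks C] [HasExt.{u} (ModSite.Mod O)] in
theorem freeSec_comp {U : C} {M N : ModSite.Mod O} (a : ModSite.freeOn O U ⟶ M) (g : M ⟶ N) :
    freeSec U N (a ≫ g) =
      (((SheafOfModules.toSheaf (ModSite.ringSh O)).map g).hom.app (op U)).hom (freeSec U M a) :=
  FPB.secOf_comp a g

/-- Sums of injective modules are acyclic for `j_{U!} O_U`. -/
theorem subsingleton_ext_sum_injective {U : C} (hU : U ∈ P.B) (E : I → ModSite.Mod O)
    (hE : ∀ i, Injective (E i)) (q : ℕ) : Subsingleton (Ext.{u} (ModSite.freeOn O U) (∐ E) (q + 1)) := by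
  let G : ModSite.Mod O ⥤ Sheaf J AddCommGrpCat.{u} := SheafOfModules.toSheaf (ModSite.ringSh O)
  have := ModTensor.preservesColimits_toSheaf O
  have : Subsingleton (CohSite.HU (G.obj (∐ E)) (q + 1) U) :=
    subsingleton_HU P (isColimitCofanMkObjOfIsColimit G _ _ (coproductIsCoproduct E))
      (fun i => @SiteBase.isTotallyAcyclic_toSheaf_injective _ _ _ (ModSite.ringSh O) (E i) (hE i)) hU q
  let e : ∀ M : ModSite.Mod O, (ModSite.freeOn O U ⟶ M) ≃+ (CohCx.freeSheaf J U ⟶ G.obj M) := fun M =>
    (freeSec U M).trans (SiteBase.secEquiv J U (G.obj M)).symm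
  obtain ⟨e'⟩ := SiteBase.nonempty_ext_addEquiv G (ModSite.freeOn O U) (CohCx.freeSheaf J U)
    (fun _ hS => hS.map_of_exact (SheafOfModules.toSheaf (ModSite.ringSh O)))
    (fun K hK r => SiteBase.subsingleton_HU_of_totallyAcyclic
      (@SiteBase.isTotallyAcyclic_toSheaf_injective _ _ _ (ModSite.ringSh O) K hK) U r)
    e (fun X Y φ g => by
      show (SiteBase.secEquiv J U (G.obj Y)).symm (freeSec U Y (φ ≫ g)) = _
      rw [freeSec_comp]
      exact (SiteBase.secEquiv_symm_comp (J := J) U (freeSec U X φ) (G.map g)).symm) (q + 1) (∐ E)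
  have : Subsingleton (Abelian.Ext (CohCx.freeSheaf J U) (G.obj (∐ E)) (q + 1)) :=
    (inferInstance : Subsingleton (CohSite.HU (G.obj (∐ E)) (q + 1) U))
  exact e'.toEquiv.subsingleton

/-- The sequence of sums of an injective presentation. -/
theorem exists_sumSES (F : I → ModSite.Mod O) :
    ∃ (E Q : I → ModSite.Mod O) (a : ∀ i, F i ⟶ E i) (b : ∀ i, E i ⟶ Q i)
      (w : Limits.Sigma.map a ≫ Limits.Sigma.map b = 0), (∀ i, Injective (E i)) ∧
      (ShortComplex.mk _ _ w).ShortExact := by
  let E := fun i => Injective.under (F i)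
  let a : ∀ i, F i ⟶ E i := fun i => Injective.ι (F i)
  let b : ∀ i, E i ⟶ cokernel (a i) := fun i => cokernel.π (a i)
  have w : Limits.Sigma.map a ≫ Limits.Sigma.map b = 0 := Sigma.hom_ext _ _ fun i => by
    rw [Limits.Sigma.ι_map_assoc, Limits.Sigma.ι_map, comp_zero]
    exact (Category.assoc _ _ _).symm.trans ((congrArg (· ≫ _) (cokernel.condition (a i))).trans zero_comp)
  refine ⟨E, _, a, b, w, fun i => inferInstance, { exact := ?_, mono_f := ?_, epi_g := ?_ }⟩
  · refine ShortComplex.exact_of_g_is_cokernel _ (CokernelCofork.IsColimit.ofπ _ _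
      (fun {Z} k hk => Sigma.desc fun i => cokernel.desc (a i) (Sigma.ι E i ≫ k) (by
        rw [← Category.assoc, ← Limits.Sigma.ι_map a i, Category.assoc, hk, comp_zero]))
      (fun {Z} k hk => Sigma.hom_ext _ _ fun i => by
        rw [Limits.Sigma.ι_map_assoc, Sigma.ι_desc]
        exact cokernel.π_desc _ _ _)
      (fun {Z} k hk m hm => Sigma.hom_ext _ _ fun i => by
        rw [Sigma.ι_desc, ← cancel_epi (cokernel.π (a i)), cokernel.π_desc, ← hm,
          Limits.Sigma.ι_map_assoc]))
  · have : Mono (Discrete.natTrans fun i => a i.as : Discrete.functor F ⟶ Discrete.functor E) :=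
      have : ∀ i, Mono ((Discrete.natTrans fun i => a i.as : Discrete.functor F ⟶ Discrete.functor E).app i) :=
        fun i => inferInstanceAs (Mono (Injective.ι (F i.as)))
      NatTrans.mono_of_mono_app _
    exact inferInstanceAs (Mono (colim.map
      (Discrete.natTrans fun i => a i.as : Discrete.functor F ⟶ Discrete.functor E)))
  · refine ⟨fun k l h => Sigma.hom_ext _ _ fun i => (cancel_epi (cokernel.π (a i))).1 ?_⟩
    have := Sigma.ι E i ≫= h
    rwa [Limits.Sigma.ι_map_assoc, Limits.Sigma.ι_map_assoc] at this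

include P in
/-- `Ext` out of `j_{U!} O_U` commutes with sums. -/
theorem extFix {U : C} (hU : U ∈ P.B) : BddCompact.ExtFix.{u} (ModSite.freeOn O U) I := by
  intro n
  induction n with
  | zero =>
    intro F x
    obtain ⟨φ, rfl⟩ := (Ext.mk₀_bijective _ _).2 x
    have := FPB.preservesColimitsOfShape_hom_freeOn O I (isQCSite P hU)
    have : (preadditiveCoyoneda.obj (op (FPB.fr O U))).PreservesZeroMorphisms := inferInstance
    obtain ⟨S, hS⟩ := BddCompact.exists_fix_of_preserves (preadditiveCoyoneda.obj (op (FPB.fr O U))) F φ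
    exact ⟨S, by rw [Ext.mk₀_comp_mk₀]; exact congrArg Ext.mk₀ hS⟩
  | succ n ih =>
    intro F x
    obtain ⟨E, Q, a, b, w, hE, hses⟩ := exists_sumSES F
    obtain ⟨z, hz⟩ := Ext.covariant_sequence_exact₁ (ModSite.freeOn O U) hses x
      ((subsingleton_ext_sum_injective P hU E hE n).elim _ _) (rfl : n + 1 = n + 1)
    obtain ⟨S, hS⟩ := ih Q z
    refine ⟨S, ?_⟩
    let α : ShortComplex.mk _ _ w ⟶ ShortComplex.mk _ _ w :=
      ShortComplex.homMk (partProj F S) (partProj E S) (partProj Q S)
        (sigmaMap_partProj F a S) (sigmaMap_partProj E b S)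
    rw [← hz, Ext.comp_assoc_of_third_deg_zero]
    refine Eq.trans (congrArg (fun t => z.comp t _)
      (ShortComplex.ShortExact.extClass_naturality hses hses α)) ?_
    rw [← Ext.comp_assoc_of_second_deg_zero]
    exact congrArg (fun t : Ext _ (∐ Q) n => t.comp hses.extClass rfl) hS

end Groth.Agent.DSites.CollSum
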