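import Mathlib.Algebra.Homology.ShortComplex.Exact
import Mathlib.Algebra.Homology.HomologicalComplexAbelian
import Mathlib.CategoryTheory.Preadditive.Injective.Basic
import Mathlib.CategoryTheory.Abelian.Refinements
import Mathlib.Algebra.Homology.ShortComplex.HomologicalComplex
import Mathlib.Algebra.Homology.Refinements

/-!
# Injective objects in cochain complexes indexed by the natural numbers
-/

set_option autoImplicit false

universe v u

open CategoryTheory CategoryTheory.Limits CategoryTheory.Category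

noncomputable section

namespace Groth.Agent.DSites.CxInj

variable {C : Type u} [Category.{v} C] [Abelian C]

theorem injective_of_split_acyclic (Q : CochainComplex C ℕ) (hinj : ∀ i : ℕ, Injective (Q.X i))
    (hac : ∀ i : ℕ, IsZero (Q.homology (i + 1))) (hsplit : ∀ i : ℕ, IsSplitMono (Q.iCycles i)) :
    Injective Q := by
  let r : ∀ i, Q.X i ⟶ Q.cycles i := fun i => (hsplit i).exists_splitMono.some.retraction
  have hr : ∀ i, Q.iCycles i ≫ r i = 𝟙 _ := fun i => (hsplit i).exists_splitMono.some.id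
  have hz : ∀ i, Q.iCycles i ≫ Q.toCycles i (i + 1) = 0 := fun i => by
    rw [← cancel_mono (Q.iCycles (i + 1)), assoc, HomologicalComplex.toCycles_i,
      HomologicalComplex.iCycles_d, zero_comp]
  have hπ : ∀ i, Epi (Q.toCycles i (i + 1)) := fun i => by
    have hs := ShortComplex.exact_of_g_is_cokernel
      (ShortComplex.mk (Q.toCycles i (i + 1)) (Q.homologyπ (i + 1))
        (Q.toCycles_comp_homologyπ _ _))
      (Q.homologyIsCokernel i (i + 1) (by simp))
    exact hs.epi_f ((hac i).eq_of_tgt _ _)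
  have hse : ∀ i, (ShortComplex.mk (Q.iCycles i) (Q.toCycles i (i + 1)) (hz i)).ShortExact :=
    fun i =>
    { exact := by
        rw [ShortComplex.exact_iff_exact_up_to_refinements]
        intro T x hx
        have hd : (ShortComplex.mk (Q.iCycles i) (Q.d i (i + 1)) (Q.iCycles_d _ _)).Exact :=
          ShortComplex.exact_of_f_is_kernel _ (Q.cyclesIsKernel i (i + 1) (by simp))
        refine hd.exact_up_to_refinements x ?_
        show x ≫ Q.d i (i + 1) = 0
        rw [← HomologicalComplex.toCycles_i, reassoc_of% hx, zero_comp]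
      epi_g := hπ i }
  let σ := fun i => ShortComplex.Splitting.ofExactOfRetraction _ (hse i).exact (r i) (hr i) (hπ i)
  let s : ∀ i, Q.cycles (i + 1) ⟶ Q.X i := fun i => (σ i).s
  have hs : ∀ i, s i ≫ Q.d i (i + 1) = Q.iCycles (i + 1) := fun i => by
    rw [← HomologicalComplex.toCycles_i, ← assoc]
    exact (congrArg (· ≫ Q.iCycles (i + 1)) (σ i).s_g).trans (id_comp _)
  have hid : ∀ i, r i ≫ Q.iCycles i + Q.d i (i + 1) ≫ r (i + 1) ≫ s i = 𝟙 _ := fun i => by
    rw [← HomologicalComplex.toCycles_i, assoc, reassoc_of% (hr (i + 1))]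
    exact (σ i).id
  haveI : ∀ i, Injective (Q.cycles i) := fun i => by
    haveI := hinj i
    exact (Retract.mk (Q.iCycles i) (r i) (hr i)).injective
  refine ⟨fun {X Y} g f _ => ?_⟩
  haveI : ∀ i, Mono (f.f i) := fun i => inferInstance
  let ψ : ∀ i, Y.X i ⟶ Q.cycles i := fun i => Injective.factorThru (g.f i ≫ r i) (f.f i)
  have hψ : ∀ i, f.f i ≫ ψ i = g.f i ≫ r i := fun i => Injective.comp_factorThru _ _
  refine ⟨{ f := fun i => ψ i ≫ Q.iCycles i + Y.d i (i + 1) ≫ ψ (i + 1) ≫ s i
            comm' := fun i j hij => ?_ }, ?_⟩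
  · obtain rfl : i + 1 = j := hij
    simp only [Preadditive.add_comp, assoc, hs, HomologicalComplex.iCycles_d, comp_zero, zero_add,
      Preadditive.comp_add, HomologicalComplex.d_comp_d_assoc, zero_comp, add_zero]
  · ext i
    dsimp
    rw [Preadditive.comp_add, reassoc_of% (hψ i), f.comm_assoc, reassoc_of% (hψ (i + 1)),
      ← g.comm_assoc, ← Preadditive.comp_add, hid, comp_id]

variable [EnoughInjectives C]

theorem exists_mono_into_split_acyclic (A : CochainComplex C ℕ) :
    ∃ (Q : CochainComplex C ℕ) (f : A ⟶ Q), Mono f ∧ (∀ i : ℕ, Injective (Q.X i)) ∧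
      (∀ i : ℕ, IsZero (Q.homology (i + 1))) ∧ ∀ i : ℕ, IsSplitMono (Q.iCycles i) := by
  let I : ℕ → C := fun i => Injective.under (A.X i)
  let d : ∀ i, I i ⊞ I (i + 1) ⟶ I (i + 1) ⊞ I (i + 1 + 1) := fun i => biprod.snd ≫ biprod.inl
  let Q : CochainComplex C ℕ := CochainComplex.of (fun i => I i ⊞ I (i + 1)) d fun i => by simp [d]
  have hd : ∀ i, Q.d i (i + 1) = d i := fun i => by simp [Q]
  let f : A ⟶ Q :=
    { f := fun i => biprod.lift (Injective.ι (A.X i)) (A.d i (i + 1) ≫ Injective.ι (A.X (i + 1)))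
      comm' := fun i j hij => by
        obtain rfl : i + 1 = j := hij
        refine (congrArg (biprod.lift _ _ ≫ ·) (hd i)).trans ?_
        refine biprod.hom_ext _ _ ?_ ?_
        · simp [d]
        · simp [d] }
  have hsn : ∀ i, Q.iCycles i ≫ (biprod.snd : Q.X i ⟶ I (i + 1)) = 0 := fun i => by
    rw [← cancel_mono (biprod.inl : I (i + 1) ⟶ I (i + 1) ⊞ I (i + 1 + 1)), zero_comp, assoc]
    exact (congrArg (Q.iCycles i ≫ ·) (hd i)).symm.trans (Q.iCycles_d _ _)
  refine ⟨Q, f, ?_, fun i => ?_, fun i => ?_, fun i => ?_⟩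
  · haveI : ∀ i, Mono (f.f i) := fun i => by
      haveI : Mono (f.f i ≫ (biprod.fst : Q.X i ⟶ I i)) := by
        have e : f.f i ≫ (biprod.fst : Q.X i ⟶ I i) = Injective.ι (A.X i) := biprod.lift_fst _ _
        rw [e]
        infer_instance
      exact mono_of_mono (f.f i) (biprod.fst : Q.X i ⟶ I i)
    exact HomologicalComplex.mono_of_mono_f f (fun i => this i)
  · change Injective (I i ⊞ I (i + 1))
    infer_instance
  · rw [← HomologicalComplex.exactAt_iff_isZero_homology,
      HomologicalComplex.exactAt_iff' Q i (i + 1) (i + 1 + 1) (by simp) (by simp),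
      ShortComplex.exact_iff_exact_up_to_refinements]
    intro T x hx
    change T ⟶ I (i + 1) ⊞ I (i + 1 + 1) at x
    have h₂ : x ≫ biprod.snd = 0 := by
      rw [← cancel_mono (biprod.inl : I (i + 1 + 1) ⟶ I (i + 1 + 1) ⊞ I (i + 1 + 1 + 1)),
        zero_comp, assoc]
      exact (congrArg (x ≫ ·) (hd (i + 1))).symm.trans hx
    refine ⟨T, 𝟙 T, inferInstance, biprod.lift 0 (x ≫ biprod.fst), ?_⟩
    refine (id_comp x).trans (Eq.trans ?_ (congrArg (biprod.lift _ _ ≫ ·) (hd i)).symm)
    apply biprod.hom_ext <;> simp [d, h₂]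
  · refine IsSplitMono.mk' ⟨Q.liftCycles
      ((biprod.fst : Q.X i ⟶ I i) ≫ (biprod.inl : I i ⟶ Q.X i)) (i + 1) (by simp) ?_, ?_⟩
    · exact (congrArg ((_ ≫ _) ≫ ·) (hd i)).trans (by simp [d])
    · rw [← cancel_mono (Q.iCycles i), assoc, HomologicalComplex.liftCycles_i, id_comp]
      show Q.iCycles i ≫ (biprod.fst : Q.X i ⟶ I i) ≫ biprod.inl = Q.iCycles i
      refine biprod.hom_ext _ _ ?_ ?_
      · simp
      · simp [hsn]

end Groth.Agent.DSites.CxInj
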