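import Groth.Agent.TriCat.SeqColimit
import Mathlib.CategoryTheory.Preadditive.AdditiveFunctor
import Mathlib.CategoryTheory.Limits.Preserves.Shapes.Products
import Mathlib.CategoryTheory.Filtered.Basic
import Mathlib.CategoryTheory.Category.ULift

/-!
# Additive functors preserving sequential colimits preserve countable sums
-/

set_option autoImplicit false

universe w v v' u u'

open CategoryTheory CategoryTheory.Limits CategoryTheory.Category

namespace Groth.Agent.DSites.DiscreteNat

attribute [local instance] Abelian.hasFiniteBiproducts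

variable {A : Type u} [Category.{v} A] [Abelian A] {B : Type u'} [Category.{v'} B] [Preadditive B]

/-- Preservation of sequential colimits from preservation of small filtered colimits. -/
lemma preservesColimitsOfShape_nat (G : A ⥤ B)
    (h : ∀ (J : Type w) [SmallCategory J] [IsFiltered J], PreservesColimitsOfShape J G) :
    PreservesColimitsOfShape ℕ G := by
  have := h (AsSmall.{w} ℕ)
  exact preservesColimitsOfShape_of_equiv (AsSmall.equiv : ℕ ≌ AsSmall.{w} ℕ).symm G

/-- An additive functor preserving sequential colimits preserves countable sums. -/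
lemma preservesColimitsOfShape_discrete_nat (G : A ⥤ B) [G.Additive]
    [HasColimitsOfShape (Discrete ℕ) A] [PreservesColimitsOfShape ℕ G] :
    PreservesColimitsOfShape (Discrete ℕ) G := by
  suffices ∀ F : ℕ ⥤ A, PreservesColimit (Discrete.functor F.obj) G from
    ⟨fun {K} => by
      haveI : PreservesColimit (Discrete.functor (K.obj ∘ Discrete.mk)) G :=
        this (Functor.ofSequence (fun n => (0 : K.obj ⟨n⟩ ⟶ K.obj ⟨n + 1⟩)))
      exact preservesColimit_of_iso_diagram G (Discrete.natIsoFunctor (F := K)).symm⟩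
  intro F
  refine preservesColimit_of_preserves_colimit_cocone (coproductIsCoproduct F.obj) ?_
  refine (Cofan.isColimitMapCoconeEquiv G _ _).symm ?_
  let hc := isColimitOfPreserves G (TriCat.isColimitPartialSumsCocone F)
  have hext : ∀ {N : ℕ} {T : B} (g g' : G.obj (TriCat.psum F N) ⟶ T),
      (∀ j hj, G.map (TriCat.pinc F N j hj) ≫ g = G.map (TriCat.pinc F N j hj) ≫ g') → g = g' := by
    intro N T g g' hg
    rw [← id_comp g, ← id_comp g', ← G.map_id, ← biproduct.total, G.map_sum,
      Preadditive.sum_comp, Preadditive.sum_comp]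
    refine Finset.sum_congr rfl fun k _ => ?_
    rw [G.map_comp, assoc, assoc]
    exact congrArg _ (hg k.1 k.2)
  have hpj : ∀ (N j : ℕ) (hj : j < N) {T : B} (t : ∀ n, G.obj (F.obj n) ⟶ T),
      G.map (TriCat.pinc F N j hj) ≫
        (∑ k : Fin N, G.map (TriCat.pprj F N k k.2) ≫ t k) = t j := by
    intro N j hj T t
    rw [Preadditive.comp_sum, Finset.sum_eq_single ⟨j, hj⟩]
    · rw [← assoc, ← G.map_comp, TriCat.pinc_pprj_self, G.map_id]
      exact id_comp _
    · intro k _ hk
      rw [← assoc, ← G.map_comp, TriCat.pinc_pprj_ne F _ _ _ _ _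
        (fun e => hk (Fin.ext e.symm)), G.map_zero, zero_comp]
    · simp
  let mk : ∀ t : Cofan (fun n => G.obj (F.obj n)), Cocone (TriCat.partialSums F ⋙ G) := fun t =>
    { pt := t.pt
      ι :=
        { app := fun N => ∑ k : Fin N, G.map (TriCat.pprj F N k k.2) ≫ t.inj k
          naturality := fun N M h => hext _ _ fun j hj => by
            let m : TriCat.psum F N ⟶ TriCat.psum F M := (TriCat.partialSums F).map h
            have hm : TriCat.pinc F N j hj ≫ m =
                TriCat.pinc F M j (lt_of_lt_of_le hj (leOfHom h)) := TriCat.pinc_desc F hj _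
            show G.map (TriCat.pinc F N j hj) ≫ G.map m ≫
              (∑ k : Fin M, G.map (TriCat.pprj F M k k.2) ≫ t.inj k) =
              G.map (TriCat.pinc F N j hj) ≫
                (∑ k : Fin N, G.map (TriCat.pprj F N k k.2) ≫ t.inj k) ≫ 𝟙 _
            rw [comp_id, hpj, ← assoc, ← G.map_comp, hm, hpj] } }
  let ιN : ∀ N, TriCat.psum F N ⟶ ∐ F.obj := fun N =>
    biproduct.desc fun k : Fin N => Sigma.ι F.obj k.1
  have hinc : ∀ (N j : ℕ) (hj : j < N), TriCat.pinc F N j hj ≫ ιN N = Sigma.ι F.obj j :=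
    fun N j hj => TriCat.pinc_desc F hj (fun k : Fin N => Sigma.ι F.obj k.1)
  let d : ∀ t : Cofan (fun n => G.obj (F.obj n)), G.obj (∐ F.obj) ⟶ t.pt :=
    fun t => hc.desc (mk t)
  have hfac' : ∀ (t : Cofan (fun n => G.obj (F.obj n))) (N : ℕ), G.map (ιN N) ≫ d t =
      ∑ k : Fin N, G.map (TriCat.pprj F N k k.2) ≫ t.inj k := fun t N => hc.fac (mk t) N
  have hfac : ∀ (t : Cofan (fun n => G.obj (F.obj n))) (n : ℕ),
      G.map (Sigma.ι F.obj n) ≫ d t = t.inj n := fun t n => by
    rw [← hinc (n + 1) n (Nat.lt_succ_self n), G.map_comp, assoc, hfac', hpj]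
  refine Cofan.IsColimit.mk _ d hfac fun t (m : G.obj (∐ F.obj) ⟶ t.pt) hm =>
    hc.hom_ext fun N => ?_
  refine hext _ _ fun j hj => ?_
  show G.map (TriCat.pinc F N j hj) ≫ G.map (ιN N) ≫ m =
    G.map (TriCat.pinc F N j hj) ≫ G.map (ιN N) ≫ d t
  rw [← assoc, ← assoc, ← G.map_comp, hinc, hfac]
  exact hm j

end Groth.Agent.DSites.DiscreteNat
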