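import Groth.Agent.DSites.RpushLimit
import Mathlib.CategoryTheory.Adjunction.FullyFaithful

/-!
# The comparison morphism of two topologies

`ε_*` is fully faithful; on a class of modules acyclic on a covering class of objects it is exact,
has weak Serre image, and the unit of `ε^* ⊣ Rε_*` is invertible on that image.
-/

set_option autoImplicit false
set_option linter.style.haveILetI false

universe u

open CategoryTheory CategoryTheory.Limits Opposite Pretriangulated DerivedCategory

attribute [local instance] HasDerivedCategory.standard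

namespace Groth.Agent.DSites

variable {C : Type u} [SmallCategory C] {J : GrothendieckTopology C}

section Eps

variable {J' : GrothendieckTopology C} (h : J' ≤ J) (O : Sheaf J CommRingCat.{u})

instance faithful_eps_push : (SiteCmp.eps h O).push.Faithful where
  map_injective {F G} a b hab := by
    ext U x
    exact congrArg (fun t => (t.val.app U).hom x) hab

instance full_eps_push : (SiteCmp.eps h O).push.Full where
  map_surjective {F G} g := ⟨⟨PresheafOfModules.homMk
      { app := fun U => ((PresheafOfModules.toPresheaf _).map g.val).app U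
        naturality := fun U V φ => ((PresheafOfModules.toPresheaf _).map g.val).naturality φ }
      (fun U r x => (g.val.app U).hom.map_smul r x)⟩, by ext U x; rfl⟩

end Eps

/-- A cohomology sheaf vanishes if hypercohomology does on a covering class of objects. -/
lemma isZero_HD_of_locally [HasDerivedCategory.{u} (Sheaf J AddCommGrpCat.{u})]
    (X : DerivedCategory (Sheaf J AddCommGrpCat.{u})) (p : ℤ) {B : Set C}
    (hB : DLim.IsCoveredBy J B) (h : ∀ V ∈ B, Subsingleton (CohCx.HDU X p V)) :
    IsZero (CohCx.HD X p) := by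
  have key : ∀ (U : C) (s : (CohCx.HD X p).obj.obj (op U)), s = 0 := by
    intro U s
    obtain ⟨R, hR, hlift⟩ := DLim.exists_cover_cls_lift X p U s
    obtain ⟨ι, Y, g, hg, hcov, hY⟩ := hB.refine_cover U hR
    refine DLim.sections_separated _ hcov s 0 ?_
    rintro Z k ⟨Z', b, c, ⟨i⟩, rfl⟩
    obtain ⟨x, hx⟩ := hlift _ (g i) (hg i)
    have hz : ((CohCx.HD X p).obj.map (g i).op).hom s = 0 := by
      rw [← hx, show x = 0 from @Subsingleton.elim _ (h _ (hY i)) _ _, map_zero]
    rw [op_comp, Functor.map_comp]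
    show ((CohCx.HD X p).obj.map b.op).hom (((CohCx.HD X p).obj.map (g i).op).hom s) = _
    rw [hz, map_zero, map_zero]
  rw [IsZero.iff_id_eq_zero]
  ext U x
  exact key _ x

variable {D : Type u} [SmallCategory D] {K : GrothendieckTopology D}
  {O_C : Sheaf J CommRingCat.{u}} {O_D : Sheaf K CommRingCat.{u}}
  (f : ModSite.RMor O_C O_D) [SiteCmp.HasRpushD f]

/-- Higher direct images vanish for a module acyclic on the preimages of a covering class. -/
theorem isZero_H_rpushD_of_acyclic {B' : Set D} (hB' : DLim.IsCoveredBy K B')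
    (M : ModSite.Mod O_C)
    (hM : ∀ V ∈ B', ∀ k : ℕ, 0 < k → Subsingleton (ModSite.HU O_C M k (f.fn.obj V)))
    (p : ℤ) (hp : 0 < p) :
    IsZero ((DerivedCategory.homologyFunctor (ModSite.Mod O_D) p).obj
      ((SiteCmp.RpushD f).obj (SiteCmp.inD O_C M))) := by
  letI := smallShD J
  letI := smallShD K
  have hz : IsZero ((SheafOfModules.toSheaf (ModSite.ringSh O_D)).obj
      ((DerivedCategory.homologyFunctor (ModSite.Mod O_D) p).obj
        ((SiteCmp.RpushD f).obj (SiteCmp.inD O_C M)))) := by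
    refine (isZero_HD_of_locally _ p hB' fun V hV => ?_).of_iso
      (hdIso (ModSite.ringSh O_D) _ p).symm
    refine subsingleton_HDU_rpushD f _ p V ?_
    refine subsingleton_HDU_mod_of_cohomology O_C (SiteCmp.inD O_C M) 0 p _ fun j k hjk => ?_
    by_cases hj : j = 0
    · subst hj
      exact subsingleton_HU_of_iso O_C
        ((singleFunctorCompHomologyFunctorIso (ModSite.Mod O_C) 0).app M).symm (hM V hV k (by omega))
    · refine subsingleton_HU_mod_of_isZero O_C ?_ k _
      rcases lt_or_gt_of_ne hj with h' | h'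
      · exact isZero_of_isGE _ 0 j h'
      · exact isZero_of_isLE _ 0 j h'
  rw [IsZero.iff_id_eq_zero] at hz ⊢
  refine (SheafOfModules.toSheaf (ModSite.ringSh O_D)).map_injective ?_
  rw [CategoryTheory.Functor.map_id, Functor.map_zero]
  exact hz

variable [HasInjectiveResolutions (ModSite.Mod O_C)]

instance preservesFiniteLimits_rmor_push : PreservesFiniteLimits f.push :=
  haveI : f.push.IsRightAdjoint := ⟨_, ⟨f.adj⟩⟩
  inferInstance

omit [SiteCmp.HasRpushD f] in
/-- `R^0 f_* = f_*`. -/
noncomputable def rpushZeroIso : f.Rpush 0 ≅ f.push :=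
  f.push.rightDerivedZeroIsoSelf

/-- `Rf_* M = f_* M` if the higher direct images vanish. -/
lemma nonempty_rpushD_inD (M : ModSite.Mod O_C)
    (h : ∀ p : ℤ, 0 < p → IsZero ((DerivedCategory.homologyFunctor (ModSite.Mod O_D) p).obj
      ((SiteCmp.RpushD f).obj (SiteCmp.inD O_C M)))) :
    Nonempty (SiteCmp.inD O_D (f.push.obj M) ≅ (SiteCmp.RpushD f).obj (SiteCmp.inD O_C M)) := by
  let X := (SiteCmp.RpushD f).obj (SiteCmp.inD O_C M)
  have : X.IsGE 0 := isGE_rpushD f (SiteCmp.inD O_C M) 0
  have : X.IsLE 0 := (isLE_iff _ _).2 fun i hi => h i hi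
  obtain ⟨G, ⟨e⟩⟩ := exists_iso_singleFunctor_obj_of_isGE_of_isLE X 0
  obtain ⟨e'⟩ := nonempty_H_rpushD_single f M 0
  exact ⟨(singleFunctor (ModSite.Mod O_D) 0).mapIso (((rpushZeroIso f).app M).symm ≪≫ e'.symm ≪≫
    (DerivedCategory.homologyFunctor (ModSite.Mod O_D) 0).mapIso e ≪≫
      (singleFunctorCompHomologyFunctorIso _ 0).app G) ≪≫ e.symm⟩

variable [PreservesFiniteLimits f.pull] (adj : SiteCmp.pullD f ⊣ SiteCmp.RpushD f)

omit [HasInjectiveResolutions (ModSite.Mod O_C)] in
/-- For a fully faithful direct image, counit and unit are invertible on acyclic modules, whatever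
the adjunction. -/
theorem isIso_unit_push [f.push.Full] [f.push.Faithful] (M : ModSite.Mod O_C)
    (e : SiteCmp.inD O_D (f.push.obj M) ≅ (SiteCmp.RpushD f).obj (SiteCmp.inD O_C M)) :
    IsIso (adj.unit.app (SiteCmp.inD O_D (f.push.obj M))) := by
  let sC := singleFunctor (ModSite.Mod O_C) 0
  let sD := singleFunctor (ModSite.Mod O_D) 0
  let φ := f.pull.mapDerivedCategorySingleFunctor 0
  let pre : ∀ (N : ModSite.Mod O_D), (N ⟶ f.push.obj M) → (f.pull.obj N ⟶ M) := fun N g =>
    sC.preimage (φ.inv.app N ≫ (SiteCmp.pullD f).map (sD.map g ≫ e.hom) ≫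
      adj.counit.app (SiteCmp.inD O_C M))
  have hbij : ∀ N, Function.Bijective (pre N) := fun N => by
    have h1 : Function.Bijective (fun g : N ⟶ f.push.obj M => sD.map g ≫ e.hom) :=
      (Iso.homToEquiv e).bijective.comp (Functor.FullyFaithful.ofFullyFaithful sD).homEquiv.bijective
    have h2 := (adj.homEquiv (SiteCmp.inD O_D N) (SiteCmp.inD O_C M)).symm.bijective.comp h1
    have h3 := (Iso.homFromEquiv (φ.app N)).bijective.comp h2
    have h4 := (Functor.FullyFaithful.ofFullyFaithful sC).homEquiv.symm.bijective.comp h3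
    refine (congrArg Function.Bijective (funext fun g => ?_)).mpr h4
    refine sC.map_injective ?_
    simp only [pre, Functor.map_preimage, Function.comp_apply]
    refine Eq.trans ?_ ((Functor.FullyFaithful.ofFullyFaithful sC).map_preimage _).symm
    show _ = φ.inv.app N ≫ (adj.homEquiv _ _).symm (sD.map g ≫ e.hom)
    rw [Adjunction.homEquiv_counit]
  have hnat : ∀ {N N' : ModSite.Mod O_D} (s : N ⟶ N') (g : N' ⟶ f.push.obj M),
      pre N (s ≫ g) = f.pull.map s ≫ pre N' g := fun {N N'} s g => sC.map_injective (by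
    simp only [pre, Functor.map_preimage, Functor.map_comp, Category.assoc]
    exact (φ.inv.naturality_assoc s _).symm)
  let c₀ := pre _ (𝟙 (f.push.obj M))
  let εc := f.adj.counit.app M
  have hpre : ∀ {N} (g : N ⟶ f.push.obj M), pre N g = f.pull.map g ≫ c₀ := fun g => by
    rw [← hnat g (𝟙 _), Category.comp_id]
  obtain ⟨s, hs⟩ := (hbij _).2 εc
  rw [hpre] at hs
  let s' := f.adj.homEquiv _ _ c₀
  have hs' : f.pull.map s' ≫ εc = c₀ := by
    rw [show c₀ = (f.adj.homEquiv _ _).symm s' from ((f.adj.homEquiv _ _).symm_apply_apply c₀).symm,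
      Adjunction.homEquiv_counit]
  have h12 : s ≫ s' = 𝟙 _ := (f.adj.homEquiv _ _).symm.injective (by
    rw [Adjunction.homEquiv_counit, Adjunction.homEquiv_counit, Functor.map_comp,
      Category.assoc, hs', hs, CategoryTheory.Functor.map_id, Category.id_comp])
  have h21 : s' ≫ s = 𝟙 _ := (hbij _).1 (by
    rw [hpre, hpre, Functor.map_comp, Category.assoc, hs, hs', CategoryTheory.Functor.map_id,
      Category.id_comp])
  have : IsIso s' := ⟨⟨s, h21, h12⟩⟩
  have : IsIso εc := inferInstance
  have hc₀ : IsIso c₀ := by rw [← hs']; infer_instance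
  have hmap : IsIso (sC.map c₀) := inferInstance
  have hcounit : IsIso (adj.counit.app (SiteCmp.inD O_C M)) := by
    have e1 : sC.map c₀ = (φ.inv.app (f.push.obj M) ≫ (SiteCmp.pullD f).map e.hom) ≫
        adj.counit.app (SiteCmp.inD O_C M) := by
      simp [c₀, pre]
      erw [CategoryTheory.Functor.map_id, Category.id_comp]
    have : IsIso (φ.inv.app (f.push.obj M) ≫ (SiteCmp.pullD f).map e.hom) := inferInstance
    have : IsIso ((φ.inv.app (f.push.obj M) ≫ (SiteCmp.pullD f).map e.hom) ≫
        adj.counit.app (SiteCmp.inD O_C M)) := by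
      rw [← e1]
      exact hmap
    exact IsIso.of_isIso_comp_left (φ.inv.app (f.push.obj M) ≫ (SiteCmp.pullD f).map e.hom) _
  have hu : IsIso (adj.unit.app ((SiteCmp.RpushD f).obj (SiteCmp.inD O_C M))) := by
    have : IsIso (adj.unit.app ((SiteCmp.RpushD f).obj (SiteCmp.inD O_C M)) ≫
        (SiteCmp.RpushD f).map (adj.counit.app (SiteCmp.inD O_C M))) := by
      rw [adj.right_triangle_components]
      exact ⟨⟨𝟙 _, Category.id_comp _, Category.id_comp _⟩⟩
    exact IsIso.of_isIso_comp_right _ ((SiteCmp.RpushD f).map (adj.counit.app (SiteCmp.inD O_C M)))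
  exact (NatTrans.isIso_app_iff_of_iso adj.unit e).2 hu

variable (A : ObjectProperty (ModSite.Mod O_C)) [WSerre.IsWeakSerre A] [f.push.Full] [f.push.Faithful]

/-- A fully faithful direct image, exact on a weak Serre class, has weak Serre image. -/
theorem isWeakSerre_map_push (adj : SiteCmp.pullD f ⊣ SiteCmp.RpushD f)
    (hR : ∀ M, A M → ∀ p : ℤ, 0 < p → IsZero ((DerivedCategory.homologyFunctor (ModSite.Mod O_D) p).obj
      ((SiteCmp.RpushD f).obj (SiteCmp.inD O_C M)))) :
    WSerre.IsWeakSerre (A.map f.push) := by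
  have hR1 : ∀ M, A M → IsZero ((f.Rpush 1).obj M) := fun M hM => by
    obtain ⟨e⟩ := nonempty_H_rpushD_single f M 1
    exact (hR M hM 1 (by omega)).of_iso e.symm
  have hepi : ∀ S : ShortComplex (ModSite.Mod O_C), S.ShortExact → A S.X₁ → Epi (f.push.map S.g) := by
    intro S hS h1
    obtain ⟨δ, w₁, w₂, w₃, -, h₂, -⟩ := TriCat.exists_rightDerived_ses f.push hS 0
    have he : Epi ((f.push.rightDerived 0).map S.g) := h₂.epi_f ((hR1 _ h1).eq_of_tgt _ _)
    have hn := (rpushZeroIso f).hom.naturality S.g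
    have hi : IsIso ((rpushZeroIso f).hom.app S.X₃) := inferInstance
    have : Epi ((f.Rpush 0).map S.g ≫ (rpushZeroIso f).hom.app S.X₃) :=
      @epi_comp _ _ _ _ _ _ he _ inferInstance
    rw [hn] at this
    exact @epi_of_epi _ _ _ _ _ _ _ this
  refine { exists_zero := ?_, kernels_le := ?_, cokernels_le := ?_, prop_X₂_of_shortExact := ?_ }
  · obtain ⟨Z, hZ, hA⟩ := A.exists_prop_of_containsZero
    exact ⟨_, f.push.map_isZero hZ, (A.prop_map_iff f.push _).2 ⟨Z, hA, ⟨Iso.refl _⟩⟩⟩
  · rintro _ ⟨g, k, hk, hf⟩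
    obtain ⟨M, hM, ⟨eM⟩⟩ := (A.prop_map_iff f.push _).1 hf.1
    obtain ⟨N, hN, ⟨eN⟩⟩ := (A.prop_map_iff f.push _).1 hf.2
    obtain ⟨φ, hφ⟩ := f.push.map_surjective (eM.hom ≫ g ≫ eN.inv)
    refine (A.prop_map_iff f.push _).2 ⟨kernel φ, A.prop_of_isLimit_kernelFork
      (k := KernelFork.ofι _ (kernel.condition φ)) (kernelIsKernel φ) hM hN, ⟨?_⟩⟩
    exact PreservesKernel.iso f.push φ ≪≫ kernel.mapIso (f.push.map φ) g eM eN (by simp [hφ]) ≪≫
      (kernelIsKernel g).conePointUniqueUpToIso hk
  · rintro _ ⟨g, k, hk, hf⟩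
    obtain ⟨M, hM, ⟨eM⟩⟩ := (A.prop_map_iff f.push _).1 hf.1
    obtain ⟨N, hN, ⟨eN⟩⟩ := (A.prop_map_iff f.push _).1 hf.2
    obtain ⟨φ, hφ⟩ := f.push.map_surjective (eM.hom ≫ g ≫ eN.inv)
    have hker : A (kernel φ) := A.prop_of_isLimit_kernelFork
      (k := KernelFork.ofι _ (kernel.condition φ)) (kernelIsKernel φ) hM hN
    have hcok : A (cokernel φ) := A.prop_of_isColimit_cokernelCofork
      (k := CokernelCofork.ofπ _ (cokernel.condition φ)) (cokernelIsCokernel φ) hM hN
    have him : A (kernel (cokernel.π φ)) := A.prop_of_isLimit_kernelFork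
      (k := KernelFork.ofι _ (kernel.condition (cokernel.π φ))) (kernelIsKernel (cokernel.π φ)) hN hcok
    let S₁ : ShortComplex (ModSite.Mod O_C) :=
      ShortComplex.mk (kernel.ι φ) (Abelian.factorThruImage φ) (by
        rw [← cancel_mono (Abelian.image.ι φ)]
        simp)
    have h₁ : S₁.ShortExact :=
      { exact := by
          let T₁ : ShortComplex (ModSite.Mod O_C) := ShortComplex.mk (kernel.ι φ) φ (kernel.condition φ)
          let ψ : S₁ ⟶ T₁ :=
            { τ₁ := 𝟙 _, τ₂ := 𝟙 _, τ₃ := Abelian.image.ι φ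
              comm₁₂ := (Category.id_comp _).trans (Category.comp_id _).symm
              comm₂₃ := (Category.id_comp _).trans (Abelian.image.fac φ).symm }
          exact (ShortComplex.exact_iff_of_epi_of_isIso_of_mono ψ).2
            (T₁.exact_of_f_is_kernel (kernelIsKernel φ)) }
    let S₂ : ShortComplex (ModSite.Mod O_C) :=
      ShortComplex.mk (Abelian.image.ι φ) (cokernel.π φ) (kernel.condition _)
    have h₂ : S₂.ShortExact := { exact := S₂.exact_of_f_is_kernel (kernelIsKernel _) }
    have e₁ : Epi (f.push.map (Abelian.factorThruImage φ)) := hepi S₁ h₁ hker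
    have e₂ : Epi (f.push.map (cokernel.π φ)) := hepi S₂ h₂ him
    let T₂ : ShortComplex (ModSite.Mod O_D) := S₂.map f.push
    have hT : T₂.Exact := (S₂.map f.push).exact_of_f_is_kernel
      (KernelFork.mapIsLimit _ (kernelIsKernel (cokernel.π φ)) f.push)
    let T : ShortComplex (ModSite.Mod O_D) :=
      ShortComplex.mk (f.push.map φ) (f.push.map (cokernel.π φ))
        (by rw [← Functor.map_comp, cokernel.condition, Functor.map_zero])
    let ψ : T ⟶ T₂ :=
      { τ₁ := f.push.map (Abelian.factorThruImage φ), τ₂ := 𝟙 _, τ₃ := 𝟙 _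
        comm₁₂ := ((f.push.map_comp _ _).symm.trans
          (congrArg f.push.map (Abelian.image.fac φ))).trans (Category.comp_id _).symm
        comm₂₃ := (Category.id_comp _).trans (Category.comp_id _).symm }
    have : Epi ψ.τ₁ := e₁
    have : IsIso ψ.τ₂ := inferInstanceAs (IsIso (𝟙 (f.push.obj _)))
    have : Mono ψ.τ₃ := inferInstanceAs (Mono (𝟙 (f.push.obj _)))
    have hTe : T.Exact := (ShortComplex.exact_iff_of_epi_of_isIso_of_mono ψ).2 hT
    have : Epi T.g := e₂
    refine (A.prop_map_iff f.push _).2 ⟨cokernel φ, hcok, ⟨?_⟩⟩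
    exact (hTe.gIsCokernel.coconePointUniqueUpToIso (cokernelIsCokernel (f.push.map φ))) ≪≫
      cokernel.mapIso (f.push.map φ) g eM eN (by simp [hφ]) ≪≫
      (cokernelIsCokernel g).coconePointUniqueUpToIso hk
  · intro S hS h₁ h₃
    obtain ⟨M, hM, ⟨eM⟩⟩ := (A.prop_map_iff f.push _).1 h₁
    obtain ⟨N, hN, ⟨eN⟩⟩ := (A.prop_map_iff f.push _).1 h₃
    have hpush : ∀ L, A L → IsIso (adj.unit.app (SiteCmp.inD O_D (f.push.obj L))) := fun L hL => by
      obtain ⟨e⟩ := nonempty_rpushD_inD f L (hR L hL)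
      exact isIso_unit_push f adj L e
    have hE : A (f.pull.obj S.X₂) :=
      A.prop_X₂_of_shortExact (hS.map_of_exact f.pull)
        (A.prop_of_iso ((asIso (f.adj.counit.app M)).symm ≪≫ f.pull.mapIso eM) hM)
        (A.prop_of_iso ((asIso (f.adj.counit.app N)).symm ≪≫ f.pull.mapIso eN) hN)
    have hu : IsIso (adj.unit.app (SiteCmp.inD O_D S.X₂)) := by
      letI := adj.rightAdjointCommShift ℤ
      haveI := adj.commShift_of_leftAdjoint ℤ
      haveI : (SiteCmp.RpushD f).IsTriangulated := adj.isTriangulated_rightAdjoint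
      haveI : (SiteCmp.pullD f ⋙ SiteCmp.RpushD f).IsTriangulated :=
        Functor.IsTriangulated.instComp (SiteCmp.pullD f) (SiteCmp.RpushD f)
      exact isIso_app_triangle adj.unit _ hS.singleTriangle_distinguished
        ((NatTrans.isIso_app_iff_of_iso adj.unit ((singleFunctor _ 0).mapIso eM)).1 (hpush M hM))
        ((NatTrans.isIso_app_iff_of_iso adj.unit ((singleFunctor _ 0).mapIso eN)).1 (hpush N hN))
    obtain ⟨e₀⟩ := nonempty_H_rpushD_single f (f.pull.obj S.X₂) 0
    refine (A.prop_map_iff f.push _).2 ⟨f.pull.obj S.X₂, hE, ⟨?_⟩⟩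
    exact ((rpushZeroIso f).app _).symm ≪≫ e₀.symm ≪≫
      (DerivedCategory.homologyFunctor (ModSite.Mod O_D) 0).mapIso
        ((SiteCmp.RpushD f).mapIso (pullDInD f S.X₂).symm ≪≫ (asIso (adj.unit.app _)).symm) ≪≫
      (singleFunctorCompHomologyFunctorIso _ 0).app S.X₂

end Groth.Agent.DSites
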