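import Groth.Prelude.Def_ModSite
import Groth.Agent.SiteBase.FlatRel
import Groth.Agent.SiteBase.ModColim
import Mathlib.Algebra.Category.ModuleCat.Sheaf.Quasicoherent
import Mathlib.Algebra.Category.ModuleCat.Sheaf.PushforwardContinuous

/-!
# Maps from finitely presented modules to flat modules factor locally through finite free modules
-/

universe u

open CategoryTheory CategoryTheory.Limits Opposite SheafOfModules
open Groth.Agent.ModTensor Groth.Agent.ModPull

namespace Groth.Agent.DSites.LocalFree

variable {C : Type u} [SmallCategory C] {J : GrothendieckTopology C}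

section Ring

variable {R : Sheaf J RingCat.{u}} {Y : C}

/-- Value at an object of a map out of the unit. -/
noncomputable def ev {M : SheafOfModules.{u} (R.over Y)} (α : unit (R.over Y) ⟶ M) (W : Over Y) :
    M.val.obj (op W) :=
  α.val.app (op W) (One.one (α := (R.over Y).obj.obj (op W)))

lemma app_eq_smul {M : SheafOfModules.{u} (R.over Y)} (α : unit (R.over Y) ⟶ M) (W : Over Y)
    (r : (R.over Y).obj.obj (op W)) : α.val.app (op W) r = r • ev α W := by
  exact Eq.trans (congrArg _ (mul_one r).symm) ((α.val.app (op W)).hom.map_smul r _)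

lemma ev_eq_map {M : SheafOfModules.{u} (R.over Y)} (α : unit (R.over Y) ⟶ M) (W : Over Y) :
    ev α W = M.val.map (Over.homMk W.hom : W ⟶ Over.mk (𝟙 Y)).op (ev α (Over.mk (𝟙 Y))) :=
  ((M.unitHomEquiv α).property (Over.homMk W.hom : W ⟶ Over.mk (𝟙 Y)).op).symm

lemma ev_ext {M : SheafOfModules.{u} (R.over Y)} {α β : unit (R.over Y) ⟶ M}
    (h : ev α (Over.mk (𝟙 Y)) = ev β (Over.mk (𝟙 Y))) : α = β :=
  M.unitHomEquiv.injective (Subtype.ext (funext fun W => by
    show ev α W.unop = ev β W.unop
    rw [ev_eq_map α, ev_eq_map β, h]))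

/-- The map out of the unit with a given value. -/
noncomputable def ofTop {M : SheafOfModules.{u} (R.over Y)} (x : M.val.obj (op (Over.mk (𝟙 Y)))) :
    unit (R.over Y) ⟶ M :=
  M.unitHomEquiv.symm ⟨fun W => M.val.map (Over.homMk W.unop.hom : W.unop ⟶ Over.mk (𝟙 Y)).op x,
    fun {W W'} g => by
      refine (PresheafOfModules.map_comp_apply M.val _ g x).symm.trans ?_
      exact congrArg (fun f : op (Over.mk (𝟙 Y)) ⟶ W' => M.val.map f x)
        (show (Over.homMk W.unop.hom : W.unop ⟶ Over.mk (𝟙 Y)).op ≫ g =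
          (Over.homMk W'.unop.hom : W'.unop ⟶ Over.mk (𝟙 Y)).op from
          Quiver.Hom.unop_inj (Over.OverMorphism.ext (Over.w g.unop)))⟩

lemma ev_ofTop {M : SheafOfModules.{u} (R.over Y)} (x : M.val.obj (op (Over.mk (𝟙 Y)))) :
    ev (ofTop x) (Over.mk (𝟙 Y)) = x := by
  refine (congrArg (fun s : M.sections => s.val (op (Over.mk (𝟙 Y))))
    (M.unitHomEquiv.apply_symm_apply _)).trans ?_
  refine (congrArg (fun f => M.val.map f x) (?_ : _ = 𝟙 (op (Over.mk (𝟙 Y))))).trans
    (by simp [PresheafOfModules.map_id] <;> rfl)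
  exact Quiver.Hom.unop_inj (Over.OverMorphism.ext rfl)

lemma ev_comp {M N : SheafOfModules.{u} (R.over Y)} (α : unit (R.over Y) ⟶ M) (p : M ⟶ N) (W : Over Y) :
    ev (α ≫ p) W = p.val.app (op W) (ev α W) := rfl

/-- Evaluation as an additive map. -/
noncomputable def evHom {M : SheafOfModules.{u} (R.over Y)} (W : Over Y) :
    (unit (R.over Y) ⟶ M) →+ M.val.obj (op W) where
  toFun α := ev α W
  map_zero' := rfl
  map_add' _ _ := rfl

/-- The projections of a free module. -/
noncomputable def pr {κ : Type u} (j : κ) : free (R := R.over Y) κ ⟶ unit (R.over Y) := by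
  classical exact Cofan.IsColimit.desc (isColimitFreeCofan κ) fun j' => if j' = j then 𝟙 _ else 0

lemma ιFree_pr_self {κ : Type u} (j : κ) : ιFree (R := R.over Y) j ≫ pr j = 𝟙 _ := by
  classical
  exact (Cofan.IsColimit.fac (isColimitFreeCofan κ) _ j).trans (if_pos rfl)

lemma ιFree_pr_ne {κ : Type u} {j' j : κ} (h : j' ≠ j) : ιFree (R := R.over Y) j' ≫ pr j = 0 := by
  classical
  exact (Cofan.IsColimit.fac (isColimitFreeCofan κ) _ j').trans (if_neg h)

lemma sum_pr {κ : Type u} [Fintype κ] :
    ∑ j : κ, pr (R := R) (Y := Y) j ≫ ιFree j = 𝟙 (free (R := R.over Y) κ) := by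
  refine Cofan.IsColimit.hom_ext (isColimitFreeCofan κ) _ _ fun j => ?_
  show ιFree j ≫ _ = ιFree j ≫ 𝟙 _
  rw [Preadditive.comp_sum, Finset.sum_eq_single j (fun b _ hb => by rw [← Category.assoc, ιFree_pr_ne (Ne.symm hb), zero_comp])
    (fun h => absurd (Finset.mem_univ j) h), ← Category.assoc, ιFree_pr_self, Category.id_comp, Category.comp_id]

variable (R) in
/-- Restriction along a morphism of objects preserves colimits. -/
lemma preservesColimits_overMap {V : C} (k : V ⟶ Y) :
    PreservesColimitsOfSize.{u, u} (SheafOfModules.overMap.{u} R k) := by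
  have h2 := SiteBase.preservesColimitsOfSize_toSheaf (J := J.over Y) (R.over Y)
  have h3 : PreservesColimitsOfSize.{u, u}
      ((Over.map k).sheafPushforwardContinuous AddCommGrpCat.{u} (J.over V) (J.over Y)) :=
    ((Over.map k).sheafAdjunctionCocontinuous AddCommGrpCat.{u} (J.over V) (J.over Y)).leftAdjoint_preservesColimits
  have h4 : PreservesColimitsOfSize.{u, u}
      (SheafOfModules.toSheaf.{u} (R.over Y) ⋙
        (Over.map k).sheafPushforwardContinuous AddCommGrpCat.{u} (J.over V) (J.over Y)) :=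
    comp_preservesColimits _ _
  have h5 : PreservesColimitsOfSize.{u, u} (SheafOfModules.overMap.{u} R k ⋙ SheafOfModules.toSheaf.{u} (R.over V)) := h4
  have := SiteBase.preservesColimitsOfSize_toSheaf (J := J.over V) (R.over V)
  have : ReflectsColimitsOfSize.{u, u} (SheafOfModules.toSheaf.{u} (R.over V)) :=
    reflectsColimits_of_reflectsIsomorphisms
  exact preservesColimits_of_reflects_of_preserves _ (SheafOfModules.toSheaf.{u} (R.over V))

lemma sum_smul_sum_eq_zero {A : Type*} [Ring A] {M : Type*} [AddCommGroup M] [Module A M]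
    {α β : Type*} [Fintype α] [Fintype β] (x : α → A) (y : α → β → A) (v : β → M)
    (h : ∀ i, ∑ j, x j * y j i = 0) : ∑ j, x j • ∑ i, y j i • v i = 0 := by
  simp only [Finset.smul_sum, smul_smul]
  rw [Finset.sum_comm]
  exact Finset.sum_eq_zero fun i _ => by rw [← Finset.sum_smul, h i, zero_smul]

end Ring

variable {O : Sheaf J CommRingCat.{u}}

/-- Factorisation of a restriction through a finite free module. -/
def Factors {F H : ModSite.Mod O} (φ : F ⟶ H) (V : C) : Prop :=
  ∃ (n : ℕ) (a : (ModSite.restr O V).obj F ⟶ SheafOfModules.free (ULift.{u} (Fin n)))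
    (b : SheafOfModules.free (ULift.{u} (Fin n)) ⟶ (ModSite.restr O V).obj H),
    a ≫ b = (ModSite.restr O V).map φ

theorem locally_factors {F H : ModSite.Mod O} (hH : ModSite.IsFlat H) (φ : F ⟶ H) {Y : C}
    (P : (F.over Y).Presentation) [P.IsFinite] :
    ModPull.Locally J Y (fun V _ => Factors φ V) := by
  classical
  let R := ModSite.ringSh O
  have hκ : Finite P.generators.I := GeneratingSections.IsFiniteType.finite
  have hι : Finite P.relations.I := GeneratingSections.IsFiniteType.finite
  let κ := P.generators.I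
  let ι := P.relations.I
  have : Fintype κ := Fintype.ofFinite _
  have : Fintype ι := Fintype.ofFinite _
  let π : free (R := R.over Y) κ ⟶ F.over Y := P.generators.π
  let ρ : free (R := R.over Y) ι ⟶ free κ := (freeHomEquiv _).symm P.relations.s ≫ kernel.ι _
  have hρ : ρ ≫ π = 0 := by simp [ρ, π]
  have hc : IsColimit (CokernelCofork.ofπ π hρ) := P.isColimit
  let top : Over Y := Over.mk (𝟙 Y)
  let σ : κ → (unit (R.over Y) ⟶ H.over Y) := fun j => ιFree j ≫ π ≫ φ.over Y
  let s : κ → ((fg O).obj H).obj (op Y) := fun j => ev (σ j) top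
  let m : ι → κ → (unit (R.over Y) ⟶ unit (R.over Y)) := fun q j => ιFree q ≫ ρ ≫ pr j
  let r : ι → κ → O.obj.obj (op Y) := fun q j => ev (m q j) top
  have hrel : ∀ q, ∑ j, r q j • s j = 0 := fun q => by
    have h0 : ∑ j, m q j ≫ σ j = 0 := by
      have : ∀ j, m q j ≫ σ j = (ιFree q ≫ ρ) ≫ (pr j ≫ ιFree j) ≫ π ≫ φ.over Y := fun j => by
        simp [m, σ]
      rw [Finset.sum_congr rfl fun j _ => this j, ← Preadditive.comp_sum, ← Preadditive.sum_comp, sum_pr,
        Category.id_comp, Category.assoc, reassoc_of% hρ, zero_comp, comp_zero]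
    refine Eq.trans (Finset.sum_congr rfl fun j _ => ?_)
      ((map_sum (evHom top) (fun j => m q j ≫ σ j) Finset.univ).symm.trans ((congrArg (evHom top) h0).trans (map_zero _)))
    exact (app_eq_smul (σ j) top (r q j)).symm
  let eκ := Fintype.equivFin κ
  let eι := Fintype.equivFin ι
  refine ((SiteBase.relTrivial_of_isFlat hH).forall_rel (Fintype.card ι) Y (Fintype.card κ)
    (fun q j => r (eι.symm q) (eκ.symm j)) (fun j => s (eκ.symm j)) fun q => ?_).mono
    fun V k ⟨l, t, A, ht, hA⟩ => ?_
  · exact (eκ.symm.sum_comp fun j => r (eι.symm q) j • s j).trans (hrel _)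
  let G := SheafOfModules.overMap.{u} R k
  have : PreservesColimitsOfSize.{u, u} G := preservesColimits_overMap R k
  have : PreservesColimitsOfSize.{0, 0} G := preservesColimitsOfSize_shrink _
  have : G.Additive := ⟨fun {_ _ f g} => rfl⟩
  let topV : Over V := Over.mk (𝟙 V)
  let eU : G.obj (unit (R.over Y)) ≅ unit (R.over V) := overMapUnitIso k
  let L := ULift.{u} (Fin l)
  let cv : κ → (free (R := R.over V) L).val.obj (op topV) := fun j =>
    ∑ i : L, (show (R.over V).obj.obj (op topV) from A (eκ j) i.down) • ev (ιFree i) topV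
  let c : κ → (G.obj (unit (R.over Y)) ⟶ free (R := R.over V) L) := fun j => eU.hom ≫ ofTop (cv j)
  let a₀ : G.obj (free κ) ⟶ free (R := R.over V) L := ∑ j, G.map (pr j) ≫ c j
  have extU : ∀ {M : SheafOfModules.{u} (R.over V)} {α β : G.obj (unit (R.over Y)) ⟶ M},
      ev (eU.inv ≫ α) topV = ev (eU.inv ≫ β) topV → α = β := fun h =>
    (cancel_epi eU.inv).1 (ev_ext h)
  have ha₀ : G.map ρ ≫ a₀ = 0 := by
    refine (isColimitOfPreserves G (isColimitFreeCofan ι)).hom_ext fun ⟨q⟩ => ?_
    refine (extU ?_ : G.map (ιFree q) ≫ G.map ρ ≫ a₀ = G.map (ιFree q) ≫ 0)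
    have h1 : G.map (ιFree q) ≫ G.map ρ ≫ a₀ = ∑ j, G.map (m q j) ≫ c j := by
      simp [a₀, m, Preadditive.comp_sum]
    rw [h1, comp_zero, comp_zero, Preadditive.comp_sum]
    refine (map_sum (evHom topV) (fun j => eU.inv ≫ G.map (m q j) ≫ c j) Finset.univ).trans ?_
    have hr : ∀ j, ev (eU.inv ≫ G.map (m q j) ≫ c j) topV =
        (show (R.over V).obj.obj (op topV) from (O.obj.map k.op).hom (r q j)) • cv j := fun j => by
      have hk : ev (m q j) (Over.mk (𝟙 V ≫ k)) =
          (show (R.over Y).obj.obj (op (Over.mk (𝟙 V ≫ k))) from (O.obj.map k.op).hom (r q j)) := by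
        refine (ev_eq_map (m q j) _).trans ?_
        exact congrArg (fun f => (O.obj.map f).hom (r q j)) (congrArg Quiver.Hom.op (Category.id_comp k))
      refine (congrArg (fun x => (ofTop (cv j)).val.app (op topV) x) hk).trans ?_
      refine (app_eq_smul _ topV _).trans ?_
      rw [ev_ofTop]
    refine ((Finset.sum_congr rfl fun j _ => hr j).trans ?_).trans (map_zero (evHom (M := free L) topV)).symm
    refine sum_smul_sum_eq_zero (M := (free (R := R.over V) L).val.obj (op topV))
      (fun j => (show (R.over V).obj.obj (op topV) from (O.obj.map k.op).hom (r q j)))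
      (fun j (i : L) => (show (R.over V).obj.obj (op topV) from A (eκ j) i.down)) (fun i : L => ev (M := free (R := R.over V) L) (ιFree i) topV)
      fun i => ?_
    have := hA (eι q) i.down
    simp only [Equiv.symm_apply_apply] at this
    refine Eq.trans ?_ this
    refine Eq.trans (Finset.sum_congr rfl fun j _ => ?_)
      (eκ.sum_comp fun j' => A j' i.down * (O.obj.map k.op).hom (r q (eκ.symm j')))
    simp only [Equiv.symm_apply_apply]
    exact mul_comm (G := O.obj.obj (op V)) _ _
  have hG : IsColimit ((CokernelCofork.ofπ π hρ).map G) := CokernelCofork.mapIsColimit _ hc G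
  obtain ⟨a', ha'⟩ := CokernelCofork.IsColimit.desc' hG a₀ ha₀
  let eF := (overFunctorMap.{u} R k).app F
  let eH := (overFunctorMap.{u} R k).app H
  let b : free (R := R.over V) L ⟶ H.over V :=
    Cofan.IsColimit.desc (isColimitFreeCofan L) fun i => ofTop (t i.down)
  refine ⟨l, eF.inv ≫ a', b, ?_⟩
  show (eF.inv ≫ a') ≫ b = φ.over V
  refine (Category.assoc _ _ _).trans ((Iso.inv_comp_eq eF).2 ?_)
  have hnat : G.map (φ.over Y) ≫ eH.hom = eF.hom ≫ φ.over V := (overFunctorMap.{u} R k).hom.naturality φ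
  rw [← hnat]
  have := hG
  refine Cofork.IsColimit.hom_ext hG ?_
  refine ((Category.assoc _ _ _).symm.trans (congrArg (· ≫ b) ha')).trans ?_
  show a₀ ≫ b = G.map π ≫ G.map (φ.over Y) ≫ eH.hom
  refine (isColimitOfPreserves G (isColimitFreeCofan κ)).hom_ext fun ⟨j⟩ => ?_
  show G.map (ιFree j) ≫ _ = G.map (ιFree j) ≫ _
  have h2 : G.map (ιFree j) ≫ a₀ = c j := by
    rw [Preadditive.comp_sum, Finset.sum_eq_single j (fun i _ hi => by
      rw [← Category.assoc, ← G.map_comp, ιFree_pr_ne (Ne.symm hi), G.map_zero, zero_comp])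
      (fun h => absurd (Finset.mem_univ j) h), ← Category.assoc, ← G.map_comp, ιFree_pr_self, G.map_id,
      Category.id_comp]
  rw [← Category.assoc, h2, ← G.map_comp_assoc, ← G.map_comp_assoc]
  refine extU ?_
  have hs : ev (σ j) (Over.mk (𝟙 V ≫ k)) = rs ((fg O).obj H) k.op (s j) := by
    refine (ev_eq_map (σ j) _).trans ?_
    exact congrArg (fun f => rs ((fg O).obj H) f (s j)) (congrArg Quiver.Hom.op (Category.id_comp k))
  have ht' : rs ((fg O).obj H) k.op (s j) = ∑ i, A (eκ j) i • t i := by
    simpa only [Equiv.symm_apply_apply] using ht (eκ j)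
  refine Eq.trans ?_ (hs.trans ht').symm
  refine (?_ : _ = b.val.app (op topV) (cv j)).trans ?_
  · exact congrArg (fun x => b.val.app (op topV) x) (ev_ofTop (cv j))
  simp only [cv]
  rw [map_sum]
  refine Eq.trans (Finset.sum_congr rfl fun i _ => ?_) (Equiv.ulift.sum_comp fun i => A (eκ j) i • t i)
  refine (map_smul (b.val.app (op topV)).hom _ _).trans ?_
  refine congrArg (fun x : ((fg O).obj H).obj (op V) => A (eκ j) i.down • x) ?_
  refine ((ev_comp (ιFree i) b topV).symm.trans ?_).trans (ev_ofTop (M := H.over V) (t i.down))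
  exact congrArg (fun α => ev α topV) (Cofan.IsColimit.fac (isColimitFreeCofan L) _ i)

/-- A finite presentation over an object restricts along a morphism into it. -/
theorem exists_presentation {F : ModSite.Mod O} {X Y : C} (g : Y ⟶ X) (P : (F.over X).Presentation) [P.IsFinite] :
    ∃ Q : (F.over Y).Presentation, Q.IsFinite := by
  let G := SheafOfModules.overMap.{u} (ModSite.ringSh O) g
  have : PreservesColimitsOfSize.{u, u} G := preservesColimits_overMap _ g
  let Q := P.map G (overMapUnitIso g).symm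
  have : Q.IsFinite :=
    { isFiniteType_generators := ⟨GeneratingSections.IsFiniteType.finite (σ := P.generators)⟩
      isFiniteType_relations := ⟨GeneratingSections.IsFiniteType.finite (σ := P.relations)⟩ }
  exact ⟨Q.ofIsIso ((overFunctorMap.{u} (ModSite.ringSh O) g).app F).hom, inferInstance⟩

/-- Maps from finitely presented modules to flat modules factor locally through finite free modules. -/
theorem exists_cover {F H : ModSite.Mod O} [F.IsFinitePresentation] (hH : ModSite.IsFlat H) (φ : F ⟶ H) (X : C) :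
    ∃ (ι : Type u) (Y : ι → C) (g : ∀ i, Y i ⟶ X), Sieve.ofArrows Y g ∈ J X ∧ ∀ i, Factors φ (Y i) := by
  obtain ⟨σ, hσ⟩ := SheafOfModules.IsFinitePresentation.exists_quasicoherentData F
  have h : ModPull.Locally J X (fun V _ => Factors φ V) := by
    have h0 : ModPull.Locally J X (fun V f => Sieve.ofObjects σ.X X f) :=
      ⟨_, σ.coversTop X, fun V f hf => hf⟩
    refine ModPull.Locally.bind h0 fun V f hf => ?_
    obtain ⟨i, ⟨v⟩⟩ := hf
    obtain ⟨Q, hQ⟩ := exists_presentation v (σ.presentation i)
    exact locally_factors hH φ Q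
  obtain ⟨S, hS, hP⟩ := h
  refine ⟨Σ V : C, { f : V ⟶ X // S f }, fun i => i.1, fun i => i.2.1, J.superset_covering ?_ hS,
    fun i => hP i.2.1 i.2.2⟩
  intro V f hf
  exact Sieve.ofArrows_mk _ _ (⟨V, f, hf⟩ : Σ V : C, { f : V ⟶ X // S f })

end Groth.Agent.DSites.LocalFree
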