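import Groth.Prelude.Def_SpSeq
import Mathlib.CategoryTheory.Abelian.Refinements
import Mathlib.CategoryTheory.Limits.Shapes.Pullback.IsPullback.Basic

/-!
# Pullbacks and pushouts of filtered objects, and strictness
-/

set_option autoImplicit false

universe v u

open CategoryTheory CategoryTheory.Limits CategoryTheory.Category

noncomputable section

namespace Groth.Agent.DSites.FilLim

variable {A : Type u} [Category.{v} A] [Abelian A]

lemma le_of_factors {X : A} {S S' : Subobject X} (h : S'.Factors S.arrow) : S ≤ S' :=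
  Subobject.le_of_comm (S'.factorThru _ h) (Subobject.factorThru_arrow _ _ h)

lemma factors_of_epi_comp {X T T' : A} {S : Subobject X} (π : T' ⟶ T) [Epi π] (x : T ⟶ X)
    (h : S.Factors (π ≫ x)) : S.Factors x := by
  have hx : x ≫ cokernel.π S.arrow = 0 := by
    rw [← cancel_epi π, comp_zero, ← assoc, ← Subobject.factorThru_arrow S _ h, assoc,
      cokernel.condition, comp_zero]
  rw [← Abelian.monoLift_comp S.arrow x hx]
  exact Subobject.factors_comp_arrow _

lemma factors_image {X B T : A} (h : B ⟶ X) (y : T ⟶ B) :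
    (imageSubobject h).Factors (y ≫ h) := by
  have : (imageSubobject h).Factors
      ((y ≫ factorThruImageSubobject h) ≫ (imageSubobject h).arrow) :=
    Subobject.factors_comp_arrow _
  rwa [assoc, imageSubobject_arrow_comp] at this

lemma exists_of_image_factors {X B T : A} (h : B ⟶ X) (x : T ⟶ X)
    (hx : (imageSubobject h).Factors x) :
    ∃ (T' : A) (π : T' ⟶ T) (_ : Epi π) (y : T' ⟶ B), π ≫ x = y ≫ h := by
  haveI : Epi (factorThruImageSubobject h) := by
    unfold factorThruImageSubobject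
    exact epi_comp _ _
  obtain ⟨T', π, hπ, y, hy⟩ := surjective_up_to_refinements_of_epi (factorThruImageSubobject h)
    ((imageSubobject h).factorThru x hx)
  refine ⟨T', π, hπ, y, ?_⟩
  have := congrArg (· ≫ (imageSubobject h).arrow) hy
  simpa only [assoc, Subobject.factorThru_arrow, imageSubobject_arrow_comp] using this

lemma image_le {X B : A} (h : B ⟶ X) {S : Subobject X} (H : S.Factors h) : imageSubobject h ≤ S :=
  imageSubobject_le h (S.factorThru h H) (S.factorThru_arrow h H)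

lemma hom_factors {K L : SpSeq.FilObj A} (f : K ⟶ L) {p : ℤ} {T : A} {x : T ⟶ K.obj}
    (hx : (K.fil p).Factors x) : (L.fil p).Factors (x ≫ f.hom) :=
  (Limits.pullback_factors_iff f.hom (L.fil p) x).1 (Subobject.factors_of_le _ (f.compat p) hx)

/-- A morphism of filtered objects from a factorization condition. -/
def homMk {K L : SpSeq.FilObj A} (h : K.obj ⟶ L.obj)
    (hh : ∀ p, (L.fil p).Factors ((K.fil p).arrow ≫ h)) : K ⟶ L :=
  ⟨h, fun p => le_of_factors ((Limits.pullback_factors_iff h (L.fil p) _).2 (hh p))⟩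

@[simp]
lemma homMk_hom {K L : SpSeq.FilObj A} (h : K.obj ⟶ L.obj)
    (hh : ∀ p, (L.fil p).Factors ((K.fil p).arrow ≫ h)) : (homMk h hh).hom = h := rfl

lemma isStrict_of {K L : SpSeq.FilObj A} (f : K ⟶ L)
    (H : ∀ (p : ℤ) (T : A) (x : T ⟶ L.obj), (L.fil p).Factors x →
      (imageSubobject f.hom).Factors x → (imageSubobject ((K.fil p).arrow ≫ f.hom)).Factors x) :
    SpSeq.FilObj.IsStrict f := fun p =>
  le_antisymm
    (image_le _ ((Subobject.inf_factors _).2
      ⟨factors_image _ _, hom_factors f (Subobject.factors_self _)⟩))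
    (le_of_factors (H p _ _ (Subobject.inf_arrow_factors_right _ _)
      (Subobject.inf_arrow_factors_left _ _)))

lemma exists_of_isStrict {K L : SpSeq.FilObj A} {f : K ⟶ L} (hf : SpSeq.FilObj.IsStrict f)
    {p : ℤ} {T B : A} (x : T ⟶ L.obj) (hx : (L.fil p).Factors x) (y : T ⟶ B) (h : B ⟶ L.obj)
    (hy : x = y ≫ h) (z : B ⟶ K.obj) (hz : h = z ≫ f.hom) :
    ∃ (T' : A) (π : T' ⟶ T) (_ : Epi π) (k : T' ⟶ K.obj),
      (K.fil p).Factors k ∧ π ≫ x = k ≫ f.hom := by
  have h₁ : (imageSubobject f.hom).Factors x := by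
    rw [hy, hz, ← assoc]
    exact factors_image _ _
  have h₂ : (imageSubobject ((K.fil p).arrow ≫ f.hom)).Factors x := by
    rw [hf p]
    exact (Subobject.inf_factors _).2 ⟨h₁, hx⟩
  obtain ⟨T', π, hπ, k, hk⟩ := exists_of_image_factors _ _ h₂
  exact ⟨T', π, hπ, k ≫ (K.fil p).arrow, Subobject.factors_comp_arrow _, by rw [hk, assoc]⟩

section Pullback

variable {K L M : SpSeq.FilObj A} (f : L ⟶ K) (g : M ⟶ K)

/-- The filtered fibre product. -/
def pb : SpSeq.FilObj A where
  obj := pullback f.hom g.hom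
  fil p := (Subobject.pullback (pullback.fst f.hom g.hom)).obj (L.fil p) ⊓
    (Subobject.pullback (pullback.snd f.hom g.hom)).obj (M.fil p)
  anti _ _ h := inf_le_inf ((Subobject.pullback _).monotone (L.anti h))
    ((Subobject.pullback _).monotone (M.anti h))

theorem hasPullback : HasPullback f g := by
  let a : pb f g ⟶ L := homMk (pullback.fst f.hom g.hom) fun p =>
    (Limits.pullback_factors_iff _ _ _).1 (Subobject.inf_arrow_factors_left _ _)
  let b : pb f g ⟶ M := homMk (pullback.snd f.hom g.hom) fun p =>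
    (Limits.pullback_factors_iff _ _ _).1 (Subobject.inf_arrow_factors_right _ _)
  have w : a ≫ f = b ≫ g := SpSeq.FilObj.Hom.ext pullback.condition
  refine ⟨⟨⟨PullbackCone.mk a b w, ?_⟩⟩⟩
  refine PullbackCone.IsLimit.mk w
    (fun s => homMk (pullback.lift s.fst.hom s.snd.hom
      (congrArg SpSeq.FilObj.Hom.hom s.condition)) fun p => ?_)
    (fun s => SpSeq.FilObj.Hom.ext (pullback.lift_fst _ _ _))
    (fun s => SpSeq.FilObj.Hom.ext (pullback.lift_snd _ _ _))
    (fun s m h₁ h₂ => SpSeq.FilObj.Hom.ext (pullback.hom_ext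
      ((congrArg SpSeq.FilObj.Hom.hom h₁).trans (pullback.lift_fst _ _ _).symm)
      ((congrArg SpSeq.FilObj.Hom.hom h₂).trans (pullback.lift_snd _ _ _).symm)))
  refine (Subobject.inf_factors _).2
    ⟨(Limits.pullback_factors_iff _ _ _).2 ?_, (Limits.pullback_factors_iff _ _ _).2 ?_⟩
  · exact Eq.mpr (congrArg (L.fil p).Factors ((assoc _ _ _).trans
      (congrArg (fun z => (s.pt.fil p).arrow ≫ z) (pullback.lift_fst s.fst.hom s.snd.hom
        (congrArg SpSeq.FilObj.Hom.hom s.condition))))) (hom_factors s.fst (Subobject.factors_self _))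
  · exact Eq.mpr (congrArg (M.fil p).Factors ((assoc _ _ _).trans
      (congrArg (fun z => (s.pt.fil p).arrow ≫ z) (pullback.lift_snd s.fst.hom s.snd.hom
        (congrArg SpSeq.FilObj.Hom.hom s.condition))))) (hom_factors s.snd (Subobject.factors_self _))

/-- An object concentrated in degrees at most `p`. -/
def upTo (T : A) (p : ℤ) : SpSeq.FilObj A where
  obj := T
  fil q := if q ≤ p then ⊤ else ⊥
  anti q q' h := by
    by_cases h' : q' ≤ p
    · simp [h', le_trans h h']
    · simp [h']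

/-- A morphism out of `upTo`. -/
def upToHom {T : A} {p : ℤ} {K : SpSeq.FilObj A} (x : T ⟶ K.obj) (hx : (K.fil p).Factors x) :
    upTo T p ⟶ K :=
  homMk (K := upTo T p) x fun q => by
    by_cases h : q ≤ p
    · exact Subobject.factors_of_le _ (K.anti h) (Subobject.factors_of_factors_right _ hx)
    · have h0 : ((upTo T p).fil q).arrow = 0 := by
        rw [← Subobject.mk_eq_bot_iff_zero (f := ((upTo T p).fil q).arrow), Subobject.mk_arrow]
        exact if_neg h
      rw [h0]
      exact (zero_comp : (0 : _ ⟶ (upTo T p).obj) ≫ (x : (upTo T p).obj ⟶ K.obj) = 0) ▸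
        Subobject.factors_zero

theorem isStrict_of_isPullback {P : SpSeq.FilObj A} (g' : P ⟶ L) (f' : P ⟶ M)
    (h : IsPullback g' f' f g) (hf : SpSeq.FilObj.IsStrict f) : SpSeq.FilObj.IsStrict f' := by
  refine isStrict_of f' fun p T x hx hx' => ?_
  obtain ⟨T₁, π₁, hπ₁, y, hy⟩ := exists_of_image_factors _ _ hx'
  have hw : g'.hom ≫ f.hom = f'.hom ≫ g.hom := congrArg SpSeq.FilObj.Hom.hom h.w
  obtain ⟨T₂, π₂, hπ₂, l, hl, hl'⟩ := exists_of_isStrict hf (π₁ ≫ x ≫ g.hom)
    (hom_factors g (x := π₁ ≫ x) (Subobject.factors_of_factors_right _ hx) |> fun z => by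
      simpa using z)
    y (g'.hom ≫ f.hom) (by rw [hw, ← assoc, hy, assoc]) g'.hom rfl
  have hm : (M.fil p).Factors (π₂ ≫ π₁ ≫ x) :=
    Subobject.factors_of_factors_right _ (Subobject.factors_of_factors_right _ hx)
  have e : upToHom l hl ≫ f = upToHom (π₂ ≫ π₁ ≫ x) hm ≫ g := SpSeq.FilObj.Hom.ext (by
    show l ≫ f.hom = (π₂ ≫ π₁ ≫ x) ≫ g.hom
    rw [← hl']
    simp)
  let z := h.lift _ _ e
  have hz : z.hom ≫ f'.hom = π₂ ≫ π₁ ≫ x :=
    congrArg SpSeq.FilObj.Hom.hom (h.lift_snd _ _ e)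
  have hzp : (P.fil p).Factors z.hom := by
    have : ((upTo T₂ p).fil p).Factors (𝟙 T₂) := by
      simp only [upTo, le_refl, if_true]
      exact Subobject.top_factors _
    have h₂ := hom_factors z this
    exact (id_comp (X := (upTo T₂ p).obj) z.hom) ▸ h₂
  refine factors_of_epi_comp (π₂ ≫ π₁) x ?_
  have hz' : (π₂ ≫ π₁) ≫ x =
      (P.fil p).factorThru z.hom hzp ≫ (P.fil p).arrow ≫ f'.hom := by
    rw [← assoc ((P.fil p).factorThru z.hom hzp), Subobject.factorThru_arrow, hz, assoc]
  rw [hz']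
  exact factors_image _ _

end Pullback

section Pushout

variable {K L M : SpSeq.FilObj A} (f : K ⟶ L) (g : K ⟶ M)

/-- The sum of the images of the steps. -/
abbrev sumMap {X : A} (a : L.obj ⟶ X) (b : M.obj ⟶ X) (p : ℤ) : L.step p ⊞ M.step p ⟶ X :=
  biprod.desc ((L.fil p).arrow ≫ a) ((M.fil p).arrow ≫ b)

/-- The filtration by sums of images. -/
def sumObj {X : A} (a : L.obj ⟶ X) (b : M.obj ⟶ X) : SpSeq.FilObj A where
  obj := X
  fil p := imageSubobject (sumMap a b p)
  anti p q h := image_le _ (by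
    have : sumMap a b q = biprod.map (L.stepLE h) (M.stepLE h) ≫ sumMap a b p := by
      apply biprod.hom_ext' <;> simp [sumMap]
    rw [this]
    exact factors_image _ _)

/-- The first map into `sumObj`. -/
def sumInl {X : A} (a : L.obj ⟶ X) (b : M.obj ⟶ X) : L ⟶ sumObj a b :=
  homMk (L := sumObj a b) a fun p => by
    have := factors_image (sumMap a b p) biprod.inl
    rwa [biprod.inl_desc] at this

/-- The second map into `sumObj`. -/
def sumInr {X : A} (a : L.obj ⟶ X) (b : M.obj ⟶ X) : M ⟶ sumObj a b :=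
  homMk (L := sumObj a b) b fun p => by
    have := factors_image (sumMap a b p) biprod.inr
    rwa [biprod.inr_desc] at this

lemma sum_factors {X : A} (a : L.obj ⟶ X) (b : M.obj ⟶ X) {N : SpSeq.FilObj A} (h : X ⟶ N.obj)
    (u : L ⟶ N) (v : M ⟶ N) (hu : a ≫ h = u.hom) (hv : b ≫ h = v.hom) (p : ℤ) :
    (N.fil p).Factors ((imageSubobject (sumMap a b p)).arrow ≫ h) := by
  have hl := hom_factors u (Subobject.factors_self (L.fil p))
  have hm := hom_factors v (Subobject.factors_self (M.fil p))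
  have hs : (N.fil p).Factors (sumMap a b p ≫ h) := by
    have e : sumMap a b p ≫ h = biprod.desc ((N.fil p).factorThru _ hl)
        ((N.fil p).factorThru _ hm) ≫ (N.fil p).arrow := by
      apply biprod.hom_ext' <;> simp [sumMap, hu, hv]
    rw [e]
    exact Subobject.factors_comp_arrow _
  haveI : Epi (factorThruImageSubobject (sumMap a b p)) := by
    unfold factorThruImageSubobject
    exact epi_comp _ _
  refine factors_of_epi_comp (factorThruImageSubobject (sumMap a b p)) _ ?_
  rwa [← assoc, imageSubobject_arrow_comp]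

theorem hasPushout : HasPushout f g := by
  let a := pushout.inl f.hom g.hom
  let b := pushout.inr f.hom g.hom
  have w : f ≫ sumInl a b = g ≫ sumInr a b := SpSeq.FilObj.Hom.ext pushout.condition
  refine ⟨⟨⟨PushoutCocone.mk _ _ w, ?_⟩⟩⟩
  exact PushoutCocone.IsColimit.mk w
    (fun s => homMk (pushout.desc s.inl.hom s.inr.hom
      (congrArg SpSeq.FilObj.Hom.hom s.condition)) (sum_factors a b _ s.inl s.inr
        (pushout.inl_desc _ _ _) (pushout.inr_desc _ _ _)))
    (fun s => SpSeq.FilObj.Hom.ext (pushout.inl_desc _ _ _))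
    (fun s => SpSeq.FilObj.Hom.ext (pushout.inr_desc _ _ _))
    (fun s m h₁ h₂ => SpSeq.FilObj.Hom.ext (pushout.hom_ext
      ((congrArg SpSeq.FilObj.Hom.hom h₁).trans (pushout.inl_desc _ _ _).symm)
      ((congrArg SpSeq.FilObj.Hom.hom h₂).trans (pushout.inr_desc _ _ _).symm)))

theorem isStrict_of_isPushout {P : SpSeq.FilObj A} (g' : L ⟶ P) (f' : M ⟶ P)
    (h : IsPushout f g g' f') (hf : SpSeq.FilObj.IsStrict f) : SpSeq.FilObj.IsStrict f' := by
  have hw : f.hom ≫ g'.hom = g.hom ≫ f'.hom := congrArg SpSeq.FilObj.Hom.hom h.w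
  -- the filtration of `P` is the sum of the images
  have hP : ∀ p, P.fil p ≤ imageSubobject (sumMap g'.hom f'.hom p) := fun p => by
    have w' : f ≫ sumInl g'.hom f'.hom = g ≫ sumInr g'.hom f'.hom :=
      SpSeq.FilObj.Hom.ext hw
    let r := h.desc _ _ w'
    let back : sumObj g'.hom f'.hom ⟶ P :=
      homMk (𝟙 P.obj) (sum_factors g'.hom f'.hom _ g' f' (comp_id _) (comp_id _))
    have hr : r ≫ back = 𝟙 P := h.hom_ext
      (by rw [← assoc, h.inl_desc, comp_id]; exact SpSeq.FilObj.Hom.ext (comp_id _))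
      (by rw [← assoc, h.inr_desc, comp_id]; exact SpSeq.FilObj.Hom.ext (comp_id _))
    have hr' : r.hom = 𝟙 P.obj := (comp_id _).symm.trans (congrArg SpSeq.FilObj.Hom.hom hr)
    have := hom_factors r (Subobject.factors_self (P.fil p))
    rw [hr'] at this
    exact le_of_factors ((comp_id (P.fil p).arrow) ▸ this)
  -- preimages of `g'` landing in the image of `f'` lie in the image of `f`
  have hker : ∀ (T : A) (l : T ⟶ L.obj) (m : T ⟶ M.obj), l ≫ g'.hom = m ≫ f'.hom →
      l ≫ cokernel.π f.hom = 0 := fun T l m e => by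
    let Q : SpSeq.FilObj A := ⟨cokernel f.hom, fun _ => ⊤, fun _ _ _ => le_rfl⟩
    let qL : L ⟶ Q := homMk (L := Q) (cokernel.π f.hom) fun _ => Subobject.top_factors _
    let qM : M ⟶ Q := homMk (L := Q) 0 fun _ => Subobject.top_factors _
    have w' : f ≫ qL = g ≫ qM :=
      SpSeq.FilObj.Hom.ext ((cokernel.condition f.hom).trans comp_zero.symm)
    let r := h.desc _ _ w'
    have h₁ : g'.hom ≫ r.hom = cokernel.π f.hom :=
      congrArg SpSeq.FilObj.Hom.hom (h.inl_desc _ _ w')
    have h₂ : f'.hom ≫ r.hom = 0 := congrArg SpSeq.FilObj.Hom.hom (h.inr_desc _ _ w')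
    rw [← h₁, ← assoc, e, assoc, h₂, comp_zero]
  refine isStrict_of f' fun p T x hx hx' => ?_
  obtain ⟨T₁, π₁, hπ₁, m, hm⟩ := exists_of_image_factors _ _ hx'
  obtain ⟨T₂, π₂, hπ₂, s, hs⟩ := exists_of_image_factors _ (π₁ ≫ x)
    (Subobject.factors_of_factors_right _ (Subobject.factors_of_le _ (hP p) hx))
  let l := s ≫ biprod.fst ≫ (L.fil p).arrow
  let m' := s ≫ biprod.snd ≫ (M.fil p).arrow
  have e : π₂ ≫ π₁ ≫ x = l ≫ g'.hom + m' ≫ f'.hom := by
    rw [hs]
    simp only [l, m', assoc, ← Preadditive.comp_add]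
    congr 1
    apply biprod.hom_ext' <;> simp [sumMap]
  have hl0 : l ≫ cokernel.π f.hom = 0 := hker _ l (π₂ ≫ m - m') (by
    rw [Preadditive.sub_comp, assoc π₂, ← hm, e, add_sub_cancel_right])
  have hex : (ShortComplex.mk f.hom (cokernel.π f.hom) (cokernel.condition _)).Exact :=
    ShortComplex.exact_cokernel _
  obtain ⟨T₃, π₃, hπ₃, k₀, hk₀⟩ := hex.exact_up_to_refinements l hl0
  obtain ⟨T₄, π₄, hπ₄, k, hk, hk'⟩ := exists_of_isStrict hf (π₃ ≫ l)
    (Subobject.factors_of_factors_right _ (by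
      show (L.fil p).Factors (s ≫ biprod.fst ≫ (L.fil p).arrow)
      rw [← assoc]
      exact Subobject.factors_comp_arrow _)) k₀ f.hom hk₀ (𝟙 _) (id_comp _).symm
  refine factors_of_epi_comp (π₄ ≫ π₃ ≫ π₂ ≫ π₁) x ?_
  have hk₁ := hom_factors g hk
  have e' : (π₄ ≫ π₃ ≫ π₂ ≫ π₁) ≫ x = ((M.fil p).factorThru _ hk₁ +
      (π₄ ≫ π₃ ≫ s) ≫ biprod.snd) ≫ (M.fil p).arrow ≫ f'.hom := by
    rw [Preadditive.add_comp, ← assoc _ (M.fil p).arrow, Subobject.factorThru_arrow, assoc k,
      ← hw, ← assoc k, ← hk']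
    simp only [assoc, e, Preadditive.comp_add, l, m']
  rw [e']
  exact factors_image _ _

end Pushout

end Groth.Agent.DSites.FilLim
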