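import Mathlib.Algebra.Homology.HomologicalComplexLimits
import Mathlib.Algebra.Homology.HomologicalComplexAbelian
import Mathlib.Algebra.Homology.HomotopyCategory.ShortExact

/-!
# Inverse systems over `ℤ` as subcomplexes of one complex

The telescope of a system `I (k + 1) ⟶ I k` together with its steps, as mapping cones.
-/

set_option autoImplicit false
set_option maxHeartbeats 1000000

universe v u

open CategoryTheory CategoryTheory.Limits CategoryTheory.Category CochainComplex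
open CochainComplex.HomComplex

namespace Groth.Agent.DSites.FilRep

variable {A : Type u} [Category.{v} A] [Abelian A] [HasColimitsOfSize.{0, 0} A]
variable (I : ℤ → CochainComplex A ℤ) (f : ∀ k, I (k + 1) ⟶ I k)

section Fam

variable {T : CochainComplex A ℤ} {i : ℤ}

/-- A family of maps out of the terms above `i`, from a value at `i` and increments. -/
noncomputable def fam (base : I i ⟶ T) (e : ∀ k, i ≤ k → (I (k + 1) ⟶ T)) :
    ∀ j, i ≤ j → (I j ⟶ T) :=
  Int.leInduction base (fun k h r => e k h + f k ≫ r)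

variable (base : I i ⟶ T) (e : ∀ k, i ≤ k → (I (k + 1) ⟶ T))

lemma fam_base : fam I f base e i le_rfl = base := Int.leInduction_base _ _

lemma fam_succ (k : ℤ) (h : i ≤ k) (h' : i ≤ k + 1) :
    fam I f base e (k + 1) h' = e k h + f k ≫ fam I f base e k h :=
  Int.leInduction_add_one _ _ k h

end Fam

/-- The composite transition map. -/
noncomputable abbrev g {i : ℤ} (j : ℤ) (h : i ≤ j) : I j ⟶ I i :=
  fam I f (𝟙 (I i)) (fun _ _ => 0) j h

lemma g_succ {i : ℤ} (k : ℤ) (h : i ≤ k) (h' : i ≤ k + 1) :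
    g I f (k + 1) h' = f k ≫ g I f k h :=
  (fam_succ I f _ _ k h h').trans (zero_add _)

/-- The terms above `i`. -/
noncomputable abbrev Pt (i : ℤ) : CochainComplex A ℤ := ∐ fun j : {j : ℤ // i ≤ j} => I j.1

/-- The inclusion of a term. -/
noncomputable abbrev ι {i : ℤ} (j : ℤ) (h : i ≤ j) : I j ⟶ Pt I i :=
  Sigma.ι (fun j : {j : ℤ // i ≤ j} => I j.1) ⟨j, h⟩

/-- The terms strictly above `i`. -/
noncomputable abbrev Ps (i : ℤ) : CochainComplex A ℤ := ∐ fun k : {k : ℤ // i ≤ k} => I (k.1 + 1)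

/-- The inclusion of a term. -/
noncomputable abbrev ι' {i : ℤ} (k : ℤ) (h : i ≤ k) : I (k + 1) ⟶ Ps I i :=
  Sigma.ι (fun k : {k : ℤ // i ≤ k} => I (k.1 + 1)) ⟨k, h⟩

/-- The telescope map. -/
noncomputable def D (i : ℤ) : Ps I i ⟶ Pt I i :=
  Sigma.desc fun k => ι I (k.1 + 1) (k.2.trans (by omega)) - f k.1 ≫ ι I k.1 k.2

/-- The projection to the lowest term. -/
noncomputable def r (i : ℤ) : Pt I i ⟶ I i := Sigma.desc fun j => g I f j.1 j.2

lemma ι_r (i : ℤ) : ι I i le_rfl ≫ r I f i = 𝟙 (I i) :=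
  (Sigma.ι_desc _ _).trans (fam_base I f _ _)

lemma D_r (i : ℤ) : D I f i ≫ r I f i = 0 := by
  ext ⟨k, h⟩ : 1
  rw [D, Sigma.ι_desc_assoc, Preadditive.sub_comp, assoc, r, comp_zero]
  simp only [ι, Sigma.ι_desc]
  exact sub_eq_zero.2 (g_succ I f k h _)

/-- The retraction of the telescope map. -/
noncomputable def s (i : ℤ) : Pt I i ⟶ Ps I i :=
  Sigma.desc fun j => fam I f (0 : I i ⟶ Ps I i) (fun k h => ι' I k h) j.1 j.2

lemma D_s (i : ℤ) : D I f i ≫ s I f i = 𝟙 _ := by
  ext ⟨k, h⟩ : 1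
  rw [D, Sigma.ι_desc_assoc, Preadditive.sub_comp, assoc, s, comp_id]
  simp only [ι, Sigma.ι_desc]
  rw [fam_succ I f _ _ k h, add_sub_cancel_right]

lemma split_id (i : ℤ) : r I f i ≫ ι I i le_rfl + s I f i ≫ D I f i = 𝟙 _ := by
  ext ⟨j, h⟩ : 1
  rw [Preadditive.comp_add, r, s, Sigma.ι_desc_assoc, Sigma.ι_desc_assoc, comp_id]
  show g I f j h ≫ ι I i le_rfl +
    fam I f (0 : I i ⟶ Ps I i) (fun k h => ι' I k h) j h ≫ D I f i = ι I j h
  induction j, h using Int.leInduction with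
  | base =>
    have e : g I f i le_rfl = 𝟙 (I i) := fam_base I f _ _
    rw [e, fam_base, id_comp, zero_comp, add_zero]
  | succ k hk ih =>
    rw [g_succ I f k hk, fam_succ I f _ _ k hk, Preadditive.add_comp, assoc, assoc, D,
      Sigma.ι_desc, ← D]
    calc f k ≫ g I f k hk ≫ ι I i le_rfl +
          (ι I (k + 1) _ - f k ≫ ι I k hk +
            f k ≫ fam I f (0 : I i ⟶ Ps I i) (fun k h => ι' I k h) k hk ≫ D I f i)
        = (ι I (k + 1) _ - f k ≫ ι I k hk) + f k ≫ (g I f k hk ≫ ι I i le_rfl +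
            fam I f (0 : I i ⟶ Ps I i) (fun k h => ι' I k h) k hk ≫ D I f i) := by
          rw [Preadditive.comp_add]; abel
      _ = ι I (k + 1) _ := by rw [ih, sub_add_cancel]

/-- The split short complex. -/
noncomputable abbrev S (i : ℤ) : ShortComplex (CochainComplex A ℤ) :=
  ShortComplex.mk (D I f i) (r I f i) (D_r I f i)

/-- The splitting. -/
noncomputable def splitting (i : ℤ) : (S I f i).Splitting where
  r := s I f i
  s := ι I i le_rfl
  f_r := D_s I f i
  s_g := ι_r I f i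
  id := by rw [add_comm]; exact split_id I f i

/-- The step of the telescope. -/
noncomputable abbrev C (i : ℤ) : CochainComplex A ℤ := mappingCone (D I f i)

/-- The projection of a step to its lowest term. -/
noncomputable def π (i : ℤ) : C I f i ⟶ I i := mappingCone.descShortComplex (S I f i)

lemma quasiIso_π (i : ℤ) : QuasiIso (π I f i) :=
  mappingCone.quasiIso_descShortComplex (splitting I f i).shortExact

/-- The section of the projection. -/
noncomputable def σ (i : ℤ) : I i ⟶ C I f i := ι I i le_rfl ≫ mappingCone.inr _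

lemma σ_π (i : ℤ) : σ I f i ≫ π I f i = 𝟙 (I i) := by
  rw [σ, assoc, π]
  exact (congrArg (ι I i le_rfl ≫ ·)
    (mappingCone.inr_descShortComplex (S I f i))).trans (ι_r I f i)

/-- The transition map on terms. -/
noncomputable def u (i : ℤ) : Pt I (i + 1) ⟶ Pt I i :=
  Sigma.desc fun j => ι I j.1 (le_trans (by omega) j.2)

/-- The transition map on shifted terms. -/
noncomputable def u' (i : ℤ) : Ps I (i + 1) ⟶ Ps I i :=
  Sigma.desc fun k => ι' I k.1 (le_trans (by omega) k.2)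

lemma D_u (i : ℤ) : D I f (i + 1) ≫ u I i = u' I i ≫ D I f i := by
  ext ⟨k, h⟩ : 1
  rw [D, Sigma.ι_desc_assoc, u', Sigma.ι_desc_assoc, Preadditive.sub_comp, assoc, u, D]
  simp only [ι, ι', Sigma.ι_desc]

lemma u_r (i : ℤ) : u I i ≫ r I f i = r I f (i + 1) ≫ f i := by
  ext ⟨j, h⟩ : 1
  rw [u, r, r, Sigma.ι_desc_assoc, Sigma.ι_desc_assoc]
  simp only [ι, Sigma.ι_desc]
  induction j, h using Int.leInduction with
  | base =>
    have e₁ : g I f i le_rfl = 𝟙 (I i) := fam_base I f _ _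
    have e₂ : g I f (i + 1) le_rfl = 𝟙 (I (i + 1)) := fam_base I f _ _
    rw [g_succ I f i le_rfl, e₁, e₂, comp_id, id_comp]
  | succ k hk ih => rw [g_succ I f k (by omega), g_succ I f k hk, ih, assoc]

/-- The inclusion of consecutive steps. -/
noncomputable def inc (i : ℤ) : C I f (i + 1) ⟶ C I f i :=
  mappingCone.map _ _ (u' I i) (u I i) (D_u I f i)

lemma inc_π (i : ℤ) : inc I f i ≫ π I f i = π I f (i + 1) ≫ f i := by
  let φ : S I f (i + 1) ⟶ S I f i :=
    { τ₁ := u' I i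
      τ₂ := u I i
      τ₃ := f i
      comm₁₂ := (D_u I f i).symm
      comm₂₃ := u_r I f i }
  exact mappingCone.map_descShortComplex _ _ φ

/-- All the terms. -/
noncomputable abbrev Pa : CochainComplex A ℤ := ∐ fun j : ℤ => I j

/-- All the terms, shifted by one. -/
noncomputable abbrev Pb : CochainComplex A ℤ := ∐ fun k : ℤ => I (k + 1)

/-- The telescope map on all terms. -/
noncomputable def Dtot : Pb I ⟶ Pa I :=
  Sigma.desc fun k => Sigma.ι I (k + 1) - f k ≫ Sigma.ι I k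

/-- The inclusion of the terms above `i`. -/
noncomputable def v (i : ℤ) : Pt I i ⟶ Pa I := Sigma.desc fun j => Sigma.ι I j.1

/-- The inclusion of the shifted terms above `i`. -/
noncomputable def v' (i : ℤ) : Ps I i ⟶ Pb I :=
  Sigma.desc fun k => Sigma.ι (fun k : ℤ => I (k + 1)) k.1

lemma D_v (i : ℤ) : D I f i ≫ v I i = v' I i ≫ Dtot I f := by
  ext ⟨k, h⟩ : 1
  rw [D, Sigma.ι_desc_assoc, v', Sigma.ι_desc_assoc, Preadditive.sub_comp, assoc, v, Dtot]
  simp only [ι, Sigma.ι_desc]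

lemma u_v (i : ℤ) : u I i ≫ v I i = v I (i + 1) := by
  ext ⟨j, h⟩ : 1
  rw [u, v, v, Sigma.ι_desc_assoc]
  simp only [ι, Sigma.ι_desc]

lemma u'_v' (i : ℤ) : u' I i ≫ v' I i = v' I (i + 1) := by
  ext ⟨j, h⟩ : 1
  rw [u', v', v', Sigma.ι_desc_assoc]
  simp only [ι', Sigma.ι_desc]

instance mono_v (i : ℤ) : Mono (v I i) := by
  let p : Pa I ⟶ Pt I i := Sigma.desc fun j => if h : i ≤ j then ι I j h else 0
  refine (SplitMono.mk p ?_ : SplitMono (v I i)).mono
  ext ⟨j, h⟩ : 1
  simp only [v, p, Sigma.ι_desc_assoc, Sigma.ι_desc, comp_id]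
  exact dif_pos h

instance mono_v' (i : ℤ) : Mono (v' I i) := by
  let p : Pb I ⟶ Ps I i := Sigma.desc fun k => if h : i ≤ k then ι' I k h else 0
  refine (SplitMono.mk p ?_ : SplitMono (v' I i)).mono
  ext ⟨j, h⟩ : 1
  simp only [v', p, Sigma.ι_desc_assoc, Sigma.ι_desc, comp_id]
  exact dif_pos h

/-- The telescope. -/
noncomputable abbrev Tot : CochainComplex A ℤ := mappingCone (Dtot I f)

/-- The inclusion of a step. -/
noncomputable def emb (i : ℤ) : C I f i ⟶ Tot I f :=
  mappingCone.map _ _ (v' I i) (v I i) (D_v I f i)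

lemma inc_emb (i : ℤ) : inc I f i ≫ emb I f i = emb I f (i + 1) := by
  rw [inc, emb, emb, ← mappingCone.map_comp]
  congr 1
  · exact u'_v' I i
  · exact u_v I i

omit [HasColimitsOfSize.{0, 0} A] in
lemma mono_map {K₁ L₁ K₂ L₂ : CochainComplex A ℤ} (φ₁ : K₁ ⟶ L₁) (φ₂ : K₂ ⟶ L₂) (a : K₁ ⟶ K₂)
    (b : L₁ ⟶ L₂) (comm : φ₁ ≫ b = a ≫ φ₂) [Mono a] [Mono b] :
    Mono (mappingCone.map φ₁ φ₂ a b comm) := by
  haveI : ∀ n, Mono ((mappingCone.map φ₁ φ₂ a b comm).f n) := fun n => by
    rw [Preadditive.mono_iff_cancel_zero]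
    intro Z z hz
    have e1 : z ≫ (mappingCone.fst φ₁).1.v n (n + 1) rfl ≫ a.f (n + 1) = 0 := by
      rw [show (mappingCone.fst φ₁).1.v n (n + 1) rfl ≫ a.f (n + 1) =
        (mappingCone.map φ₁ φ₂ a b comm).f n ≫ (mappingCone.fst φ₂).1.v n (n + 1) rfl by
          simp [mappingCone.map, mappingCone.ext_from_iff _ (n + 1) n rfl],
        reassoc_of% hz, zero_comp]
    have e2 : z ≫ (mappingCone.snd φ₁).v n n (add_zero n) ≫ b.f n = 0 := by
      rw [show (mappingCone.snd φ₁).v n n (add_zero n) ≫ b.f n =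
        (mappingCone.map φ₁ φ₂ a b comm).f n ≫ (mappingCone.snd φ₂).v n n (add_zero n) by
          simp [mappingCone.map, mappingCone.ext_from_iff _ (n + 1) n rfl],
        reassoc_of% hz, zero_comp]
    rw [mappingCone.ext_to_iff φ₁ n (n + 1) rfl, zero_comp, zero_comp]
    rw [← assoc] at e1 e2
    exact ⟨zero_of_comp_mono _ e1, zero_of_comp_mono _ e2⟩
  exact HomologicalComplex.mono_of_mono_f (mappingCone.map φ₁ φ₂ a b comm) this

instance mono_emb (i : ℤ) : Mono (emb I f i) := mono_map _ _ _ _ _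

/-- Cochains out of a coproduct. -/
lemma exists_cochain_desc {ι₀ : Type} {K : ι₀ → CochainComplex A ℤ} {J : CochainComplex A ℤ} (m : ℤ)
    (z : ∀ x, Cochain (K x) J m) :
    ∃ α : Cochain (∐ K) J m,
      ∀ x, (Cochain.ofHom (Sigma.ι K x)).comp α (zero_add m) = z x := by
  have hc := fun p : ℤ => isColimitOfHasCoproductOfPreservesColimit
    (HomologicalComplex.eval A (ComplexShape.up ℤ) p) K
  refine ⟨Cochain.mk fun p q h => Cofan.IsColimit.desc (hc p) fun x => (z x).v p q h,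
    fun x => ?_⟩
  ext p q h
  rw [Cochain.zero_cochain_comp_v, Cochain.ofHom_v]
  exact Cofan.IsColimit.fac (hc p) (fun x => (z x).v p q h) x

lemma cochain_ext {ι₀ : Type} {K : ι₀ → CochainComplex A ℤ} {J : CochainComplex A ℤ} {m : ℤ}
    {z w : Cochain (∐ K) J m}
    (h : ∀ x, (Cochain.ofHom (Sigma.ι K x)).comp z (zero_add m) =
      (Cochain.ofHom (Sigma.ι K x)).comp w (zero_add m)) : z = w := by
  ext p q hpq
  refine Cofan.IsColimit.hom_ext (isColimitOfHasCoproductOfPreservesColimit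
    (HomologicalComplex.eval A (ComplexShape.up ℤ) p) K) _ _ fun x => ?_
  have := Cochain.congr_v (h x) p q hpq
  rwa [Cochain.zero_cochain_comp_v, Cochain.zero_cochain_comp_v, Cochain.ofHom_v] at this

lemma exists_desc {J : CochainComplex A ℤ} (a : ∀ j, I j ⟶ J)
    (H : ∀ k, Homotopy (f k ≫ a k) (a (k + 1))) :
    ∃ φ : Tot I f ⟶ J, ∀ i, σ I f i ≫ emb I f i ≫ φ = a i := by
  let β : Pa I ⟶ J := Sigma.desc a
  let z : ∀ k : ℤ, Cochain (I (k + 1)) J (-1) := fun k =>
    ((Cochain.equivHomotopy _ _) (H k).symm).1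
  have hz : ∀ k, δ (-1) 0 (z k) = Cochain.ofHom (a (k + 1)) - Cochain.ofHom (f k ≫ a k) :=
    fun k => eq_sub_of_add_eq (((Cochain.equivHomotopy _ _) (H k).symm).2).symm
  obtain ⟨α, hα⟩ := exists_cochain_desc (-1) z
  refine ⟨mappingCone.desc _ α β (cochain_ext fun k => ?_), fun i => ?_⟩
  · rw [← δ_ofHom_comp, hα, hz, ← Cochain.ofHom_comp, Dtot, Sigma.ι_desc_assoc, ← Cochain.ofHom_sub]
    congr 1
    simp only [β, Preadditive.sub_comp, assoc, Sigma.ι_desc]
  · rw [σ, assoc, emb, mappingCone.map]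
    rw [mappingCone.inr_desc_assoc, assoc, mappingCone.inr_desc, v, Sigma.ι_desc_assoc,
      Sigma.ι_desc]

end Groth.Agent.DSites.FilRep
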