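import Groth.Agent.ARLib.SubobjLattice
import Groth.Prelude.Def_SpSeq
import Mathlib.Algebra.Homology.Refinements
import Mathlib.Algebra.Homology.ExactSequence

/-!
# The terms of the spectral sequence of a filtered complex, by elements
-/

set_option autoImplicit false
set_option maxHeartbeats 1000000

universe v u

open CategoryTheory CategoryTheory.Limits CategoryTheory.Category SpSeq SpSeq.FilCx
open Groth.Agent.SubLat

namespace Groth.Agent.DSites.FilSS

variable {A : Type u} [Category.{v} A] [Abelian A]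

section Subquot

variable {X Y : A} {Z M B : Subobject X} (h : B ≤ Z)

/-- The subquotient, transparently. -/
noncomputable abbrev sq {X : A} (Z B : Subobject X) (h : B ≤ Z) : A := cokernel (B.ofLE Z h)

/-- The class of an element in a subquotient. -/
noncomputable def cls {T : A} (x : T ⟶ X) (hx : Z.Factors x) : T ⟶ sq Z B h :=
  Z.factorThru x hx ≫ cokernel.π (B.ofLE Z h)

lemma comp_cls {T T' : A} (π : T' ⟶ T) (x : T ⟶ X) (hx : Z.Factors x) :
    π ≫ cls h x hx = cls h (π ≫ x) (Subobject.factors_of_factors_right π hx) := by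
  unfold cls
  rw [← assoc]
  congr 1
  rw [← cancel_mono Z.arrow]; simp

lemma cls_eq_zero_iff {T : A} (x : T ⟶ X) (hx : Z.Factors x) : cls h x hx = 0 ↔ B.Factors x := by
  constructor
  · intro e
    let hk := Abelian.monoIsKernelOfCokernel _ (cokernelIsCokernel (B.ofLE Z h))
    obtain ⟨l, hl⟩ := KernelFork.IsLimit.lift' hk _ e
    change l ≫ B.ofLE Z h = Z.factorThru x hx at hl
    rw [← Z.factorThru_arrow x hx, ← hl, assoc, Subobject.ofLE_arrow]
    exact Subobject.factors_comp_arrow _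
  · intro hB
    have e : Z.factorThru x hx = B.factorThru x hB ≫ B.ofLE Z h := by
      rw [← cancel_mono Z.arrow]; simp
    rw [cls, e, assoc, cokernel.condition, comp_zero]

lemma cls_surj {T : A} (z : T ⟶ sq Z B h) : ∃ (T' : A) (π : T' ⟶ T) (_ : Epi π) (x : T' ⟶ X)
    (hx : Z.Factors x), π ≫ z = cls h x hx := by
  obtain ⟨T', π, hπ, w, hw⟩ := surjective_up_to_refinements_of_epi (cokernel.π (B.ofLE Z h)) z
  refine ⟨T', π, hπ, w ≫ Z.arrow, Subobject.factors_comp_arrow _, hw.trans ?_⟩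
  unfold cls
  congr 1
  rw [← cancel_mono Z.arrow]; simp

lemma isZero_subquot (hle : Z ≤ B) : IsZero (sq Z B h) := by
  refine IsZero.of_epi_eq_zero (cokernel.π (B.ofLE Z h)) ?_
  have := (cls_eq_zero_iff h Z.arrow (Subobject.factors_self Z)).2
    (Subobject.factors_of_le _ hle (Subobject.factors_self Z))
  simpa [cls] using this

/-- A comparison map into a subquotient. -/
noncomputable def toSubquot {X' : A} (W : Subobject X') (f : X' ⟶ X)
    (hf : ∀ ⦃T : A⦄ (x : T ⟶ X'), W.Factors x → Z.Factors (x ≫ f)) : (W : A) ⟶ sq Z B h :=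
  cls h (W.arrow ≫ f) (hf _ (Subobject.factors_self W))

lemma toSubquot_eq_zero_iff {X' : A} (W : Subobject X') (f : X' ⟶ X)
    (hf : ∀ ⦃T : A⦄ (x : T ⟶ X'), W.Factors x → Z.Factors (x ≫ f)) {T : A} (t : T ⟶ (W : A)) :
    t ≫ toSubquot h W f hf = 0 ↔ B.Factors ((t ≫ W.arrow) ≫ f) := by
  rw [toSubquot, comp_cls, cls_eq_zero_iff, assoc]

lemma epi_toSubquot {X' : A} (W : Subobject X') (f : X' ⟶ X)
    (hf : ∀ ⦃T : A⦄ (x : T ⟶ X'), W.Factors x → Z.Factors (x ≫ f))
    (hs : ∀ ⦃T : A⦄ (y : T ⟶ X), Z.Factors y → ∃ (T' : A) (π : T' ⟶ T) (_ : Epi π) (x : T' ⟶ X')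
      (b : T' ⟶ X), W.Factors x ∧ B.Factors b ∧ π ≫ y = x ≫ f + b) :
    Epi (toSubquot h W f hf) := by
  rw [epi_iff_surjective_up_to_refinements]
  intro T z
  obtain ⟨T₁, π₁, _, y, hy, e⟩ := cls_surj h z
  obtain ⟨T₂, π₂, _, x, b, hx, hb, e'⟩ := hs y hy
  refine ⟨T₂, π₂ ≫ π₁, inferInstance, W.factorThru x hx, ?_⟩
  rw [assoc, e, comp_cls, toSubquot, comp_cls]
  unfold cls
  rw [← sub_eq_zero, ← Preadditive.sub_comp]
  have e₂ : Z.factorThru (π₂ ≫ y) (Subobject.factors_of_factors_right π₂ hy) -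
      Z.factorThru (W.factorThru x hx ≫ W.arrow ≫ f)
        (Subobject.factors_of_factors_right _ (hf _ (Subobject.factors_self W))) =
      B.factorThru b hb ≫ B.ofLE Z h := by
    rw [← cancel_mono Z.arrow]; simp [e']
  rw [e₂, assoc, cokernel.condition, comp_zero]

/-- Two epimorphisms with the same kernel have isomorphic targets. -/
lemma nonempty_iso_of_epi {W P Q : A} (g : W ⟶ P) (k : W ⟶ Q) [Epi g] [Epi k]
    (he : ∀ ⦃T : A⦄ (t : T ⟶ W), t ≫ g = 0 ↔ t ≫ k = 0) : Nonempty (P ≅ Q) := by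
  let hg := Abelian.epiIsCokernelOfKernel _ (kernelIsKernel g)
  let hk := Abelian.epiIsCokernelOfKernel _ (kernelIsKernel k)
  obtain ⟨a, ha⟩ := CokernelCofork.IsColimit.desc' hg k ((he _).1 (kernel.condition g))
  obtain ⟨b, hb⟩ := CokernelCofork.IsColimit.desc' hk g ((he _).2 (kernel.condition k))
  change g ≫ a = k at ha
  change k ≫ b = g at hb
  exact ⟨⟨a, b, by rw [← cancel_epi g, reassoc_of% ha, hb, comp_id],
    by rw [← cancel_epi k, reassoc_of% hb, ha, comp_id]⟩⟩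

/-- A tower `B ≤ M ≤ Z` gives a short exact sequence of subquotients. -/
lemma exists_shortExact (h₁ : B ≤ M) (h₂ : M ≤ Z) :
    ∃ (f : sq M B h₁ ⟶ sq Z B h) (g : sq Z B h ⟶ sq Z M h₂) (w : f ≫ g = 0),
      (ShortComplex.mk f g w).ShortExact := by
  let f : sq M B h₁ ⟶ sq Z B h :=
    cokernel.map (B.ofLE M h₁) (B.ofLE Z h) (𝟙 _) (M.ofLE Z h₂) (by simp)
  let g : sq Z B h ⟶ sq Z M h₂ :=
    cokernel.map (B.ofLE Z h) (M.ofLE Z h₂) (B.ofLE M h₁) (𝟙 _) (by simp)
  have hf : ∀ {T : A} (x : T ⟶ X) (hx : M.Factors x),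
      cls h₁ x hx ≫ f = cls h x (Subobject.factors_of_le _ h₂ hx) := fun x hx => by
    simp only [cls, f, assoc, cokernel.π_desc]
    rw [← assoc]
    congr 1
    rw [← cancel_mono Z.arrow]; simp
  have hg : ∀ {T : A} (x : T ⟶ X) (hx : Z.Factors x), cls h x hx ≫ g = cls h₂ x hx := fun x hx => by
    simp only [cls, g, assoc, cokernel.π_desc, id_comp]
  have w : f ≫ g = 0 := by
    apply coequalizer.hom_ext
    change cokernel.π (B.ofLE M h₁) ≫ f ≫ g = cokernel.π (B.ofLE M h₁) ≫ 0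
    simp [f, g, cokernel.condition]
  refine ⟨f, g, w, { exact := ?_, mono_f := ?_, epi_g := ?_ }⟩
  · rw [ShortComplex.exact_iff_exact_up_to_refinements]
    intro T z hz
    obtain ⟨T₁, π₁, _, x, hx, e⟩ := cls_surj h z
    have hz' : cls h₂ x hx = 0 := by rw [← hg x hx, ← e, assoc, hz, comp_zero]
    exact ⟨T₁, π₁, inferInstance, cls h₁ x ((cls_eq_zero_iff _ _ _).1 hz'), e.trans (hf x _).symm⟩
  · refine Preadditive.mono_of_cancel_zero _ fun {T} z hz => ?_
    obtain ⟨T₁, π₁, _, x, hx, e⟩ := cls_surj h₁ z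
    have hz' : cls h x (Subobject.factors_of_le _ h₂ hx) = 0 := by
      rw [← hf x hx, ← e, assoc, hz, comp_zero]
    rw [← cancel_epi π₁, comp_zero, e, cls_eq_zero_iff]
    exact (cls_eq_zero_iff _ _ _).1 hz'
  · dsimp only
    rw [epi_iff_surjective_up_to_refinements]
    intro T z
    obtain ⟨T₁, π₁, hπ₁, x, hx, e⟩ := cls_surj h₂ z
    exact ⟨T₁, π₁, hπ₁, cls h x hx, e.trans (hg x hx).symm⟩

lemma image_factors_iff {S : A} (f : S ⟶ X) {T : A} (x : T ⟶ X) :
    (imageSubobject f).Factors x ↔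
      ∃ (T' : A) (π : T' ⟶ T) (_ : Epi π) (s : T' ⟶ S), π ≫ x = s ≫ f := by
  constructor
  · intro hx
    obtain ⟨T', π, hπ, s, e⟩ := surjective_up_to_refinements_of_epi (factorThruImageSubobject f)
      ((imageSubobject f).factorThru x hx)
    refine ⟨T', π, hπ, s, ?_⟩
    rw [← (imageSubobject f).factorThru_arrow x hx, ← assoc, e, assoc, imageSubobject_arrow_comp]
  · rintro ⟨T', π, _, s, e⟩
    refine factors_of_epi π x ?_
    rw [e]
    exact imageSubobject_factors_comp_self _ _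

end Subquot

section FilCx

variable (K : FilCx A)

local notation "F" => K.filX

lemma mem_filX {p n : ℤ} {T : A} (x : T ⟶ K.obj.X n) :
    (F p n).Factors x ↔ ∃ a : T ⟶ (K.step p).X n, a ≫ (K.fil p).arrow.f n = x :=
  Subobject.mk_factors_iff _ _

lemma mem_of_le {p q : ℤ} (h : p ≤ q) {n : ℤ} {T : A} {x : T ⟶ K.obj.X n}
    (hx : (F q n).Factors x) : (F p n).Factors x :=
  Subobject.factors_of_le _ (K.filX_anti n h) hx

lemma mem_d {p n : ℤ} (m : ℤ) {T : A} {x : T ⟶ K.obj.X n} (hx : (F p n).Factors x) :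
    (F p m).Factors (x ≫ K.obj.d n m) := by
  obtain ⟨a, rfl⟩ := (mem_filX K x).1 hx
  exact (mem_filX K _).2 ⟨a ≫ (K.step p).d n m, by simp⟩

lemma mem_ZSub (r : ℕ) (p n q m : ℤ) (hq : q = p + r) (hm : n + 1 = m) {T : A} (x : T ⟶ K.obj.X n) :
    (K.ZSub r p n).Factors x ↔ ∃ (T' : A) (π : T' ⟶ T) (_ : Epi π) (a b : T' ⟶ K.obj.X n),
      (F p n).Factors a ∧ (F q m).Factors (a ≫ K.obj.d n m) ∧ (F (p + 1) n).Factors b ∧
        π ≫ x = a + b := by
  subst hq hm
  rw [FilCx.ZSub, sup_factors_iff]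
  refine exists_congr fun T' => exists_congr fun π => exists_congr fun _ => exists_congr fun a =>
    exists_congr fun b => ?_
  rw [Subobject.inf_factors, pullback_factors_iff, and_assoc]

lemma mem_ZTop (p n m : ℤ) (hm : n + 1 = m) {T : A} (x : T ⟶ K.obj.X n) :
    (K.ZTop p n).Factors x ↔ ∃ (T' : A) (π : T' ⟶ T) (_ : Epi π) (a b : T' ⟶ K.obj.X n),
      (F p n).Factors a ∧ a ≫ K.obj.d n m = 0 ∧ (F (p + 1) n).Factors b ∧ π ≫ x = a + b := by
  subst hm
  rw [FilCx.ZTop, sup_factors_iff]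
  refine exists_congr fun T' => exists_congr fun π => exists_congr fun _ => exists_congr fun a =>
    exists_congr fun b => ?_
  rw [Subobject.inf_factors, kernelSubobject_factors_iff, and_assoc]

lemma mem_BSub (r : ℕ) (p n p₀ n₀ : ℤ) (hp : p₀ = p - r + 1) (hn : n₀ + 1 = n) {T : A}
    (x : T ⟶ K.obj.X n) :
    (K.BSub r p n).Factors x ↔ ∃ (T' : A) (π : T' ⟶ T) (_ : Epi π) (z : T' ⟶ K.obj.X n₀)
      (b : T' ⟶ K.obj.X n), (F p₀ n₀).Factors z ∧ (F p n).Factors (z ≫ K.obj.d n₀ n) ∧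
        (F (p + 1) n).Factors b ∧ π ≫ x = z ≫ K.obj.d n₀ n + b := by
  obtain rfl : n₀ = n - 1 := by omega
  subst hp
  rw [FilCx.BSub, sup_factors_iff]
  constructor
  · rintro ⟨T', π, hπ, s, t, hs, ht, e⟩
    obtain ⟨hs₁, hs₂⟩ := (Subobject.inf_factors _).1 hs
    obtain ⟨T'', π', hπ', z, hz, e'⟩ := (push_factors_iff s).1 hs₂
    refine ⟨T'', π' ≫ π, inferInstance, z, π' ≫ t, hz, ?_, Subobject.factors_of_factors_right _ ht, ?_⟩
    · rw [← e']; exact Subobject.factors_of_factors_right _ hs₁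
    · rw [assoc, e, Preadditive.comp_add, e']
  · rintro ⟨T', π, hπ, z, b, hz, hzd, hb, e⟩
    exact ⟨T', π, hπ, z ≫ K.obj.d (n - 1) n, b, (Subobject.inf_factors _).2
      ⟨hzd, (push_factors_iff _).2 ⟨T', 𝟙 _, inferInstance, z, hz, id_comp _⟩⟩, hb, e⟩

lemma mem_BBot (p n n₀ : ℤ) (hn : n₀ + 1 = n) {T : A}
    (x : T ⟶ K.obj.X n) :
    (K.BBot p n).Factors x ↔ ∃ (T' : A) (π : T' ⟶ T) (_ : Epi π) (z : T' ⟶ K.obj.X n₀)
      (b : T' ⟶ K.obj.X n), (F p n).Factors (z ≫ K.obj.d n₀ n) ∧ (F (p + 1) n).Factors b ∧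
        π ≫ x = z ≫ K.obj.d n₀ n + b := by
  obtain rfl : n₀ = n - 1 := by omega
  rw [FilCx.BBot, sup_factors_iff]
  constructor
  · rintro ⟨T', π, hπ, s, t, hs, ht, e⟩
    obtain ⟨hs₁, hs₂⟩ := (Subobject.inf_factors _).1 hs
    obtain ⟨T'', π', hπ', z, e'⟩ := (image_factors_iff _ s).1 hs₂
    refine ⟨T'', π' ≫ π, inferInstance, z, π' ≫ t, ?_, Subobject.factors_of_factors_right _ ht, ?_⟩
    · rw [← e']; exact Subobject.factors_of_factors_right _ hs₁
    · rw [assoc, e, Preadditive.comp_add, e']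
  · rintro ⟨T', π, hπ, z, b, hzd, hb, e⟩
    exact ⟨T', π, hπ, z ≫ K.obj.d (n - 1) n, b, (Subobject.inf_factors _).2
      ⟨hzd, imageSubobject_factors_comp_self _ _⟩, hb, e⟩

lemma ZTop_le_ZSub (r : ℕ) (p n : ℤ) : K.ZTop p n ≤ K.ZSub r p n :=
  sup_le_sup_right (inf_le_inf_left _ (kernelSubobject_le_pullback _ _)) _

lemma BSub_le_BBot (r : ℕ) (p n : ℤ) : K.BSub r p n ≤ K.BBot p n :=
  sup_le_sup_right (inf_le_inf_left _ (imageSubobject_comp_le _ _)) _

lemma ZSub_succ_le (r : ℕ) (p n : ℤ) : K.ZSub (r + 1) p n ≤ K.ZSub r p n :=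
  le_iff_factors.2 fun T x hx => by
    obtain ⟨T', π, hπ, a, b, ha, had, hb, e⟩ := (mem_ZSub K (r + 1) p n _ _ rfl rfl x).1 hx
    exact (mem_ZSub K r p n _ _ rfl rfl x).2
      ⟨T', π, hπ, a, b, ha, mem_of_le K (by push_cast; omega) had, hb, e⟩

lemma BSub_le_succ (r : ℕ) (p n : ℤ) : K.BSub r p n ≤ K.BSub (r + 1) p n :=
  le_iff_factors.2 fun T x hx => by
    obtain ⟨T', π, hπ, z, b, hz, hzd, hb, e⟩ := (mem_BSub K r p n _ (n - 1) rfl (by omega) x).1 hx
    exact (mem_BSub K (r + 1) p n _ (n - 1) rfl (by omega) x).2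
      ⟨T', π, hπ, z, b, mem_of_le K (by push_cast; omega) hz, hzd, hb, e⟩

/-! ### cohomology -/

lemma boundary_of_isZero {p n₀ n m : ℤ} (hn : n₀ + 1 = n) (hm : n + 1 = m)
    (h : IsZero ((K.step p).homology n)) {T : A} {x : T ⟶ K.obj.X n} (hx : (F p n).Factors x)
    (hd : x ≫ K.obj.d n m = 0) :
    ∃ (T' : A) (π : T' ⟶ T) (_ : Epi π) (z : T' ⟶ K.obj.X n₀),
      (F p n₀).Factors z ∧ π ≫ x = z ≫ K.obj.d n₀ n := by
  obtain ⟨a, rfl⟩ := (mem_filX K x).1 hx
  have ha : a ≫ (K.step p).d n m = 0 := by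
    rw [← cancel_mono ((K.fil p).arrow.f m), zero_comp, assoc, ← HomologicalComplex.Hom.comm,
      ← assoc, hd]
  obtain ⟨T', π, hπ, z, e⟩ := ((K.step p).exactAt_iff_exact_up_to_refinements n₀ n m
    (by simp; omega) (by simp; omega)).1 ((HomologicalComplex.exactAt_iff_isZero_homology _ _).2 h)
    a ha
  refine ⟨T', π, hπ, z ≫ (K.fil p).arrow.f n₀, (mem_filX K _).2 ⟨z, rfl⟩, ?_⟩
  rw [← assoc, e, assoc, assoc, HomologicalComplex.Hom.comm]

lemma lift_boundary {p n₀ n m : ℤ} (hn : n₀ + 1 = n) (hm : n + 1 = m)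
    [Mono (HomologicalComplex.homologyMap (K.fil p).arrow n)] {T : A} {x : T ⟶ K.obj.X n}
    (hx : (F p n).Factors x) (y : T ⟶ K.obj.X n₀) (e : x = y ≫ K.obj.d n₀ n) :
    ∃ (T' : A) (π : T' ⟶ T) (_ : Epi π) (z : T' ⟶ K.obj.X n₀),
      (F p n₀).Factors z ∧ π ≫ x = z ≫ K.obj.d n₀ n := by
  obtain ⟨a, rfl⟩ := (mem_filX K x).1 hx
  have ha : a ≫ (K.step p).d n m = 0 := by
    rw [← cancel_mono ((K.fil p).arrow.f m), zero_comp, assoc, ← HomologicalComplex.Hom.comm,
      ← assoc, e, assoc, HomologicalComplex.d_comp_d, comp_zero]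
  obtain ⟨T', π, hπ, z, e'⟩ := (HomologicalComplex.mono_homologyMap_iff_up_to_refinements
    (K.fil p).arrow n₀ n m (by simp; omega) (by simp; omega)).1 inferInstance a ha y e
  refine ⟨T', π, hπ, z ≫ (K.fil p).arrow.f n₀, (mem_filX K _).2 ⟨z, rfl⟩, ?_⟩
  rw [← assoc, e', assoc, assoc, HomologicalComplex.Hom.comm]

lemma cycle_split {p n₀ n m : ℤ} (hn : n₀ + 1 = n) (hm : n + 1 = m)
    [Epi (HomologicalComplex.homologyMap (K.fil p).arrow n)] {T : A} {x : T ⟶ K.obj.X n}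
    (hd : x ≫ K.obj.d n m = 0) :
    ∃ (T' : A) (π : T' ⟶ T) (_ : Epi π) (w : T' ⟶ K.obj.X n) (y : T' ⟶ K.obj.X n₀),
      (F p n).Factors w ∧ π ≫ x = w + y ≫ K.obj.d n₀ n := by
  obtain ⟨T', π, hπ, a, -, y, e⟩ := (HomologicalComplex.epi_homologyMap_iff_up_to_refinements
    (K.fil p).arrow n₀ n m (by simp; omega) (by simp; omega)).1 inferInstance x hd
  exact ⟨T', π, hπ, _, y, (mem_filX K _).2 ⟨a, rfl⟩, e⟩

/-! ### convergence -/

lemma ZSub_eq_ZTop_of_isZero (r : ℕ) (p n : ℤ) (hr : 0 < r)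
    (h : IsZero ((K.step (p + r)).homology (n + 1))) : K.ZSub r p n = K.ZTop p n := by
  refine le_antisymm (le_iff_factors.2 fun T x hx => ?_) (ZTop_le_ZSub K r p n)
  obtain ⟨T', π, _, a, b, ha, had, hb, e⟩ := (mem_ZSub K r p n _ _ rfl rfl x).1 hx
  obtain ⟨T'', π', _, z, hz, e'⟩ := boundary_of_isZero K (n₀ := n) rfl rfl h had
    (by rw [assoc, HomologicalComplex.d_comp_d, comp_zero])
  refine (mem_ZTop K p n _ rfl x).2 ⟨T'', π' ≫ π, inferInstance, π' ≫ a - z, π' ≫ b + z,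
    factors_sub (Subobject.factors_of_factors_right _ ha) (mem_of_le K (by omega) hz), ?_, ?_, ?_⟩
  · rw [Preadditive.sub_comp, assoc, e', sub_self]
  · exact Subobject.factors_add _ _ (Subobject.factors_of_factors_right _ hb)
      (mem_of_le K (by omega) hz)
  · rw [assoc, e, Preadditive.comp_add]; abel

lemma BSub_eq_BBot_of_mono (r : ℕ) (p n : ℤ) (hr : 0 < r)
    [Mono (HomologicalComplex.homologyMap (K.fil (p - r + 1)).arrow n)] :
    K.BSub r p n = K.BBot p n := by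
  refine le_antisymm (BSub_le_BBot K r p n) (le_iff_factors.2 fun T x hx => ?_)
  obtain ⟨T', π, _, u, b, hu, hb, e⟩ := (mem_BBot K p n (n - 1) (by omega) x).1 hx
  obtain ⟨T'', π', _, z, hz, e'⟩ := lift_boundary K (n₀ := n - 1) (m := n + 1) (by omega) rfl
    (mem_of_le K (show p - r + 1 ≤ p by omega) hu) u rfl
  refine (mem_BSub K r p n _ _ rfl (by omega) x).2 ⟨T'', π' ≫ π, inferInstance, z, π' ≫ b, hz, ?_,
    Subobject.factors_of_factors_right _ hb, ?_⟩
  · rw [← e']; exact Subobject.factors_of_factors_right _ hu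
  · rw [assoc, e, Preadditive.comp_add, e']

lemma isZero_E_one_of_isZero (p n : ℤ) (h : IsZero ((K.step p).homology n))
    (h' : IsZero ((K.step (p + 1)).homology (n + 1))) : IsZero (K.E 1 p n) := by
  refine isZero_subquot _ (le_iff_factors.2 fun T x hx => ?_)
  obtain ⟨T₁, π₁, _, a, b, ha, had, hb, e⟩ := (mem_ZSub K 1 p n (p + 1) _ (by simp) rfl x).1 hx
  obtain ⟨T₂, π₂, _, y, hy, e₂⟩ := boundary_of_isZero K (n₀ := n) rfl rfl h' had
    (by rw [assoc, HomologicalComplex.d_comp_d, comp_zero])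
  obtain ⟨T₃, π₃, _, z, hz, e₃⟩ := boundary_of_isZero K (n₀ := n - 1) (m := n + 1) (by omega) rfl h
    (x := π₂ ≫ a - y) (factors_sub (Subobject.factors_of_factors_right _ ha) (mem_of_le K (by omega) hy))
    (by rw [Preadditive.sub_comp, assoc, e₂, sub_self])
  refine (mem_BSub K 1 p n p (n - 1) (by simp) (by omega) x).2
    ⟨T₃, π₃ ≫ π₂ ≫ π₁, inferInstance, z, (π₃ ≫ π₂) ≫ b + π₃ ≫ y, hz, mem_d K _ hz, ?_, ?_⟩
  · exact Subobject.factors_add _ _ (Subobject.factors_of_factors_right _ hb)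
      (Subobject.factors_of_factors_right _ hy)
  · rw [← e₃, assoc, assoc, e, Preadditive.comp_add, Preadditive.comp_add, Preadditive.comp_sub,
      assoc]
    abel

lemma isZero_E_one_of_isIso (p n : ℤ) (h₁ : IsIso (HomologicalComplex.homologyMap (K.fil p).arrow n))
    (h₂ : IsIso (HomologicalComplex.homologyMap (K.fil (p + 1)).arrow n))
    (h₃ : IsIso (HomologicalComplex.homologyMap (K.fil (p + 1)).arrow (n + 1))) :
    IsZero (K.E 1 p n) := by
  refine isZero_subquot _ (le_iff_factors.2 fun T x hx => ?_)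
  obtain ⟨T₁, π₁, _, a, b, ha, had, hb, e⟩ := (mem_ZSub K 1 p n (p + 1) _ (by simp) rfl x).1 hx
  obtain ⟨T₂, π₂, _, y, hy, e₂⟩ := lift_boundary K (n₀ := n) (m := n + 1 + 1) rfl rfl had a rfl
  obtain ⟨T₃, π₃, _, w, u, hw, e₃⟩ := cycle_split K (p := p + 1) (n₀ := n - 1) (m := n + 1)
    (by omega) rfl (x := π₂ ≫ a - y) (by rw [Preadditive.sub_comp, assoc, e₂, sub_self])
  have hu : (F p n).Factors (u ≫ K.obj.d (n - 1) n) := by
    have : u ≫ K.obj.d (n - 1) n = π₃ ≫ (π₂ ≫ a - y) - w := by rw [e₃]; abel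
    rw [this]
    exact factors_sub (Subobject.factors_of_factors_right _ (factors_sub
      (Subobject.factors_of_factors_right _ ha) (mem_of_le K (by omega) hy))) (mem_of_le K (by omega) hw)
  obtain ⟨T₄, π₄, _, z, hz, e₄⟩ := lift_boundary K (n₀ := n - 1) (m := n + 1) (by omega) rfl hu u rfl
  refine (mem_BSub K 1 p n p (n - 1) (by simp) (by omega) x).2
    ⟨T₄, π₄ ≫ π₃ ≫ π₂ ≫ π₁, inferInstance, z, (π₄ ≫ π₃ ≫ π₂) ≫ b + (π₄ ≫ π₃) ≫ y + π₄ ≫ w,
      hz, mem_d K _ hz, ?_, ?_⟩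
  · exact Subobject.factors_add _ _ (Subobject.factors_add _ _
      (Subobject.factors_of_factors_right _ hb) (Subobject.factors_of_factors_right _ hy))
      (Subobject.factors_of_factors_right _ hw)
  · rw [← e₄]
    have : π₃ ≫ π₂ ≫ a = π₃ ≫ y + w + u ≫ K.obj.d (n - 1) n := by
      rw [Preadditive.comp_sub, sub_eq_iff_eq_add] at e₃
      rw [e₃]; abel
    simp only [assoc, e, Preadditive.comp_add]
    rw [this]
    simp only [Preadditive.comp_add]
    abel

/-! ### the induced filtration -/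

lemma mem_filH_of_cycle {p n : ℤ} {T : A} (c : T ⟶ K.obj.cycles n)
    (hc : (F p n).Factors (c ≫ K.obj.iCycles n)) : (K.filH p n).Factors (c ≫ K.obj.homologyπ n) := by
  obtain ⟨a, ha⟩ := (mem_filX K _).1 hc
  have had : a ≫ (K.step p).d n (n + 1) = 0 := by
    rw [← cancel_mono ((K.fil p).arrow.f (n + 1)), zero_comp, assoc, ← HomologicalComplex.Hom.comm,
      ← assoc, ha, assoc, HomologicalComplex.iCycles_d, comp_zero]
  let a' := (K.step p).liftCycles a (n + 1) (by simp) had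
  have e : c = a' ≫ HomologicalComplex.cyclesMap (K.fil p).arrow n := by
    rw [← cancel_mono (K.obj.iCycles n)]; simp [a', ha]
  rw [e, assoc, ← HomologicalComplex.homologyπ_naturality, ← assoc]
  exact imageSubobject_factors_comp_self _ _

lemma exists_cycle_of_mem_filH {p n : ℤ} {T : A} {y : T ⟶ K.obj.homology n}
    (hy : (K.filH p n).Factors y) :
    ∃ (T' : A) (π : T' ⟶ T) (_ : Epi π) (c : T' ⟶ K.obj.cycles n),
      (F p n).Factors (c ≫ K.obj.iCycles n) ∧ π ≫ y = c ≫ K.obj.homologyπ n := by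
  obtain ⟨T₁, π₁, _, s, e⟩ := (image_factors_iff _ y).1 hy
  obtain ⟨T₂, π₂, _, a, ha⟩ := surjective_up_to_refinements_of_epi ((K.step p).homologyπ n) s
  refine ⟨T₂, π₂ ≫ π₁, inferInstance, a ≫ HomologicalComplex.cyclesMap (K.fil p).arrow n,
    (mem_filX K _).2 ⟨a ≫ (K.step p).iCycles n, by simp⟩, ?_⟩
  rw [assoc, e, reassoc_of% ha, assoc, HomologicalComplex.homologyπ_naturality]

lemma filH_eq_bot_of_isZero {p n : ℤ} (h : IsZero ((K.step p).homology n)) : K.filH p n = ⊥ := by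
  show imageSubobject (HomologicalComplex.homologyMap (K.fil p).arrow n) = ⊥
  rw [h.eq_of_src (HomologicalComplex.homologyMap (K.fil p).arrow n) 0, imageSubobject_zero]

lemma filH_eq_top_of_epi {p n : ℤ} [Epi (HomologicalComplex.homologyMap (K.fil p).arrow n)] :
    K.filH p n = ⊤ := by
  refine top_le_iff.1 (le_iff_factors.2 fun T y _ => ?_)
  obtain ⟨T', π, hπ, s, e⟩ :=
    surjective_up_to_refinements_of_epi (HomologicalComplex.homologyMap (K.fil p).arrow n) y
  exact (image_factors_iff _ y).2 ⟨T', π, hπ, s, e⟩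

lemma filH_eq_top_of_filX {p n : ℤ} (h : F p n = ⊤) : K.filH p n = ⊤ := by
  refine top_le_iff.1 (le_iff_factors.2 fun T y _ => ?_)
  obtain ⟨T', π, _, c, e⟩ := surjective_up_to_refinements_of_epi (K.obj.homologyπ n) y
  refine factors_of_epi π y ?_
  rw [e]
  exact mem_filH_of_cycle K c (by rw [h]; exact Subobject.top_factors _)

lemma filH_eq_bot_of_filX {p n : ℤ} (h : F p n = ⊥) : K.filH p n = ⊥ := by
  refine le_bot_iff.1 (le_iff_factors.2 fun T y hy => ?_)
  obtain ⟨T', π, _, c, hc, e⟩ := exists_cycle_of_mem_filH K hy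
  rw [h, Subobject.bot_factors_iff_zero, ← zero_comp (f := K.obj.iCycles n), cancel_mono] at hc
  rw [hc, zero_comp, ← comp_zero (f := π), cancel_epi] at e
  rw [e]
  exact (Subobject.bot_factors_iff_zero _).2 rfl

/-- The limit term is the graded piece of cohomology. -/
lemma nonempty_iso_gr (p n : ℤ) (h : K.BBot p n ≤ K.ZTop p n) :
    Nonempty (sq (K.ZTop p n) (K.BBot p n) h ≅ (K.HFil n).gr p) := by
  let W : Subobject (K.obj.cycles n) := pull (K.obj.iCycles n) (F p n)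
  have hf₁ : ∀ ⦃T : A⦄ (x : T ⟶ K.obj.cycles n), W.Factors x →
      (K.ZTop p n).Factors (x ≫ K.obj.iCycles n) := fun T x hx =>
    (mem_ZTop K p n _ rfl _).2 ⟨T, 𝟙 T, inferInstance, x ≫ K.obj.iCycles n, 0,
      (pull_factors_iff x).1 hx, by simp, Subobject.factors_zero, by simp⟩
  have hf₂ : ∀ ⦃T : A⦄ (x : T ⟶ K.obj.cycles n), W.Factors x →
      (K.filH p n).Factors (x ≫ K.obj.homologyπ n) := fun T x hx =>
    mem_filH_of_cycle K x ((pull_factors_iff x).1 hx)
  have := epi_toSubquot h W (K.obj.iCycles n) hf₁ fun T y hy => by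
    obtain ⟨T', π, hπ, a, b, ha, had, hb, e⟩ := (mem_ZTop K p n _ rfl y).1 hy
    refine ⟨T', π, hπ, K.obj.liftCycles a (n + 1) (by simp) had, b, (pull_factors_iff _).2 ?_,
      Subobject.factors_of_le _ le_sup_right hb, ?_⟩
    · rw [HomologicalComplex.liftCycles_i]; exact ha
    · rw [HomologicalComplex.liftCycles_i]; exact e
  have hle : K.filH (p + 1) n ≤ K.filH p n := K.filH_anti n (by omega)
  have := epi_toSubquot hle W (K.obj.homologyπ n) hf₂ fun T y hy => by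
    obtain ⟨T', π, hπ, c, hc, e⟩ := exists_cycle_of_mem_filH K hy
    exact ⟨T', π, hπ, c, 0, (pull_factors_iff c).2 hc, Subobject.factors_zero, by simp [e]⟩
  suffices Nonempty (sq (K.ZTop p n) (K.BBot p n) h ≅ sq (K.filH p n) (K.filH (p + 1) n) hle) from this
  refine nonempty_iso_of_epi (toSubquot h W (K.obj.iCycles n) hf₁)
    (toSubquot hle W (K.obj.homologyπ n) hf₂) fun T t => ?_
  rw [toSubquot_eq_zero_iff, toSubquot_eq_zero_iff]
  have hx : (F p n).Factors ((t ≫ W.arrow) ≫ K.obj.iCycles n) :=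
    (pull_factors_iff _).1 (Subobject.factors_comp_arrow t)
  constructor
  · intro hB
    obtain ⟨T', π, _, z, b, -, hb, e⟩ := (mem_BBot K p n (n - 1) (by omega) _).1 hB
    refine factors_of_epi π _ ?_
    have hbd : b ≫ K.obj.d n (n + 1) = 0 := by
      rw [eq_sub_of_add_eq' e.symm]; simp
    have e' : π ≫ t ≫ W.arrow =
        z ≫ K.obj.toCycles (n - 1) n + K.obj.liftCycles b (n + 1) (by simp) hbd := by
      rw [← cancel_mono (K.obj.iCycles n)]; simpa using e
    rw [← assoc, e', Preadditive.add_comp, assoc, HomologicalComplex.toCycles_comp_homologyπ,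
      comp_zero, zero_add]
    exact mem_filH_of_cycle K _ (by rwa [HomologicalComplex.liftCycles_i])
  · intro hH
    obtain ⟨T', π, _, c, hc, e⟩ := exists_cycle_of_mem_filH K hH
    obtain ⟨T'', π', _, u, e'⟩ := (K.obj.comp_homologyπ_eq_zero_iff_up_to_refinements (n - 1) n
      (by simp) (π ≫ t ≫ W.arrow - c)).1 (by
        rw [Preadditive.sub_comp, assoc, e, sub_self])
    have e₂ := congrArg (· ≫ K.obj.iCycles n) e'
    simp only [Preadditive.comp_sub, Preadditive.sub_comp, assoc,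
      HomologicalComplex.toCycles_i] at e₂
    refine (mem_BBot K p n (n - 1) (by omega) _).2
      ⟨T'', π' ≫ π, inferInstance, u, π' ≫ c ≫ K.obj.iCycles n, ?_,
        Subobject.factors_of_factors_right _ hc, ?_⟩
    · rw [← e₂]
      refine factors_sub ?_ (Subobject.factors_of_factors_right _ (mem_of_le K (by omega) hc))
      rw [← assoc t, ← assoc π']
      exact Subobject.factors_of_factors_right _ hx
    · rw [← e₂]; simp

/-- The differential identifies the jump of the cycles with the jump of the boundaries. -/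
lemma nonempty_iso_jump (r : ℕ) (p n q m : ℤ) (hq : q = p + r) (hm : n + 1 = m) :
    Nonempty (sq (K.ZSub r p n) (K.ZSub (r + 1) p n) (ZSub_succ_le K r p n) ≅
      sq (K.BSub (r + 1) q m) (K.BSub r q m) (BSub_le_succ K r q m)) := by
  let W : Subobject (K.obj.X n) := F p n ⊓ pull (K.obj.d n m) (F q m)
  have hW : ∀ ⦃T : A⦄ {x : T ⟶ K.obj.X n}, W.Factors x →
      (F p n).Factors x ∧ (F q m).Factors (x ≫ K.obj.d n m) := fun T x hx => by
    obtain ⟨h₁, h₂⟩ := (Subobject.inf_factors _).1 hx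
    exact ⟨h₁, (pull_factors_iff x).1 h₂⟩
  have hf₁ : ∀ ⦃T : A⦄ (x : T ⟶ K.obj.X n), W.Factors x → (K.ZSub r p n).Factors (x ≫ 𝟙 _) :=
    fun T x hx => (mem_ZSub K r p n q m hq hm _).2 ⟨T, 𝟙 T, inferInstance, x, 0, (hW hx).1,
      (hW hx).2, Subobject.factors_zero, by simp⟩
  have hf₂ : ∀ ⦃T : A⦄ (x : T ⟶ K.obj.X n), W.Factors x →
      (K.BSub (r + 1) q m).Factors (x ≫ K.obj.d n m) := fun T x hx =>
    (mem_BSub K (r + 1) q m p n (by push_cast; omega) hm _).2 ⟨T, 𝟙 T, inferInstance, x, 0,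
      (hW hx).1, (hW hx).2, Subobject.factors_zero, by simp⟩
  have := epi_toSubquot (ZSub_succ_le K r p n) W (𝟙 _) hf₁ fun T y hy => by
    obtain ⟨T', π, hπ, a, b, ha, had, hb, e⟩ := (mem_ZSub K r p n q m hq hm y).1 hy
    exact ⟨T', π, hπ, a, b, (Subobject.inf_factors _).2 ⟨ha, (pull_factors_iff a).2 had⟩,
      Subobject.factors_of_le _ le_sup_right hb, by rw [comp_id, e]⟩
  have := epi_toSubquot (BSub_le_succ K r q m) W (K.obj.d n m) hf₂ fun T y hy => by
    obtain ⟨T', π, hπ, z, b, hz, hzd, hb, e⟩ :=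
      (mem_BSub K (r + 1) q m p n (by push_cast; omega) hm y).1 hy
    exact ⟨T', π, hπ, z, b, (Subobject.inf_factors _).2 ⟨hz, (pull_factors_iff z).2 hzd⟩,
      Subobject.factors_of_le _ le_sup_right hb, e⟩
  refine nonempty_iso_of_epi (toSubquot (ZSub_succ_le K r p n) W (𝟙 _) hf₁)
    (toSubquot (BSub_le_succ K r q m) W (K.obj.d n m) hf₂) fun T t => ?_
  rw [toSubquot_eq_zero_iff, toSubquot_eq_zero_iff, comp_id]
  obtain ⟨hx, hxd⟩ := hW (Subobject.factors_comp_arrow (P := W) t)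
  constructor
  · intro hZ
    obtain ⟨T', π, _, a, b, ha, had, hb, e⟩ :=
      (mem_ZSub K (r + 1) p n (q + 1) m (by push_cast; omega) hm _).1 hZ
    refine (mem_BSub K r q m (p + 1) n (by omega) hm _).2
      ⟨T', π, inferInstance, b, a ≫ K.obj.d n m, hb, ?_, had, ?_⟩
    · rw [eq_sub_of_add_eq' e.symm, Preadditive.sub_comp, assoc]
      exact factors_sub (Subobject.factors_of_factors_right _ hxd) (mem_of_le K (by omega) had)
    · rw [← assoc π, e, Preadditive.add_comp, add_comm]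
  · intro hB
    obtain ⟨T', π, _, z, b, hz, -, hb, e⟩ := (mem_BSub K r q m (p + 1) n (by omega) hm _).1 hB
    refine (mem_ZSub K (r + 1) p n (q + 1) m (by push_cast; omega) hm _).2
      ⟨T', π, inferInstance, π ≫ t ≫ W.arrow - z, z,
        factors_sub (Subobject.factors_of_factors_right _ hx) (mem_of_le K (by omega) hz), ?_, hz, ?_⟩
    · simp only [assoc] at e
      rw [Preadditive.sub_comp, assoc, assoc, e, add_sub_cancel_left]
      exact hb
    · rw [sub_add_cancel]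

end FilCx

end Groth.Agent.DSites.FilSS
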