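import Groth.Agent.DSites.FilSS

/-!
# Pages in a weak Serre class
-/

set_option autoImplicit false
set_option maxHeartbeats 1000000
set_option linter.style.haveILetI false

universe v u

open CategoryTheory CategoryTheory.Limits CategoryTheory.Category SpSeq SpSeq.FilCx
open Groth.Agent.SubLat Groth.Agent.DSites.FilSS

namespace Groth.Agent.DSites.FilSerre

variable {A : Type u} [Category.{v} A] [Abelian A] {P : ObjectProperty A}
  [P.IsClosedUnderIsomorphisms] (h0 : ∃ Z : A, IsZero Z ∧ P Z)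
  (hP : ∀ S : ComposableArrows A 4, S.Exact → P (S.obj 0) → P (S.obj 1) → P (S.obj 3) → P (S.obj 4) → P (S.obj 2))

omit [P.IsClosedUnderIsomorphisms] in
include hP in
lemma prop_mid {F₀ F₁ F₂ F₃ F₄ : A} (f₀ : F₀ ⟶ F₁) (f₁ : F₁ ⟶ F₂) (f₂ : F₂ ⟶ F₃) (f₃ : F₃ ⟶ F₄)
    (w₀ : f₀ ≫ f₁ = 0) (w₁ : f₁ ≫ f₂ = 0) (w₂ : f₂ ≫ f₃ = 0)
    (h₀ : (ShortComplex.mk f₀ f₁ w₀).Exact) (h₁ : (ShortComplex.mk f₁ f₂ w₁).Exact)
    (h₂ : (ShortComplex.mk f₂ f₃ w₂).Exact) (p₀ : P F₀) (p₁ : P F₁) (p₃ : P F₃) (p₄ : P F₄) : P F₂ :=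
  hP (ComposableArrows.mk₄ f₀ f₁ f₂ f₃)
    (ComposableArrows.exact_of_δ₀ h₀.exact_toComposableArrows
      (ComposableArrows.exact_of_δ₀ h₁.exact_toComposableArrows h₂.exact_toComposableArrows))
    p₀ p₁ p₃ p₄

include h0 hP

lemma prop_zero {X : A} (hX : IsZero X) : P X := by
  obtain ⟨Z, hZ, hPZ⟩ := h0
  exact P.prop_of_iso (hZ.iso hX) hPZ

omit [P.IsClosedUnderIsomorphisms] in
lemma prop_kernel {X Y : A} (f : X ⟶ Y) (hX : P X) (hY : P Y) : P (kernel f) := by
  obtain ⟨Z, hZ, hPZ⟩ := h0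
  exact prop_mid hP (0 : Z ⟶ Z) (0 : Z ⟶ kernel f) (kernel.ι f) f (by simp) (by simp)
    (kernel.condition f) (ShortComplex.exact_of_isZero_X₂ _ hZ)
    ((ShortComplex.exact_iff_mono _ rfl).2 (show Mono (kernel.ι f) from inferInstance))
    (ShortComplex.exact_of_f_is_kernel _ (kernelIsKernel f)) hPZ hPZ hX hY

omit [P.IsClosedUnderIsomorphisms] in
lemma prop_cokernel {X Y : A} (f : X ⟶ Y) (hX : P X) (hY : P Y) : P (cokernel f) := by
  obtain ⟨Z, hZ, hPZ⟩ := h0
  exact prop_mid hP f (cokernel.π f) (0 : cokernel f ⟶ Z) (0 : Z ⟶ Z) (cokernel.condition f)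
    (by simp) (by simp) (ShortComplex.exact_of_g_is_cokernel _ (cokernelIsCokernel f))
    ((ShortComplex.exact_iff_epi _ rfl).2 (show Epi (cokernel.π f) from inferInstance))
    (ShortComplex.exact_of_isZero_X₂ _ hZ) hX hY hPZ hPZ

lemma prop_X₁ {S : ShortComplex A} (hS : S.ShortExact) (h₂ : P S.X₂) (h₃ : P S.X₃) : P S.X₁ :=
  haveI := hS.mono_f
  P.prop_of_iso (IsLimit.conePointUniqueUpToIso (kernelIsKernel S.g) hS.fIsKernel)
    (prop_kernel h0 hP S.g h₂ h₃)

lemma prop_X₃ {S : ShortComplex A} (hS : S.ShortExact) (h₁ : P S.X₁) (h₂ : P S.X₂) : P S.X₃ :=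
  haveI := hS.epi_g
  P.prop_of_iso (IsColimit.coconePointUniqueUpToIso (cokernelIsCokernel S.f) hS.gIsCokernel)
    (prop_cokernel h0 hP S.f h₁ h₂)

omit [P.IsClosedUnderIsomorphisms] in
lemma prop_X₂ {S : ShortComplex A} (hS : S.ShortExact) (h₁ : P S.X₁) (h₃ : P S.X₃) : P S.X₂ := by
  obtain ⟨Z, hZ, hPZ⟩ := h0
  haveI := hS.mono_f
  haveI := hS.epi_g
  exact prop_mid hP (0 : Z ⟶ S.X₁) S.f S.g (0 : S.X₃ ⟶ Z) (by simp) S.zero (by simp)
    ((ShortComplex.exact_iff_mono _ rfl).2 hS.mono_f) hS.exact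
    ((ShortComplex.exact_iff_epi _ rfl).2 hS.epi_g) hPZ h₁ h₃ hPZ

/-- The image of a morphism between objects of the class. -/
lemma prop_of_epi_mono {X Y I : A} (e : X ⟶ I) (m : I ⟶ Y) [Epi e] [Mono m] (hX : P X) (hY : P Y) :
    P I := by
  have hk : P (kernel e) := P.prop_of_iso (kernelCompMono e m) (prop_kernel h0 hP (e ≫ m) hX hY)
  exact prop_X₃ h0 hP (S := ShortComplex.mk _ _ (kernel.condition e))
    { exact := ShortComplex.exact_of_f_is_kernel _ (kernelIsKernel e) } hk hX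

lemma page_succ (K : FilCx A) (r : ℕ) (hr : ∀ p n : ℤ, P (K.E r p n)) (p n : ℤ) :
    P (K.E (r + 1) p n) := by
  have hb : ∀ p n : ℤ, P (sq (K.BSub (r + 1) p n) (K.BSub r p n) (BSub_le_succ K r p n)) ∧
      P (sq (K.ZSub r (p - r) (n - 1)) (K.ZSub (r + 1) (p - r) (n - 1)) (ZSub_succ_le K r _ _)) := by
    intro p n
    obtain ⟨e⟩ := nonempty_iso_jump K r (p - r) (n - 1) p n (by omega) (by omega)
    obtain ⟨f, g, w, hS⟩ := exists_shortExact (K.BSub_le_ZSub r (p - r) (n - 1))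
      (((BSub_le_succ K r _ _).trans (K.BSub_le_ZSub (r + 1) _ _)))
      (ZSub_succ_le K r (p - r) (n - 1))
    obtain ⟨f', g', w', hS'⟩ := exists_shortExact (K.BSub_le_ZSub r p n)
      (BSub_le_succ K r p n) ((K.BSub_le_ZSub (r + 1) p n).trans (ZSub_succ_le K r p n))
    haveI := hS.epi_g
    haveI := hS'.mono_f
    have hI := prop_of_epi_mono h0 hP g (e.hom ≫ f') (hr _ _) (hr p n)
    exact ⟨P.prop_of_iso e hI, hI⟩
  have hM : P (sq (K.ZSub (r + 1) p n) (K.BSub r p n)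
      ((BSub_le_succ K r p n).trans (K.BSub_le_ZSub (r + 1) p n))) := by
    obtain ⟨f, g, w, hS⟩ := exists_shortExact (K.BSub_le_ZSub r p n)
      ((BSub_le_succ K r p n).trans (K.BSub_le_ZSub (r + 1) p n)) (ZSub_succ_le K r p n)
    have h := (hb (p + r) (n + 1)).2
    have key : ∀ p' n' : ℤ, p' = p → n' = n →
        P (sq (K.ZSub r p' n') (K.ZSub (r + 1) p' n') (ZSub_succ_le K r p' n')) →
        P (sq (K.ZSub r p n) (K.ZSub (r + 1) p n) (ZSub_succ_le K r p n)) := by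
      rintro p' n' rfl rfl h
      exact h
    exact prop_X₁ h0 hP hS (hr p n) (key _ _ (by omega) (by omega) h)
  obtain ⟨f, g, w, hS⟩ := exists_shortExact
    ((BSub_le_succ K r p n).trans (K.BSub_le_ZSub (r + 1) p n)) (BSub_le_succ K r p n)
    (K.BSub_le_ZSub (r + 1) p n)
  exact prop_X₃ h0 hP hS (hb p n).1 hM

theorem homology_mem (K : FilCx A) (hK : ∀ n : ℤ, (K.XFil n).IsFinite) (r : ℕ)
    (hr : ∀ p n : ℤ, P (K.E r p n)) (n : ℤ) : P (K.obj.homology n) := by
  choose a ha using fun n => (hK n).1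
  choose b hb using fun n => (hK n).2
  have ha' : ∀ n p, p ≤ a n → K.filX p n = ⊤ := fun n p hp =>
    top_le_iff.1 ((ha n).ge.trans (K.filX_anti n hp))
  have hb' : ∀ n p, b n ≤ p → K.filX p n = ⊥ := fun n p hp =>
    le_bot_iff.1 ((K.filX_anti n hp).trans (hb n).le)
  have hall : ∀ r', r ≤ r' → ∀ p n : ℤ, P (K.E r' p n) := fun r' h => by
    induction r', h using Nat.le_induction with
    | base => exact hr
    | succ k _ ih => exact page_succ h0 hP K k ih
  have hgr : ∀ p, P ((K.HFil n).gr p) := fun p => by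
    let R : ℕ := r + (b (n + 1) - p).toNat + (p + 1 - a (n - 1)).toNat
    have hZ : K.ZSub R p n = K.ZTop p n := by
      refine le_antisymm (le_iff_factors.2 fun T x hx => ?_) (ZTop_le_ZSub K R p n)
      obtain ⟨T', π, hπ, c, d, hc, hcd, hd, e⟩ := (mem_ZSub K R p n _ _ rfl rfl x).1 hx
      rw [hb' (n + 1) _ (by omega), Subobject.bot_factors_iff_zero] at hcd
      exact (mem_ZTop K p n _ rfl x).2 ⟨T', π, hπ, c, d, hc, hcd, hd, e⟩
    have hB : K.BSub R p n = K.BBot p n := by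
      refine le_antisymm (BSub_le_BBot K R p n) (le_iff_factors.2 fun T x hx => ?_)
      obtain ⟨T', π, hπ, u, d, hu, hd, e⟩ := (mem_BBot K p n (n - 1) (by omega) x).1 hx
      refine (mem_BSub K R p n _ (n - 1) rfl (by omega) x).2 ⟨T', π, hπ, u, d, ?_, hu, hd, e⟩
      rw [ha' (n - 1) _ (by omega)]
      exact Subobject.top_factors _
    have key : ∀ (Z B : Subobject (K.obj.X n)) (h : B ≤ Z), Z = K.ZTop p n → B = K.BBot p n →
        P (subquot Z B h) → P ((K.HFil n).gr p) := by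
      rintro Z B h rfl rfl hE
      obtain ⟨e⟩ := nonempty_iso_gr K p n h
      exact P.prop_of_iso e hE
    exact key _ _ (K.BSub_le_ZSub R p n) hZ hB (hall R (by omega) p n)
  have hfil : ∀ k : ℕ, P ((K.filH (b n - k) n : Subobject (K.obj.homology n)) : A) := fun k => by
    induction k with
    | zero =>
      refine prop_zero h0 hP ?_
      rw [filH_eq_bot_of_filX K (hb' n _ (by simp))]
      open ZeroObject in exact (isZero_zero A).of_iso Subobject.botCoeIsoZero
    | succ k ih =>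
      have hle : K.filH (b n - k) n ≤ K.filH (b n - (k + 1 : ℕ)) n :=
        K.filH_anti n (by push_cast; omega)
      have key : ∀ p q : ℤ, p + 1 = q → P ((K.filH q n : Subobject _) : A) →
          P ((K.filH p n : Subobject _) : A) := by
        rintro p q rfl hq
        exact prop_X₂ h0 hP (S := ShortComplex.mk
            ((K.filH (p + 1) n).ofLE (K.filH p n) (K.filH_anti n (by omega))) (cokernel.π _)
            (cokernel.condition _))
          { exact := ShortComplex.exact_of_g_is_cokernel _ (cokernelIsCokernel _) } hq (hgr p)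
      exact key _ _ (by push_cast; omega) ih
  have htop : K.filH (b n - ((b n - a n).toNat : ℕ)) n = ⊤ :=
    filH_eq_top_of_filX K (ha' n _ (by omega))
  have h := hfil (b n - a n).toNat
  rw [htop] at h
  exact P.prop_of_iso (asIso (⊤ : Subobject (K.obj.homology n)).arrow) h

end Groth.Agent.DSites.FilSerre
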