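import Groth.Agent.DSites.CE.Mid
import Groth.Prelude.Def_SpSeq

/-!
# Filtered injective resolutions of finitely filtered objects
-/

set_option autoImplicit false
set_option maxHeartbeats 1000000

universe v u

open CategoryTheory CategoryTheory.Limits CategoryTheory.Category

noncomputable section

namespace Groth.Agent.DSites.FiltRes

variable {C : Type u} [Category.{v} C] [Abelian C]

lemma isZero_of_forall {K : CochainComplex C ℕ} (h : ∀ n, IsZero (K.X n)) : IsZero K := by
  rw [IsZero.iff_id_eq_zero]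
  ext n
  exact (h n).eq_of_src _ _

lemma isZero_X_of_isZero {K : CochainComplex C ℕ} (h : IsZero K) (n : ℕ) : IsZero (K.X n) :=
  Functor.map_isZero (HomologicalComplex.eval C _ n) h

/-- A resolution which vanishes for zero objects. -/
lemma exists_res_zero [EnoughInjectives C] (M : C) :
    ∃ R : InjectiveResolution M, IsZero M → IsZero R.cocomplex := by
  by_cases hM : IsZero M
  · obtain ⟨Z, hZ⟩ := HasZeroObject.zero (C := C)
    let C₀ : CochainComplex C ℕ :=
      { X := fun _ => Z, d := fun _ _ => 0, shape := fun _ _ _ => rfl }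
    let R : InjectiveResolution M :=
      { cocomplex := C₀
        injective := fun _ => hZ.injective
        ι := 0
        quasiIso := ⟨fun n => (quasiIsoAt_iff_exactAt _ n
          (ShortComplex.exact_of_isZero_X₂ _ (by
            rcases n with _ | n
            · exact IsZero.of_iso hM
                (show ((CochainComplex.single₀ C).obj M).X 0 ≅ M from
                  HomologicalComplex.singleObjXSelf (ComplexShape.up ℕ) 0 M)
            · exact HomologicalComplex.isZero_single_obj_X (ComplexShape.up ℕ) 0 M (n + 1)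
                n.succ_ne_zero))).2
          (ShortComplex.exact_of_isZero_X₂ _ hZ)⟩ }
    exact ⟨R, fun _ => isZero_of_forall fun _ => hZ⟩
  · exact ⟨injectiveResolution M, fun h => absurd h hM⟩

lemma isIso_stepLE {K : SpSeq.FilObj C} {p q : ℤ} (h : p ≤ q) (e : K.fil q = K.fil p) :
    IsIso (K.stepLE h) :=
  ⟨(K.fil p).ofLE (K.fil q) e.ge, (Subobject.ofLE_comp_ofLE _ _ _ _ _).trans (Subobject.ofLE_refl _),
    (Subobject.ofLE_comp_ofLE _ _ _ _ _).trans (Subobject.ofLE_refl _)⟩

lemma isZero_step {K : SpSeq.FilObj C} {p : ℤ} (h : K.fil p = ⊥) : IsZero (K.step p) := by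
  haveI : IsIso (𝟙 (K.step p)) := inferInstance
  rw [IsZero.iff_id_eq_zero, ← cancel_mono (K.fil p).arrow, id_comp, zero_comp,
    ← Subobject.mk_eq_bot_iff_zero (f := (K.fil p).arrow), Subobject.mk_arrow]
  exact h

theorem chain [EnoughInjectives C] (K : SpSeq.FilObj C) (b : ℤ) (hb : K.fil b = ⊥) :
    ∀ (k : ℕ) (i : ℤ), i + k = b →
      ∃ (R : InjectiveResolution (K.step i)) (G : ℤ → Subobject R.cocomplex), Antitone G ∧
        (K.fil i = ⊥ → IsZero R.cocomplex) ∧ (∀ l, l ≤ i → G l = ⊤) ∧
        (∀ l, i ≤ l → K.fil l = K.fil i → G l = ⊤) ∧ (∀ l, K.fil l = ⊥ → G l = ⊥) ∧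
        ∀ (l : ℤ) (hl : i ≤ l), (∀ j : ℕ, Injective ((G l : CochainComplex C ℕ).X j)) ∧
          ∃ ι : (CochainComplex.single₀ C).obj (K.step l) ⟶ (G l : CochainComplex C ℕ),
            ι ≫ (G l).arrow = (CochainComplex.single₀ C).map (K.stepLE hl) ≫ R.ι ∧ QuasiIso ι := by
  intro k
  induction k with
  | zero =>
    intro i hi
    simp only [Nat.cast_zero, add_zero] at hi
    subst hi
    obtain ⟨R, hR⟩ := exists_res_zero (K.step i)
    have hz : IsZero R.cocomplex := hR (isZero_step hb)
    refine ⟨R, fun _ => ⊤, fun _ _ _ => le_rfl, fun _ => hz, fun _ _ => rfl, fun _ _ _ => rfl,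
      fun l _ => ?_, fun l hl => ⟨fun j => ?_, ?_⟩⟩
    · exact Subobject.eq_of_comm (IsZero.iso (hz.of_iso (asIso (⊤ : Subobject R.cocomplex).arrow))
          (IsZero.of_mono (⊥ : Subobject R.cocomplex).arrow hz)) (hz.eq_of_tgt _ _)
    · exact Injective.of_iso (HomologicalComplex.Hom.isoApp
        (asIso (⊤ : Subobject R.cocomplex).arrow).symm j) (R.injective j)
    · haveI : IsIso (K.stepLE hl) := isIso_stepLE hl
        ((le_antisymm ((K.anti hl).trans hb.le) bot_le).trans hb.symm)
      haveI : IsIso ((CochainComplex.single₀ C).map (K.stepLE hl)) := inferInstance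
      exact ⟨(CochainComplex.single₀ C).map (K.stepLE hl) ≫ R.ι ≫
        inv (⊤ : Subobject R.cocomplex).arrow, by simp, inferInstance⟩
  | succ k ih =>
    intro i' hi'
    obtain ⟨R, G, hG, hz, htop, htop', hbot, hι⟩ := ih (i' + 1) (by push_cast at hi'; omega)
    let S := ShortComplex.mk (K.stepLE (p := i') (q := i' + 1) (by omega)) (cokernel.π _)
      (cokernel.condition _)
    have hS : S.ShortExact := { exact := ShortComplex.exact_cokernel _ }
    obtain ⟨R₃, hR₃⟩ := exists_res_zero S.X₃
    obtain ⟨R', f, g, w, hf, -, hse, hzmid⟩ := CE.exists_mid hS R R₃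
    haveI : Mono f := hse.mono_f
    let G' : ℤ → Subobject R'.cocomplex := fun l =>
      if l ≤ i' then ⊤ else Subobject.mk ((G l).arrow ≫ f)
    have hG'₁ : ∀ l, l ≤ i' → G' l = ⊤ := fun l hl => if_pos hl
    have hG'₂ : ∀ l, ¬ l ≤ i' → G' l = Subobject.mk ((G l).arrow ≫ f) := fun l hl => if_neg hl
    have hz' : K.fil i' = ⊥ → IsZero R'.cocomplex := fun h => by
      have h₁ : K.fil (i' + 1) = ⊥ := le_antisymm ((K.anti (by omega)).trans h.le) bot_le
      refine isZero_of_forall fun n => hzmid n (isZero_X_of_isZero (hz h₁) n)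
        (isZero_X_of_isZero (hR₃ ?_) n)
      exact IsZero.of_epi (cokernel.π S.f) (isZero_step h)
    refine ⟨R', G', fun l l' hll => ?_, hz', hG'₁, fun l hl he => ?_, fun l he => ?_,
      fun l hl => ?_⟩
    · by_cases h : l ≤ i'
      · rw [hG'₁ l h]
        exact le_top
      · rw [hG'₂ l h, hG'₂ l' (by omega)]
        exact Subobject.mk_le_mk_of_comm ((G l').ofLE (G l) (hG hll))
          ((assoc _ _ _).symm.trans (congrArg (· ≫ f) (Subobject.ofLE_arrow _)))
    · by_cases h : l ≤ i'
      · exact hG'₁ l h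
      · have he' : K.fil (i' + 1) = K.fil i' :=
          le_antisymm (K.anti (by omega)) (he.ge.trans (K.anti (show i' + 1 ≤ l by omega)))
        haveI : IsIso (K.stepLE (p := i') (q := i' + 1) (by omega)) := isIso_stepLE _ he'
        have h₃ : IsZero R₃.cocomplex := hR₃ (isZero_cokernel_of_epi (K.stepLE _))
        haveI : Epi f := hse.exact.epi_f (h₃.eq_of_tgt _ _)
        haveI : IsIso f := isIso_of_mono_of_epi f
        haveI : IsIso (G l).arrow :=
          (Subobject.isIso_arrow_iff_eq_top _).2 (htop' l (by omega) (he.trans he'.symm))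
        rw [hG'₂ l h]
        exact (Subobject.isIso_iff_mk_eq_top _).1 inferInstance
    · by_cases h : l ≤ i'
      · have hzz : IsZero R'.cocomplex :=
          hz' (le_antisymm ((K.anti h).trans he.le) bot_le)
        rw [hG'₁ l h]
        refine Subobject.eq_of_comm (IsZero.iso (hzz.of_iso (asIso (⊤ : Subobject _).arrow))
          (IsZero.of_mono (⊥ : Subobject R'.cocomplex).arrow hzz)) (hzz.eq_of_tgt _ _)
      · rw [hG'₂ l h, Subobject.mk_eq_bot_iff_zero]
        have : (G l).arrow = 0 := by
          rw [← Subobject.mk_eq_bot_iff_zero (f := (G l).arrow), Subobject.mk_arrow, hbot l he]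
        rw [this, zero_comp]
    · by_cases h : l ≤ i'
      · obtain rfl : l = i' := le_antisymm h hl
        rw [hG'₁ l h]
        refine ⟨fun j => Injective.of_iso (HomologicalComplex.Hom.isoApp
          (asIso (⊤ : Subobject R'.cocomplex).arrow).symm j) (R'.injective j), ?_⟩
        haveI : IsIso (K.stepLE hl) := isIso_stepLE hl rfl
        exact ⟨(CochainComplex.single₀ C).map (K.stepLE hl) ≫ R'.ι ≫
          inv (⊤ : Subobject R'.cocomplex).arrow, by simp, inferInstance⟩
      · obtain ⟨hinj, ι, hι₁, hι₂⟩ := hι l (by omega)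
        rw [hG'₂ l h]
        refine ⟨fun j => Injective.of_iso (HomologicalComplex.Hom.isoApp
          (Subobject.underlyingIso ((G l).arrow ≫ f)).symm j) (hinj j), ?_⟩
        refine ⟨ι ≫ (Subobject.underlyingIso ((G l).arrow ≫ f)).inv, ?_, inferInstance⟩
        rw [assoc, Subobject.underlyingIso_arrow, ← assoc, hι₁, assoc, hf, ← assoc,
          ← Functor.map_comp]
        exact congrArg (fun z => (CochainComplex.single₀ C).map z ≫ R'.ι)
          (Subobject.ofLE_comp_ofLE _ _ _ _ _)

theorem exists_filtered_resolution [EnoughInjectives C] (K : SpSeq.FilObj C) (hK : K.IsFinite) :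
    ∃ (X : InjectiveResolution K.obj) (G : ℤ → Subobject X.cocomplex), Antitone G ∧
      (∀ i : ℤ, K.fil i = ⊤ → G i = ⊤) ∧ (∀ i : ℤ, K.fil i = ⊥ → G i = ⊥) ∧
      ∀ i : ℤ, (∀ j : ℕ, Injective ((G i : CochainComplex C ℕ).X j)) ∧
        ∃ ι : (CochainComplex.single₀ C).obj (K.step i) ⟶ (G i : CochainComplex C ℕ),
          ι ≫ (G i).arrow = (CochainComplex.single₀ C).map (K.fil i).arrow ≫ X.ι ∧ QuasiIso ι := by
  obtain ⟨⟨a, ha⟩, b, hb⟩ := hK
  obtain ⟨R, G, hG, -, htop, htop', hbot, hι⟩ := chain K (max a b)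
    (le_antisymm ((K.anti (le_max_right a b)).trans hb.le) bot_le) (max a b - a).toNat a (by omega)
  haveI : IsIso (K.fil a).arrow := (Subobject.isIso_arrow_iff_eq_top _).2 ha
  let X : InjectiveResolution K.obj :=
    { cocomplex := R.cocomplex
      injective := R.injective
      ι := (CochainComplex.single₀ C).map (inv (K.fil a).arrow) ≫ R.ι }
  refine ⟨X, G, hG, fun i hi => ?_, hbot, fun i => ?_⟩
  · rcases le_total i a with h | h
    · exact htop i h
    · exact htop' i h (hi.trans ha.symm)
  · rcases le_total a i with h | h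
    · obtain ⟨hinj, ι, hι₁, hι₂⟩ := hι i h
      refine ⟨hinj, ι, hι₁.trans ?_, hι₂⟩
      show _ = _ ≫ (CochainComplex.single₀ C).map (inv (K.fil a).arrow) ≫ R.ι
      rw [← assoc, ← Functor.map_comp, ← Subobject.ofLE_arrow (K.anti h), assoc,
        IsIso.hom_inv_id, comp_id]
    · have hi : K.fil i = ⊤ := le_antisymm le_top (ha.ge.trans (K.anti h))
      haveI : IsIso (G i).arrow := (Subobject.isIso_arrow_iff_eq_top _).2 (htop i h)
      haveI : IsIso (K.fil i).arrow := (Subobject.isIso_arrow_iff_eq_top _).2 hi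
      exact ⟨fun j => Injective.of_iso (HomologicalComplex.Hom.isoApp (asIso (G i).arrow).symm j)
          (R.injective j),
        (CochainComplex.single₀ C).map (K.fil i).arrow ≫ X.ι ≫ inv (G i).arrow, by simp,
        inferInstance⟩

end Groth.Agent.DSites.FiltRes
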