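import Groth.Agent.DSites.DCat
import Groth.Agent.H9Misc.LeftAdjExists
import Groth.Agent.KFlatLib.PsiC
import Groth.Agent.SiteBase.NerveCech
import Groth.Agent.SiteBase.ModGroth
import Groth.Agent.SiteBase.ModKill
import Groth.Agent.SiteBase.ModColim
import Groth.Prelude.Def_SiteCmp
import Mathlib.CategoryTheory.Adjunction.AdjointFunctorTheorems
import Mathlib.CategoryTheory.Abelian.GrothendieckCategory.Coseparator

/-!
# The derived forgetful functor from sheaves of modules to abelian sheaves

It is conservative, commutes with cohomology and preserves products.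
-/

set_option autoImplicit false
set_option linter.style.haveILetI false

universe w u

open CategoryTheory CategoryTheory.Limits DerivedCategory

namespace Groth.Agent.DSites

section Transfer

universe w' v v' u' u''

/-- An equivalence between two models of the derived category commuting with exact functors. -/
lemma preservesLimitsOfShape_mapDerivedCategory_of_model
    {A : Type u'} [Category.{v} A] [Abelian A] {B : Type u''} [Category.{v'} B] [Abelian B]
    (F : A ⥤ B) [F.Additive] [PreservesFiniteLimits F] [PreservesFiniteColimits F]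
    (hA : HasDerivedCategory.{w} A) (hA' : HasDerivedCategory.{max u' v} A)
    (hB : HasDerivedCategory.{w'} B) (hB' : HasDerivedCategory.{max u'' v'} B)
    (K : Type*) [Category* K]
    [h : letI := hA'; letI := hB'; PreservesLimitsOfShape K F.mapDerivedCategory] :
    letI := hA; letI := hB; PreservesLimitsOfShape K F.mapDerivedCategory := by
  let WA := HomologicalComplex.quasiIso A (ComplexShape.up ℤ)
  let WB := HomologicalComplex.quasiIso B (ComplexShape.up ℤ)
  let QA := (letI := hA; DerivedCategory.Q (C := A))
  let QA' := (letI := hA'; DerivedCategory.Q (C := A))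
  let QB := (letI := hB; DerivedCategory.Q (C := B))
  let QB' := (letI := hB'; DerivedCategory.Q (C := B))
  haveI : QA.IsLocalization WA := letI := hA; inferInstance
  haveI : QA'.IsLocalization WA := letI := hA'; inferInstance
  haveI : QB.IsLocalization WB := letI := hB; inferInstance
  haveI : QB'.IsLocalization WB := letI := hB'; inferInstance
  let eA := Localization.uniq QA QA' WA
  let eB := Localization.uniq QB' QB WB
  let Φ := (letI := hA; letI := hB; F.mapDerivedCategory)
  let Φ' := (letI := hA'; letI := hB'; F.mapDerivedCategory)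
  let fΦ : QA ⋙ Φ ≅ F.mapHomologicalComplex _ ⋙ QB :=
    (letI := hA; letI := hB; F.mapDerivedCategoryFactors)
  let fΦ' : QA' ⋙ Φ' ≅ F.mapHomologicalComplex _ ⋙ QB' :=
    (letI := hA'; letI := hB'; F.mapDerivedCategoryFactors)
  letI : Localization.Lifting QA WA (F.mapHomologicalComplex _ ⋙ QB) Φ := ⟨fΦ⟩
  letI : Localization.Lifting QA WA (F.mapHomologicalComplex _ ⋙ QB)
      (eA.functor ⋙ Φ' ⋙ eB.functor) :=
    ⟨(Functor.associator _ _ _).symm ≪≫
      Functor.isoWhiskerRight (Localization.compUniqFunctor QA QA' WA) _ ≪≫
      (Functor.associator _ _ _).symm ≪≫ Functor.isoWhiskerRight fΦ' _ ≪≫ Functor.associator _ _ _ ≪≫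
      Functor.isoWhiskerLeft _ (Localization.compUniqFunctor QB' QB WB)⟩
  have e : eA.functor ⋙ Φ' ⋙ eB.functor ≅ Φ :=
    Localization.liftNatIso QA WA (F.mapHomologicalComplex _ ⋙ QB) (F.mapHomologicalComplex _ ⋙ QB)
      _ _ (Iso.refl _)
  haveI : PreservesLimitsOfShape K Φ' := h
  exact preservesLimitsOfShape_of_natIso e

end Transfer

variable {C : Type u} [SmallCategory C] {J : GrothendieckTopology C} (R : Sheaf J RingCat.{u})

open Groth.Agent.SiteBase

instance preservesFiniteColimits_toSheaf : PreservesFiniteColimits (SheafOfModules.toSheaf.{u} R) :=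
  haveI := preservesColimitsOfSize_toSheaf R
  PreservesColimitsOfSize.preservesFiniteColimits _

instance preservesLimits_toSheaf : PreservesLimitsOfSize.{u, u} (SheafOfModules.toSheaf.{u} R) :=
  have : PreservesLimitsOfSize.{u, u}
      (SheafOfModules.forget.{u} R ⋙ PresheafOfModules.toPresheaf R.obj) := inferInstance
  have : PreservesLimitsOfSize.{u, u}
      (SheafOfModules.toSheaf.{u} R ⋙ sheafToPresheaf J AddCommGrpCat.{u}) := this
  preservesLimits_of_reflects_of_preserves (SheafOfModules.toSheaf.{u} R)
    (sheafToPresheaf J AddCommGrpCat.{u})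

lemma isRightAdjoint_toSheaf : (SheafOfModules.toSheaf.{u} R).IsRightAdjoint :=
  isRightAdjoint_of_preservesLimits_of_isCoseparating
    (P := ObjectProperty.singleton (coseparator (SheafOfModules.{u} R)))
    (isCoseparator_coseparator _) _

section Products

attribute [local instance] HasDerivedCategory.standard

lemma isRightAdjoint_mapDerivedCategory_toSheaf_standard :
    ((SheafOfModules.toSheaf.{u} R).mapDerivedCategory).IsRightAdjoint := by
  have := isRightAdjoint_toSheaf R
  let adj := Adjunction.ofIsRightAdjoint (SheafOfModules.toSheaf.{u} R)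
  have := adj.left_adjoint_additive
  let G := SheafOfModules.toSheaf.{u} R
  let W := HomotopyCategory.quasiIso (SheafOfModules.{u} R) (ComplexShape.up ℤ)
  have hd : (G.mapHomotopyCategory (ComplexShape.up ℤ) ⋙ Qh).HasRightDerivedFunctor W :=
    haveI : G.mapDerivedCategory.IsRightDerivedFunctor G.mapDerivedCategoryFactorsh.inv W :=
      Functor.isRightDerivedFunctor_of_inverts W G.mapDerivedCategory G.mapDerivedCategoryFactorsh
    Functor.HasRightDerivedFunctor.mk' G.mapDerivedCategory G.mapDerivedCategoryFactorsh.inv
  have h := H9Misc.LeftAdjExists.isRightAdjoint_totalRightDerived adj (fun M => by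
    let F := (sheafCompose J (CategoryTheory.forget AddCommGrpCat.{u})).obj M
    refine ⟨freeSh F, (freeShEquiv F M).symm (𝟙 F), fun E hE n => ?_, ⟨fun g g' hg => ?_⟩⟩
    · exact isTotallyAcyclic_toSheaf_injective R E F n
    · apply (sheafCompose J (CategoryTheory.forget AddCommGrpCat.{u})).map_injective
      have := congrArg (freeShEquiv F _) hg
      rwa [freeShEquiv_comp, freeShEquiv_comp, Equiv.apply_symm_apply, Category.id_comp,
        Category.id_comp] at this)
  have : G.mapDerivedCategory.IsRightDerivedFunctor G.mapDerivedCategoryFactorsh.inv W :=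
    Functor.isRightDerivedFunctor_of_inverts W G.mapDerivedCategory G.mapDerivedCategoryFactorsh
  exact Functor.isRightAdjoint_of_iso (Functor.rightDerivedUnique _ G.mapDerivedCategory
    ((G.mapHomotopyCategory (ComplexShape.up ℤ) ⋙ Qh).totalRightDerivedUnit Qh W)
    G.mapDerivedCategoryFactorsh.inv W)

end Products

variable [hM : HasDerivedCategory.{w} (SheafOfModules.{u} R)]
  [hS : HasDerivedCategory.{u} (Sheaf J AddCommGrpCat.{u})]

/-- The derived forgetful functor. -/
noncomputable abbrev toSheafD : DerivedCategory (SheafOfModules.{u} R) ⥤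
    DerivedCategory (Sheaf J AddCommGrpCat.{u}) :=
  (SheafOfModules.toSheaf.{u} R).mapDerivedCategory

/-- The derived forgetful functor commutes with cohomology. -/
noncomputable def toSheafDHomology (q : ℤ) :
    toSheafD R ⋙ homologyFunctor (Sheaf J AddCommGrpCat.{u}) q ≅
      homologyFunctor (SheafOfModules.{u} R) q ⋙ SheafOfModules.toSheaf.{u} R :=
  KFlatLib.mapDCHomologyIso (SheafOfModules.toSheaf.{u} R) q

instance preservesLimitsOfShape_toSheafD (ι : Type) :
    PreservesLimitsOfShape (Discrete ι) (toSheafD R) :=
  haveI := isRightAdjoint_mapDerivedCategory_toSheaf_standard R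
  preservesLimitsOfShape_mapDerivedCategory_of_model (SheafOfModules.toSheaf.{u} R) hM
    (HasDerivedCategory.standard _) hS (HasDerivedCategory.standard _) (Discrete ι)
    (h := letI := HasDerivedCategory.standard (SheafOfModules.{u} R)
      letI := HasDerivedCategory.standard (Sheaf J AddCommGrpCat.{u})
      inferInstance)

lemma isIso_H_iff_toSheafD {X Y : DerivedCategory (SheafOfModules.{u} R)} (g : X ⟶ Y) (q : ℤ) :
    IsIso ((homologyFunctor _ q).map ((toSheafD R).map g)) ↔
      IsIso ((homologyFunctor (SheafOfModules.{u} R) q).map g) := by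
  refine (NatIso.isIso_map_iff (toSheafDHomology R q) g).trans ⟨fun h => ?_, fun h => ?_⟩
  · have h' : IsIso ((SheafOfModules.toSheaf.{u} R).map ((homologyFunctor _ q).map g)) := h
    exact isIso_of_reflects_iso _ (SheafOfModules.toSheaf.{u} R)
  · exact inferInstanceAs (IsIso ((SheafOfModules.toSheaf.{u} R).map _))

lemma isGE_toSheafD_obj (X : DerivedCategory (SheafOfModules.{u} R)) (n : ℤ) [X.IsGE n] :
    ((toSheafD R).obj X).IsGE n :=
  (isGE_iff _ _).2 fun i hi =>
    (Functor.map_isZero (SheafOfModules.toSheaf.{u} R) (isZero_of_isGE X n i hi)).of_iso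
      ((toSheafDHomology R i).app X)

/-- Cohomology of a module object as cohomology of the underlying abelian object. -/
noncomputable def hdIso (X : DerivedCategory (SheafOfModules.{u} R)) (q : ℤ) :
    CohCx.HD ((toSheafD R).obj X) q ≅
      (SheafOfModules.toSheaf.{u} R).obj ((homologyFunctor _ q).obj X) :=
  (toSheafDHomology R q).app X

end Groth.Agent.DSites
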