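import Groth.Agent.DSites.ResSystem
import Groth.Agent.ModTensor.FreeOn
import Groth.Agent.SiteBase.ModGroth

/-!
Sums of the modules `j_{U!} O_U`.
-/

universe u

open CategoryTheory CategoryTheory.Limits

namespace Groth.Agent.DSites

variable {C : Type u} [SmallCategory C] {J : GrothendieckTopology C} (O : Sheaf J CommRingCat.{u})

/-- Isomorphic to a direct sum of modules `j_{U!} O_U`. -/
def IsSumFreeOn (M : ModSite.Mod O) : Prop :=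
  ∃ (ι : Type u) (U : ι → C), Nonempty (M ≅ ∐ fun j => ModSite.freeOn O (U j))

lemma isSumFreeOn_zero : ∃ Z : ModSite.Mod O, IsZero Z ∧ IsSumFreeOn O Z :=
  ⟨∐ fun j : PEmpty.{u + 1} => ModSite.freeOn O (PEmpty.elim j : C),
    (IsZero.iff_id_eq_zero _).2 (Sigma.hom_ext _ _ fun j => j.elim), PEmpty, _, ⟨Iso.refl _⟩⟩

lemma isSumFreeOn_epi (M : ModSite.Mod O) : ∃ (Y : ModSite.Mod O) (π : Y ⟶ M), IsSumFreeOn O Y ∧ Epi π := by
  let ι := Σ U : C, (ModSite.freeOn O U ⟶ M)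
  refine ⟨∐ fun j : ι => ModSite.freeOn O j.1, Sigma.desc (fun j : ι => j.2), ⟨ι, _, ⟨Iso.refl _⟩⟩, ⟨fun {N} a b h => ?_⟩⟩
  refine ModTensor.isSeparating_freeOn Set.univ
    (fun X => ⟨PUnit, fun _ => X, fun _ => 𝟙 X, ?_, fun _ => trivial⟩) a b ?_
  · convert J.top_mem X
    rw [eq_top_iff]
    intro W g _
    exact ⟨X, g, 𝟙 X, ⟨PUnit.unit⟩, Category.comp_id g⟩
  · intro G hG s
    obtain ⟨U⟩ := hG
    have := Sigma.ι (fun j : ι => ModSite.freeOn O j.1) ⟨U.1, s⟩ ≫= h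
    simpa using this

lemma isSumFreeOn_biprod {M N : ModSite.Mod O} (hM : IsSumFreeOn O M) (hN : IsSumFreeOn O N) :
    IsSumFreeOn O (M ⊞ N) := by
  obtain ⟨ι, U, ⟨e⟩⟩ := hM
  obtain ⟨κ, V, ⟨e'⟩⟩ := hN
  refine ⟨ι ⊕ κ, Sum.elim U V, ⟨biprod.mapIso e e' ≪≫ ?_⟩⟩
  let F := fun j : ι ⊕ κ => ModSite.freeOn O (Sum.elim U V j)
  let m : ∀ j, F j ⟶ (∐ fun i => ModSite.freeOn O (U i)) ⊞ (∐ fun k => ModSite.freeOn O (V k)) := fun j => match j with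
    | Sum.inl i => Sigma.ι (fun i => ModSite.freeOn O (U i)) i ≫ biprod.inl
    | Sum.inr k => Sigma.ι (fun k => ModSite.freeOn O (V k)) k ≫ biprod.inr
  have hm : ∀ j, Sigma.ι F j ≫ Sigma.desc m = m j := fun j => Sigma.ι_desc m j
  refine
    { hom := biprod.desc (Sigma.desc fun i => Sigma.ι F (Sum.inl i)) (Sigma.desc fun k => Sigma.ι F (Sum.inr k))
      inv := Sigma.desc m
      hom_inv_id := ?_
      inv_hom_id := ?_ }
  · apply biprod.hom_ext'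
    · refine Sigma.hom_ext _ _ fun i => ?_
      rw [biprod.inl_desc_assoc, Sigma.ι_desc_assoc, Category.comp_id]
      exact hm (Sum.inl i)
    · refine Sigma.hom_ext _ _ fun k => ?_
      rw [biprod.inr_desc_assoc, Sigma.ι_desc_assoc, Category.comp_id]
      exact hm (Sum.inr k)
  · refine Sigma.hom_ext _ _ fun j => ?_
    refine ((Category.assoc _ _ _).symm.trans (congrArg (· ≫ _) (hm j))).trans ?_
    rcases j with i | k
    · exact (Category.assoc _ _ _).trans ((congrArg (_ ≫ ·) (biprod.inl_desc _ _)).trans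
        ((Sigma.ι_desc _ _).trans (Category.comp_id _).symm))
    · exact (Category.assoc _ _ _).trans ((congrArg (_ ≫ ·) (biprod.inr_desc _ _)).trans
        ((Sigma.ι_desc _ _).trans (Category.comp_id _).symm))

theorem exists_freeOn_system (G : CochainComplex (ModSite.Mod O) ℤ) :
    ∃ (Kc : ℕ ⥤ CochainComplex (ModSite.Mod O) ℤ) (π : ∀ n : ℕ, Kc.obj n ⟶ G.truncLE ((n : ℤ) + 1)),
      (∀ n : ℕ, Kc.map (homOfLE (Nat.le_succ n)) ≫ π (n + 1) ≫ G.ιTruncLE (((n + 1 : ℕ) : ℤ) + 1) =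
        π n ≫ G.ιTruncLE ((n : ℤ) + 1)) ∧
      (∀ n : ℕ, QuasiIso (π n) ∧ ∀ i : ℤ, Epi ((π n).f i)) ∧
      (∀ n : ℕ, ∃ b : ℤ, (Kc.obj n).IsStrictlyLE b) ∧
      (∀ (n : ℕ) (i : ℤ), IsSumFreeOn O ((Kc.obj n).X i)) ∧
      (∀ (n : ℕ) (i : ℤ), ∃ r : (Kc.obj (n + 1)).X i ⟶ (Kc.obj n).X i,
        (Kc.map (homOfLE (Nat.le_succ n))).f i ≫ r = 𝟙 _ ∧
        IsSumFreeOn O (cokernel ((Kc.map (homOfLE (Nat.le_succ n))).f i))) ∧
      ∃ c : colimit Kc ⟶ G, (∀ n : ℕ, colimit.ι Kc n ≫ c = π n ≫ G.ιTruncLE ((n : ℤ) + 1)) ∧ QuasiIso c :=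
  ResSystem.exists_system (IsSumFreeOn O) (isSumFreeOn_zero O) (isSumFreeOn_epi O)
    (fun hX hY => isSumFreeOn_biprod O hX hY)
    (fun e ⟨ι, U, ⟨e'⟩⟩ => ⟨ι, U, ⟨e.symm ≪≫ e'⟩⟩) G

end Groth.Agent.DSites
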