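import Groth.Agent.DSites.DerPi
import Mathlib.Algebra.Homology.HomotopyCategory.MappingCocone
import Mathlib.Algebra.Homology.HomotopyCategory.Triangulated
import Mathlib.Algebra.Homology.HomotopyCategory.KInjective

/-!
# Homotopy limits of sequences of complexes with eventually constant cohomology
-/

set_option autoImplicit false

universe t v u

open CategoryTheory CategoryTheory.Limits CategoryTheory.Category CochainComplex Pretriangulated

namespace Groth.Agent.DSites.HoLimPi

variable {B : Type u} [Category.{v} B] [Abelian B]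

/-- Solving `y n - y (n + 1) ≫ u n = x n` for a sequence which is eventually invertible. -/
lemma exists_sol : ∀ (N : ℕ) (H : ℕ → B) (u : ∀ n, H (n + 1) ⟶ H n),
    (∀ n, N ≤ n → IsIso (u n)) → ∀ {T : B} (x : ∀ n, T ⟶ H n),
      ∃ y : ∀ n, T ⟶ H n, ∀ n, y n - y (n + 1) ≫ u n = x n
  | 0, H, u, hu, T, x => by
    have : ∀ n, IsIso (u n) := fun n => hu n n.zero_le
    let y : ∀ n, T ⟶ H n :=
      fun n => Nat.rec (motive := fun n => T ⟶ H n) 0 (fun k r => (r - x k) ≫ inv (u k)) n
    refine ⟨y, fun n => ?_⟩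
    show y n - ((y n - x n) ≫ inv (u n)) ≫ u n = x n
    rw [assoc, IsIso.inv_hom_id, comp_id, sub_sub_cancel]
  | N + 1, H, u, hu, T, x => by
    obtain ⟨y', hy'⟩ := exists_sol N (fun n => H (n + 1)) (fun n => u (n + 1))
      (fun n hn => hu (n + 1) (by omega)) (fun n => x (n + 1))
    let y : ∀ n, T ⟶ H n := fun n => match n with
      | 0 => x 0 + y' 0 ≫ u 0
      | k + 1 => y' k
    refine ⟨y, fun n => ?_⟩
    match n with
    | 0 => exact add_sub_cancel_right _ _
    | k + 1 => exact hy' k

lemma eq_zero_of_sol (H : ℕ → B) (u : ∀ n, H (n + 1) ⟶ H n) (N : ℕ)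
    (hu : ∀ n, N ≤ n → IsIso (u n)) {T : B} (z : ∀ n, T ⟶ H n)
    (hz : ∀ n, z n = z (n + 1) ≫ u n) (h0 : z N = 0) (n : ℕ) : z n = 0 := by
  have up : ∀ k, z (N + k) = 0 := by
    intro k
    induction k with
    | zero => exact h0
    | succ k ih =>
      have := hu (N + k) (by omega)
      have e := hz (N + k)
      rw [ih] at e
      exact zero_of_comp_mono (u (N + k)) e.symm
  have down : ∀ m n, n + m = N → z n = 0 := by
    intro m
    induction m with
    | zero => rintro n rfl; exact h0
    | succ m ih => intro n hn; rw [hz, ih (n + 1) (by omega), zero_comp]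
  rcases le_total N n with h | h
  · obtain ⟨k, rfl⟩ : ∃ k, n = N + k := ⟨n - N, by omega⟩
    exact up k
  · exact down (N - n) n (by omega)

section Pi

variable {J : Type t} [HasLimitsOfShape (Discrete J) B] [HasExactLimitsOfShape (Discrete J) B]
  (M : J → CochainComplex B ℤ) (i : ℤ)

/-- Cohomology commutes with exact products. -/
lemma bijective_homology_pi (T : B) :
    Function.Bijective fun (g : T ⟶ (∏ᶜ M).homology i) (j : J) =>
      g ≫ HomologicalComplex.homologyMap (Pi.π M j) i := by
  let X : ℤ → (Discrete J ⥤ B) := fun n => Discrete.functor fun j => (M j).X n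
  let d : ∀ m n : ℤ, X m ⟶ X n := fun m n => Discrete.natTrans fun j => (M j.as).d m n
  let i₀ := (ComplexShape.up ℤ).prev i
  let i₁ := (ComplexShape.up ℤ).next i
  let S : ShortComplex (Discrete J ⥤ B) :=
    ShortComplex.mk (d i₀ i) (d i i₁) (by ext ⟨j⟩; exact (M j).d_comp_d _ _ _)
  have iso : ∀ n : ℤ, IsIso (limit.lift (X n) (Fan.mk _ fun j => (Pi.π M j).f n)) := fun n =>
    inferInstanceAs (IsIso (piComparison (HomologicalComplex.eval B (ComplexShape.up ℤ) n) M))
  let eX : ∀ n : ℤ, (∏ᶜ M).X n ≅ limit (X n) := fun n => @asIso _ _ _ _ _ (iso n)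
  have hX : ∀ (n : ℤ) (j : J), (eX n).hom ≫ limit.π (X n) ⟨j⟩ = (Pi.π M j).f n :=
    fun n j => limit.lift_π _ _
  have hd : ∀ m n : ℤ, (eX m).hom ≫ limMap (d m n) = (∏ᶜ M).d m n ≫ (eX n).hom := fun m n => by
    refine limit.hom_ext fun ⟨j⟩ => ?_
    rw [assoc, assoc, limMap_π, ← assoc, hX, hX, ← HomologicalComplex.Hom.comm]
    rfl
  let e : (∏ᶜ M).sc i ≅ (lim (J := Discrete J) (C := B)).mapShortComplex.obj S :=
    ShortComplex.isoMk (eX i₀) (eX i) (eX i₁) (hd i₀ i) (hd i i₁)
  let c : (∏ᶜ M).homology i ≅ limit S.homology :=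
    ShortComplex.homologyMapIso e ≪≫ S.mapHomologyIso (lim (J := Discrete J) (C := B))
  let ψ : ∀ j : J, (M j).homology i ≅ S.homology.obj ⟨j⟩ := fun j =>
    S.mapHomologyIso ((evaluation (Discrete J) B).obj ⟨j⟩)
  have hc : ∀ j : J, c.hom ≫ limit.π S.homology ⟨j⟩ =
      HomologicalComplex.homologyMap (Pi.π M j) i ≫ (ψ j).hom := fun j => by
    let τ : (lim (J := Discrete J) (C := B)) ⟶ (evaluation (Discrete J) B).obj ⟨j⟩ :=
      { app := fun G => limit.π G ⟨j⟩
        naturality := fun G G' f => limMap_π f ⟨j⟩ }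
    have hτ := NatTrans.app_homology τ S
    have key : ShortComplex.homologyMap e.hom ≫ ShortComplex.homologyMap (S.mapNatTrans τ) =
        HomologicalComplex.homologyMap (Pi.π M j) i := by
      refine (ShortComplex.homologyMap_comp _ _).symm.trans ?_
      show ShortComplex.homologyMap _ = ShortComplex.homologyMap
        ((HomologicalComplex.shortComplexFunctor B (ComplexShape.up ℤ) i).map (Pi.π M j))
      congr 1
      ext1
      · exact hX i₀ j
      · exact hX i j
      · exact hX i₁ j
    exact (assoc _ _ _).trans ((congrArg (ShortComplex.homologyMap e.hom ≫ ·)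
      ((congrArg ((S.mapHomologyIso (lim (J := Discrete J) (C := B))).hom ≫ ·) hτ).trans
        (Iso.hom_inv_id_assoc _ _))).trans ((assoc _ _ _).symm.trans (congrArg (· ≫ _) key)))
  refine ⟨fun g g' h => ?_, fun g => ?_⟩
  · rw [← cancel_mono c.hom]
    refine limit.hom_ext fun ⟨j⟩ => ?_
    rw [assoc, assoc, hc, ← assoc, ← assoc]
    exact congrArg (· ≫ _) (congrFun h j)
  · refine ⟨limit.lift S.homology ⟨T, Discrete.natTrans fun j => g j.as ≫ (ψ j.as).hom⟩ ≫ c.inv,
      funext fun j => ?_⟩
    dsimp only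
    rw [← cancel_mono (ψ j).hom, assoc, ← hc, assoc, Iso.inv_hom_id_assoc]
    exact limit.lift_π _ _

end Pi

section Cocone

variable {P : CochainComplex B ℤ} (δ : P ⟶ P)

lemma cocone_triangleh_distinguished :
    (HomotopyCategory.quotient B (ComplexShape.up ℤ)).mapTriangle.obj
      (mappingCocone.triangle δ) ∈ distTriang _ := by
  rw [rotate_distinguished_triangle]
  exact isomorphic_distinguished _ (HomotopyCategory.mappingCone_triangleh_distinguished δ) _
    (((HomotopyCategory.quotient B (ComplexShape.up ℤ)).mapTriangleRotateIso).app _ ≪≫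
      (HomotopyCategory.quotient B (ComplexShape.up ℤ)).mapTriangle.mapIso
        (mappingCocone.rotateTriangleIso δ))

lemma isKInjective_mappingCocone [P.IsKInjective] : (mappingCocone δ).IsKInjective := by
  rw [CochainComplex.isKInjective_iff_rightOrthogonal]
  exact ObjectProperty.ext_of_isTriangulatedClosed₁ _ _ (cocone_triangleh_distinguished δ)
    (CochainComplex.IsKInjective.rightOrthogonal P) (CochainComplex.IsKInjective.rightOrthogonal P)

lemma homologyMap_cocone_fst_δ (i : ℤ) :
    HomologicalComplex.homologyMap (mappingCocone.fst δ) i ≫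
      HomologicalComplex.homologyMap δ i = 0 := by
  have h := comp_distTriang_mor_zero₁₂ _ (cocone_triangleh_distinguished δ)
  have h' : (HomotopyCategory.quotient B (ComplexShape.up ℤ)).map (mappingCocone.fst δ) ≫
      (HomotopyCategory.quotient B (ComplexShape.up ℤ)).map δ = 0 := h
  rw [← Functor.map_comp] at h'
  rw [← HomologicalComplex.homologyMap_comp]
  refine ((HomotopyCategory.homotopyOfEq _ _ (h'.trans
    (Functor.map_zero _ _ _).symm)).homologyMap_eq i).trans ?_
  exact HomologicalComplex.homologyMap_zero _ _ _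

lemma mono_homologyMap_cocone_fst (i j : ℤ) (h : i + 1 = j)
    [Epi (HomologicalComplex.homologyMap δ i)] :
    Mono (HomologicalComplex.homologyMap (mappingCocone.fst δ) j) := by
  have hT := cocone_triangleh_distinguished δ
  let H := HomotopyCategory.homologyFunctor B (ComplexShape.up ℤ) 0
  let N := fun n => HomotopyCategory.homologyFunctorFactors B (ComplexShape.up ℤ) n
  have hepi : Epi ((H.shift i).map ((HomotopyCategory.quotient B (ComplexShape.up ℤ)).map δ)) := by
    refine ((MorphismProperty.epimorphisms B).arrow_mk_iso_iff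
      (Arrow.isoMk ((N i).app P) ((N i).app P) ((N i).hom.naturality δ).symm)).2 ?_
    exact inferInstanceAs (Epi (HomologicalComplex.homologyMap δ i))
  have hmono : Mono ((H.shift j).map
      ((HomotopyCategory.quotient B (ComplexShape.up ℤ)).map (mappingCocone.fst δ))) :=
    (H.homologySequence_mono_shift_map_mor₁_iff _ hT i j h).2
      ((H.homologySequence_epi_shift_map_mor₂_iff _ hT i j h).1 hepi)
  exact ((MorphismProperty.monomorphisms B).arrow_mk_iso_iff
    (Arrow.isoMk ((N j).app _) ((N j).app _) ((N j).hom.naturality _).symm)).1 hmono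

end Cocone

variable [HasLimitsOfShape (Discrete ℕ) B] [HasExactLimitsOfShape (Discrete ℕ) B]

/-- A complex maps quasi-isomorphically to the homotopy limit. -/
theorem exists_quasiIso_cocone (J : ℕ → CochainComplex B ℤ) (p : ∀ n, J (n + 1) ⟶ J n)
    (K : CochainComplex B ℤ) (a : ∀ n, K ⟶ J n) (ha : ∀ n, a (n + 1) ≫ p n = a n)
    (hev : ∀ i : ℤ, ∃ N, ∀ n, N ≤ n → IsIso (HomologicalComplex.homologyMap (a n) i)) :
    ∃ f : K ⟶ mappingCocone (Pi.lift fun n => Pi.π J n - Pi.π J (n + 1) ≫ p n : ∏ᶜ J ⟶ ∏ᶜ J),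
      QuasiIso f := by
  let δ : ∏ᶜ J ⟶ ∏ᶜ J := Pi.lift fun n => Pi.π J n - Pi.π J (n + 1) ≫ p n
  let b : K ⟶ ∏ᶜ J := Pi.lift a
  have hb : b ≫ δ = 0 := by
    refine Pi.hom_ext _ _ fun n => ?_
    simp [b, δ, Pi.lift_π_assoc, ha]
  let f : K ⟶ mappingCocone δ := mappingCocone.lift δ b 0 (by
    simp [← HomComplex.Cochain.ofHom_comp, hb])
  refine ⟨f, ⟨fun i => ?_⟩⟩
  let π' := fun (m : ℤ) (n : ℕ) => HomologicalComplex.homologyMap (Pi.π J n) m
  have hδ : ∀ (m : ℤ) (n : ℕ), HomologicalComplex.homologyMap δ m ≫ π' m n =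
      π' m n - π' m (n + 1) ≫ HomologicalComplex.homologyMap (p n) m := fun m n => by
    simp only [π', ← HomologicalComplex.homologyMap_comp, ← HomologicalComplex.homologyMap_sub]
    rw [show δ ≫ Pi.π J n = _ from Pi.lift_π _ _]
  have hbπ : ∀ (m : ℤ) (n : ℕ), HomologicalComplex.homologyMap b m ≫ π' m n =
      HomologicalComplex.homologyMap (a n) m := fun m n => by
    simp only [π', ← HomologicalComplex.homologyMap_comp]
    rw [show b ≫ Pi.π J n = _ from Pi.lift_π _ _]
  have ha' : ∀ (m : ℤ) (n : ℕ), HomologicalComplex.homologyMap (a (n + 1)) m ≫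
      HomologicalComplex.homologyMap (p n) m = HomologicalComplex.homologyMap (a n) m := fun m n => by
    rw [← HomologicalComplex.homologyMap_comp, ha]
  have hp : ∀ m : ℤ, ∃ N, ∀ n, N ≤ n → IsIso (HomologicalComplex.homologyMap (a n) m) ∧
      IsIso (HomologicalComplex.homologyMap (p n) m) := fun m => by
    obtain ⟨N, hN⟩ := hev m
    refine ⟨N, fun n hn => ⟨hN n hn, ?_⟩⟩
    have := hN n hn
    have := hN (n + 1) (by omega)
    have : IsIso (HomologicalComplex.homologyMap (a (n + 1)) m ≫
        HomologicalComplex.homologyMap (p n) m) := by rw [ha']; infer_instance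
    exact IsIso.of_isIso_comp_left (HomologicalComplex.homologyMap (a (n + 1)) m) _
  have hepi : ∀ m : ℤ, Epi (HomologicalComplex.homologyMap δ m) := fun m => by
    obtain ⟨N, hN⟩ := hp m
    obtain ⟨y, hy⟩ := exists_sol N (fun n => (J n).homology m)
      (fun n => HomologicalComplex.homologyMap (p n) m) (fun n hn => (hN n hn).2) (π' m)
    obtain ⟨r, hr⟩ := (bijective_homology_pi J m _).2 y
    have hr' : ∀ n, r ≫ π' m n = y n := fun n => congrFun hr n
    refine (SplitEpi.mk r ((bijective_homology_pi J m _).1 (funext fun n => ?_)) :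
      SplitEpi (HomologicalComplex.homologyMap δ m)).epi
    show (r ≫ HomologicalComplex.homologyMap δ m) ≫ π' m n = 𝟙 _ ≫ π' m n
    rw [assoc, hδ, Preadditive.comp_sub, reassoc_of% (hr' (n + 1)), hr', hy, id_comp]
  obtain ⟨N, hN⟩ := hp i
  haveI := (hN N le_rfl).1
  let Hb := HomologicalComplex.homologyMap b i
  let Hf := HomologicalComplex.homologyMap f i
  let Hfst := HomologicalComplex.homologyMap (mappingCocone.fst δ) i
  have hfac : Hf ≫ Hfst = Hb := by
    rw [← HomologicalComplex.homologyMap_comp, mappingCocone.lift_fst]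
  haveI := hepi (i - 1)
  haveI : Mono Hfst := mono_homologyMap_cocone_fst δ (i - 1) i (by omega)
  let r := Hfst ≫ π' i N ≫ inv (HomologicalComplex.homologyMap (a N) i)
  have hrπ : ∀ n, (r ≫ Hb) ≫ π' i n = r ≫ HomologicalComplex.homologyMap (a n) i := fun n =>
    (assoc _ _ _).trans (congrArg _ (hbπ i n))
  have hr : r ≫ Hb = Hfst := by
    refine (bijective_homology_pi J i _).1 (funext fun n => sub_eq_zero.1 ?_)
    refine eq_zero_of_sol (fun n => (J n).homology i)
      (fun n => HomologicalComplex.homologyMap (p n) i) N (fun n hn => (hN n hn).2)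
      (fun n => (r ≫ Hb) ≫ π' i n - Hfst ≫ π' i n) (fun n => ?_) ?_ n
    · have hz : Hfst ≫ π' i n = (Hfst ≫ π' i (n + 1)) ≫ HomologicalComplex.homologyMap (p n) i := by
        rw [← sub_eq_zero, assoc, ← Preadditive.comp_sub, ← hδ, ← assoc,
          homologyMap_cocone_fst_δ, zero_comp]
      rw [Preadditive.sub_comp, hrπ, hrπ, hz, ← ha', assoc]
      simp only [r, assoc]
    · rw [hrπ, sub_eq_zero]
      simp [r]
  have h1 : r ≫ Hf = 𝟙 _ := by
    rw [← cancel_mono Hfst, assoc, hfac, hr, id_comp]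
  have h2 : Hf ≫ r = 𝟙 _ := by
    simp only [r]
    rw [reassoc_of% hfac, reassoc_of% hbπ i N, IsIso.hom_inv_id]
  rw [quasiIsoAt_iff_isIso_homologyMap]
  exact ⟨r, h2, h1⟩

end Groth.Agent.DSites.HoLimPi
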