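import Mathlib.Algebra.Homology.Refinements
import Mathlib.Algebra.Homology.ShortComplex.HomologicalComplex
import Mathlib.Algebra.Homology.ShortComplex.Abelian
import Mathlib.CategoryTheory.Preadditive.Injective.Basic
import Mathlib.CategoryTheory.Abelian.Refinements

/-!
# Ladders of maps into injective resolutions
-/

set_option autoImplicit false
set_option maxHeartbeats 1000000

universe v u

open CategoryTheory CategoryTheory.Limits CategoryTheory.Category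

namespace Groth.Agent.DSites.InjLadder

variable {V : Type u} [Category.{v} V] [Abelian V]

/-- Extending a pair of maps that agree on the fibre product along a pair of maps to a common
object, with values in an injective object. -/
lemma extend {A B X Y : V} [Injective Y] (a : A ⟶ X) (b : B ⟶ X) (u : A ⟶ Y) (w : B ⟶ Y)
    (h : ∀ ⦃T : V⦄ (x : T ⟶ A) (y : T ⟶ B), x ≫ a = y ≫ b → x ≫ u = y ≫ w) :
    ∃ f : X ⟶ Y, a ≫ f = u ∧ b ≫ f = w := by
  let S := ShortComplex.kernelSequence (biprod.desc a b)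
  have hf : S.f ≫ (biprod.desc u w : A ⊞ B ⟶ Y) = 0 := by
    have aux : ∀ {T Z : V} (t : T ⟶ A ⊞ B) (u : A ⟶ Z) (w : B ⟶ Z),
        t ≫ biprod.desc u w = (t ≫ biprod.fst) ≫ u + (t ≫ biprod.snd) ≫ w := fun t u w => by
      rw [biprod.desc_eq, Preadditive.comp_add, assoc, assoc]
    have k : kernel.ι (biprod.desc a b) ≫ biprod.desc a b = 0 := kernel.condition _
    rw [aux, add_eq_zero_iff_eq_neg, ← Preadditive.neg_comp] at k
    have e := h _ _ k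
    change kernel.ι (biprod.desc a b) ≫ biprod.desc u w = 0
    rw [aux, e, Preadditive.neg_comp, neg_add_cancel]
  let hS : S.Exact := ShortComplex.kernelSequence_exact _
  refine ⟨hS.descToInjective (biprod.desc u w) hf, ?_, ?_⟩
  · have e := congrArg (fun e => (biprod.inl : A ⟶ A ⊞ B) ≫ e)
      (hS.comp_descToInjective (biprod.desc u w) hf)
    change biprod.inl ≫ biprod.desc a b ≫ hS.descToInjective _ hf =
      biprod.inl ≫ biprod.desc u w at e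
    exact ((biprod.inl_desc_assoc a b _).symm.trans e).trans (biprod.inl_desc u w)
  · have e := congrArg (fun e => (biprod.inr : B ⟶ A ⊞ B) ≫ e)
      (hS.comp_descToInjective (biprod.desc u w) hf)
    change biprod.inr ≫ biprod.desc a b ≫ hS.descToInjective _ hf =
      biprod.inr ≫ biprod.desc u w at e
    exact ((biprod.inr_desc_assoc a b _).symm.trans e).trans (biprod.inr_desc u w)

/-- The inclusion of the degree zero homology. -/
noncomputable def ζ (C : CochainComplex V ℕ) : C.homology 0 ⟶ C.X 0 :=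
  C.isoHomologyπ₀.inv ≫ C.iCycles 0

instance (C : CochainComplex V ℕ) : Mono (ζ C) := by unfold ζ; infer_instance

@[reassoc (attr := simp)]
lemma ζ_d (C : CochainComplex V ℕ) : ζ C ≫ C.d 0 1 = 0 := by simp [ζ]

@[reassoc]
lemma ζ_naturality {C D : CochainComplex V ℕ} (φ : C ⟶ D) :
    HomologicalComplex.homologyMap φ 0 ≫ ζ D = ζ C ≫ φ.f 0 := by
  simp [ζ]

lemma exists_fac_ζ {C : CochainComplex V ℕ} {T : V} (x : T ⟶ C.X 0) (hx : x ≫ C.d 0 1 = 0) :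
    ∃ x' : T ⟶ C.homology 0, x = x' ≫ ζ C :=
  ⟨C.liftCycles x 1 (by simp) hx ≫ C.isoHomologyπ₀.hom, by simp [ζ]⟩

lemma exact_lift {C : CochainComplex V ℕ} (hC : ∀ n, 0 < n → C.ExactAt n) (n : ℕ) {T : V}
    (x : T ⟶ C.X (n + 1)) (hx : x ≫ C.d (n + 1) (n + 1 + 1) = 0) :
    ∃ (T' : V) (π : T' ⟶ T) (_ : Epi π) (a : T' ⟶ C.X n), π ≫ x = a ≫ C.d n (n + 1) :=
  (C.exactAt_iff_exact_up_to_refinements n (n + 1) (n + 1 + 1) (by simp) (by simp)).1
    (hC _ n.succ_pos) x hx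

variable {C' C C'' I' I I'' : CochainComplex V ℕ}
  (jC : C' ⟶ C) (πC : C ⟶ C'') (jI : I' ⟶ I) (πI : I ⟶ I'')

/-- The data of a ladder in one degree. -/
structure Step (n : ℕ) where
  f' : C'.X n ⟶ I'.X n
  f : C.X n ⟶ I.X n
  f'' : C''.X n ⟶ I''.X n
  w₁ : jC.f n ≫ f = f' ≫ jI.f n
  w₂ : πC.f n ≫ f'' = f ≫ πI.f n
  cyc' : ∀ ⦃T : V⦄ (x : T ⟶ C'.X n), x ≫ C'.d n (n + 1) = 0 → x ≫ f' ≫ I'.d n (n + 1) = 0
  cyc : ∀ ⦃T : V⦄ (x : T ⟶ C.X n), x ≫ C.d n (n + 1) = 0 → x ≫ f ≫ I.d n (n + 1) = 0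
  cyc'' : ∀ ⦃T : V⦄ (x : T ⟶ C''.X n), x ≫ C''.d n (n + 1) = 0 → x ≫ f'' ≫ I''.d n (n + 1) = 0

variable (mC : ∀ n, Mono (jC.f n)) (wC : ∀ n, jC.f n ≫ πC.f n = 0)
  (exC : ∀ n, (ShortComplex.mk (jC.f n) (πC.f n) (wC n)).Exact)
  (wI : ∀ n, jI.f n ≫ πI.f n = 0)
  (injI' : ∀ n, Injective (I'.X n)) (injI : ∀ n, Injective (I.X n))
  (injI'' : ∀ n, Injective (I''.X n))

include mC exC wI injI' injI injI'' in
lemma exists_step_zero (hC'₁ : C'.ExactAt 1) (g' : C'.homology 0 ⟶ I'.homology 0) (g : C.homology 0 ⟶ I.homology 0)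
    (g'' : C''.homology 0 ⟶ I''.homology 0)
    (hg1 : HomologicalComplex.homologyMap jC 0 ≫ g = g' ≫ HomologicalComplex.homologyMap jI 0)
    (hg2 : HomologicalComplex.homologyMap πC 0 ≫ g'' = g ≫ HomologicalComplex.homologyMap πI 0) :
    ∃ s : Step jC πC jI πI 0, ζ C' ≫ s.f' = g' ≫ ζ I' ∧ ζ C ≫ s.f = g ≫ ζ I ∧
      ζ C'' ≫ s.f'' = g'' ≫ ζ I'' := by
  have := injI' 0
  have := injI 0
  have := injI'' 0
  have := mC 0
  have := mC 1
  obtain ⟨f', hf'⟩ : ∃ f' : C'.X 0 ⟶ I'.X 0, ζ C' ≫ f' = g' ≫ ζ I' :=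
    ⟨Injective.factorThru (g' ≫ ζ I') (ζ C'), by simp⟩
  obtain ⟨f, w₁, hf⟩ : ∃ f : C.X 0 ⟶ I.X 0, jC.f 0 ≫ f = f' ≫ jI.f 0 ∧ ζ C ≫ f = g ≫ ζ I := by
    refine extend _ _ _ _ fun T x y e => ?_
    obtain ⟨x', rfl⟩ : ∃ x', x = x' ≫ ζ C' := exists_fac_ζ x (by
      rw [← cancel_mono (jC.f 1), zero_comp, assoc, ← jC.comm, reassoc_of% e, ζ_d, comp_zero])
    have e' : y = x' ≫ HomologicalComplex.homologyMap jC 0 := by
      rw [← cancel_mono (ζ C), ← e, assoc, assoc, ζ_naturality]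
    rw [e', assoc, reassoc_of% hf', ← ζ_naturality, ← reassoc_of% hg1, assoc]
  obtain ⟨f'', w₂, hf''⟩ : ∃ f'' : C''.X 0 ⟶ I''.X 0,
      πC.f 0 ≫ f'' = f ≫ πI.f 0 ∧ ζ C'' ≫ f'' = g'' ≫ ζ I'' := by
    refine extend _ _ _ _ fun T x y e => ?_
    have hπ : (x ≫ C.d 0 1) ≫ πC.f 1 = 0 := by
      rw [assoc, ← πC.comm, reassoc_of% e, ζ_d, comp_zero]
    obtain ⟨T₁, π₁, _, a, ha⟩ := (exC 1).exact_up_to_refinements _ hπ
    change T₁ ⟶ C'.X 1 at a
    change π₁ ≫ x ≫ C.d 0 1 = a ≫ jC.f 1 at ha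
    have haz : a ≫ C'.d 1 (1 + 1) = 0 := by
      have := mC (1 + 1)
      rw [← cancel_mono (jC.f (1 + 1)), zero_comp, assoc, ← jC.comm, ← reassoc_of% ha,
        C.d_comp_d, comp_zero, comp_zero]
    obtain ⟨T₂, π₂, _, a', ha'⟩ :=
        (C'.exactAt_iff_exact_up_to_refinements 0 1 (1 + 1) (by simp) (by simp)).1 hC'₁ a haz
    obtain ⟨c, hc⟩ := exists_fac_ζ (C := C) ((π₂ ≫ π₁) ≫ x - a' ≫ jC.f 0) (by
        rw [Preadditive.sub_comp, assoc, assoc, assoc, ha, jC.comm, reassoc_of% ha', sub_self])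
    have hy : (π₂ ≫ π₁) ≫ y = c ≫ HomologicalComplex.homologyMap πC 0 := by
        rw [← cancel_mono (ζ C''), assoc c, ζ_naturality, ← assoc c, ← hc, assoc, ← e,
          Preadditive.sub_comp, assoc a', wC, comp_zero, sub_zero, assoc, assoc]
        simp only [assoc]
    rw [← cancel_epi (π₂ ≫ π₁), ← assoc (π₂ ≫ π₁) x, eq_add_of_sub_eq hc, Preadditive.add_comp,
        assoc a', ← assoc (jC.f 0), w₁, assoc f', wI, comp_zero, comp_zero, add_zero, assoc c,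
        ← assoc (ζ C), hf, ← assoc (π₂ ≫ π₁) y, hy, assoc c, ← assoc _ g'', hg2, assoc, assoc g,
        ← ζ_naturality]
  refine ⟨⟨f', f, f'', w₁, w₂, ?_, ?_, ?_⟩, hf', hf, hf''⟩ <;>
    · intro T x hx
      obtain ⟨x', rfl⟩ := exists_fac_ζ x hx
      first
      | rw [assoc, reassoc_of% hf', ζ_d, comp_zero, comp_zero]
      | rw [assoc, reassoc_of% hf, ζ_d, comp_zero, comp_zero]
      | rw [assoc, reassoc_of% hf'', ζ_d, comp_zero, comp_zero]

variable (hC' : ∀ n, 0 < n → C'.ExactAt n) (hC : ∀ n, 0 < n → C.ExactAt n)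
  (hC'' : ∀ n, 0 < n → C''.ExactAt n)

include mC exC wI injI' injI injI'' hC' hC hC'' in
lemma exists_step_succ (n : ℕ) (s : Step jC πC jI πI n) :
    ∃ t : Step jC πC jI πI (n + 1), C'.d n (n + 1) ≫ t.f' = s.f' ≫ I'.d n (n + 1) ∧
      C.d n (n + 1) ≫ t.f = s.f ≫ I.d n (n + 1) ∧
      C''.d n (n + 1) ≫ t.f'' = s.f'' ≫ I''.d n (n + 1) := by
  have := injI' (n + 1)
  have := injI (n + 1)
  have := injI'' (n + 1)
  have := mC (n + 1 + 1)
  obtain ⟨f', hf', -⟩ : ∃ f' : C'.X (n + 1) ⟶ I'.X (n + 1),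
      C'.d n (n + 1) ≫ f' = s.f' ≫ I'.d n (n + 1) ∧ (0 : C'.X n ⟶ _) ≫ f' = 0 :=
    extend _ _ _ _ fun T x y e => by
      rw [comp_zero] at e
      rw [comp_zero, s.cyc' x e]
  obtain ⟨f, w₁, hf⟩ : ∃ f : C.X (n + 1) ⟶ I.X (n + 1),
      jC.f (n + 1) ≫ f = f' ≫ jI.f (n + 1) ∧ C.d n (n + 1) ≫ f = s.f ≫ I.d n (n + 1) := by
    refine extend _ _ _ _ fun T x y e => ?_
    obtain ⟨T₁, π₁, _, a, ha⟩ := exact_lift hC' n x (by
      rw [← cancel_mono (jC.f (n + 1 + 1)), zero_comp, assoc, ← jC.comm, reassoc_of% e,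
        C.d_comp_d, comp_zero])
    have hz := s.cyc (π₁ ≫ y - a ≫ jC.f n) (by
      rw [Preadditive.sub_comp, assoc, ← e, reassoc_of% ha, assoc, jC.comm, sub_self])
    rw [Preadditive.sub_comp, assoc, assoc, sub_eq_zero, ← assoc (jC.f n), s.w₁, assoc s.f',
      jI.comm] at hz
    rw [← cancel_epi π₁, hz, reassoc_of% ha, reassoc_of% hf']
  obtain ⟨f'', w₂, hf''⟩ : ∃ f'' : C''.X (n + 1) ⟶ I''.X (n + 1),
      πC.f (n + 1) ≫ f'' = f ≫ πI.f (n + 1) ∧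
        C''.d n (n + 1) ≫ f'' = s.f'' ≫ I''.d n (n + 1) := by
    refine extend _ _ _ _ fun T x y e => ?_
    have hπ : (x ≫ C.d (n + 1) (n + 1 + 1)) ≫ πC.f (n + 1 + 1) = 0 := by
      rw [assoc, ← πC.comm, reassoc_of% e, C''.d_comp_d, comp_zero]
    obtain ⟨T₁, π₁, _, a, ha⟩ := (exC (n + 1 + 1)).exact_up_to_refinements _ hπ
    change T₁ ⟶ C'.X (n + 1 + 1) at a
    change π₁ ≫ x ≫ C.d (n + 1) (n + 1 + 1) = a ≫ jC.f (n + 1 + 1) at ha
    obtain ⟨T₂, π₂, _, a', ha'⟩ := exact_lift hC' (n + 1) a (by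
      have := mC (n + 1 + 1 + 1)
      rw [← cancel_mono (jC.f (n + 1 + 1 + 1)), zero_comp, assoc, ← jC.comm, ← reassoc_of% ha,
        C.d_comp_d, comp_zero, comp_zero])
    obtain ⟨T₃, π₃, _, c, hc⟩ := exact_lift hC n ((π₂ ≫ π₁) ≫ x - a' ≫ jC.f (n + 1)) (by
      rw [Preadditive.sub_comp, assoc, assoc, assoc, ha, jC.comm, reassoc_of% ha', sub_self])
    rw [Preadditive.comp_sub, sub_eq_iff_eq_add, ← assoc π₃, ← assoc π₃ a'] at hc
    have hy := s.cyc'' ((π₃ ≫ π₂ ≫ π₁) ≫ y - c ≫ πC.f n) (by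
      rw [Preadditive.sub_comp, assoc, ← e, ← assoc (π₃ ≫ π₂ ≫ π₁) x, hc, Preadditive.add_comp,
        assoc (π₃ ≫ a'), wC, comp_zero, add_zero, assoc, assoc, πC.comm, sub_self])
    rw [Preadditive.sub_comp, sub_eq_zero, assoc c, ← assoc (πC.f n), s.w₂, assoc s.f,
      πI.comm] at hy
    rw [← cancel_epi (π₃ ≫ π₂ ≫ π₁), ← assoc (π₃ ≫ π₂ ≫ π₁) y, hy, ← assoc (π₃ ≫ π₂ ≫ π₁) x, hc,
      Preadditive.add_comp, assoc (π₃ ≫ a'), ← assoc (jC.f (n + 1)), w₁, assoc f', wI,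
      comp_zero, comp_zero, add_zero, assoc, ← assoc (C.d n (n + 1)), hf, assoc]
  refine ⟨⟨f', f, f'', w₁, w₂, ?_, ?_, ?_⟩, hf', hf, hf''⟩ <;>
    · intro T x hx
      first
      | (obtain ⟨T₁, π₁, _, a, ha⟩ := exact_lift hC' n x hx
         rw [← cancel_epi π₁, reassoc_of% ha, reassoc_of% hf', HomologicalComplex.d_comp_d,
           comp_zero, comp_zero, comp_zero])
      | (obtain ⟨T₁, π₁, _, a, ha⟩ := exact_lift hC n x hx
         rw [← cancel_epi π₁, reassoc_of% ha, reassoc_of% hf, HomologicalComplex.d_comp_d,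
           comp_zero, comp_zero, comp_zero])
      | (obtain ⟨T₁, π₁, _, a, ha⟩ := exact_lift hC'' n x hx
         rw [← cancel_epi π₁, reassoc_of% ha, reassoc_of% hf'', HomologicalComplex.d_comp_d,
           comp_zero, comp_zero, comp_zero])

include mC exC wI injI' injI injI'' hC' hC hC'' in
theorem exists_ladder (g' : C'.homology 0 ⟶ I'.homology 0) (g : C.homology 0 ⟶ I.homology 0)
    (g'' : C''.homology 0 ⟶ I''.homology 0)
    (hg1 : HomologicalComplex.homologyMap jC 0 ≫ g = g' ≫ HomologicalComplex.homologyMap jI 0)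
    (hg2 : HomologicalComplex.homologyMap πC 0 ≫ g'' = g ≫ HomologicalComplex.homologyMap πI 0) :
    ∃ (f' : C' ⟶ I') (f : C ⟶ I) (f'' : C'' ⟶ I''),
      jC ≫ f = f' ≫ jI ∧ πC ≫ f'' = f ≫ πI ∧
      HomologicalComplex.homologyMap f' 0 = g' ∧ HomologicalComplex.homologyMap f 0 = g ∧
      HomologicalComplex.homologyMap f'' 0 = g'' := by
  obtain ⟨s₀, e', e, e''⟩ :=
    exists_step_zero jC πC jI πI mC wC exC wI injI' injI injI'' (hC' 1 Nat.one_pos) g' g g'' hg1 hg2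
  choose next hn using
    exists_step_succ jC πC jI πI mC wC exC wI injI' injI injI'' hC' hC hC''
  let s : ∀ n, Step jC πC jI πI n := fun n => Nat.rec s₀ next n
  have c₁ : ∀ i j, (ComplexShape.up ℕ).Rel i j →
      (s i).f' ≫ I'.d i j = C'.d i j ≫ (s j).f' := fun i j hij => by
    obtain rfl : i + 1 = j := hij
    exact (hn i (s i)).1.symm
  have c₂ : ∀ i j, (ComplexShape.up ℕ).Rel i j →
      (s i).f ≫ I.d i j = C.d i j ≫ (s j).f := fun i j hij => by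
    obtain rfl : i + 1 = j := hij
    exact (hn i (s i)).2.1.symm
  have c₃ : ∀ i j, (ComplexShape.up ℕ).Rel i j →
      (s i).f'' ≫ I''.d i j = C''.d i j ≫ (s j).f'' := fun i j hij => by
    obtain rfl : i + 1 = j := hij
    exact (hn i (s i)).2.2.symm
  let F' : C' ⟶ I' := ⟨fun n => (s n).f', c₁⟩
  let F : C ⟶ I := ⟨fun n => (s n).f, c₂⟩
  let F'' : C'' ⟶ I'' := ⟨fun n => (s n).f'', c₃⟩
  refine ⟨F', F, F'', ?_, ?_, ?_, ?_, ?_⟩
  · ext n; exact (s n).w₁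
  · ext n; exact (s n).w₂
  · rw [← cancel_mono (ζ I'), ζ_naturality]; exact e'
  · rw [← cancel_mono (ζ I), ζ_naturality]; exact e
  · rw [← cancel_mono (ζ I''), ζ_naturality]; exact e''

end Groth.Agent.DSites.InjLadder
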