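import Groth.Agent.SiteBase.LocalLift

/-!
# Restricting morphisms between restrictions; lifting local maps out of summands of free modules
-/

universe u

open CategoryTheory CategoryTheory.Limits Opposite

set_option maxHeartbeats 1000000

namespace Groth.Agent.DSites.LocalHom

open SuppCore

variable {C : Type u} [SmallCategory C] {J : GrothendieckTopology C} {O : Sheaf J CommRingCat.{u}}

/-- Restriction of a local morphism along `g : W' ⟶ W`. -/
noncomputable def restrHom {W W' : C} (g : W' ⟶ W) {M N : ModSite.Mod O}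
    (η : (ModSite.restr O W).obj M ⟶ (ModSite.restr O W).obj N) :
    (ModSite.restr O W').obj M ⟶ (ModSite.restr O W').obj N :=
  (SheafOfModules.overFunctorMap (ModSite.ringSh O) g).inv.app M ≫
    (SheafOfModules.overMap (ModSite.ringSh O) g).map η ≫
      (SheafOfModules.overFunctorMap (ModSite.ringSh O) g).hom.app N

lemma restrHom_app {W W' : C} (g : W' ⟶ W) {M N : ModSite.Mod O}
    (η : (ModSite.restr O W).obj M ⟶ (ModSite.restr O W).obj N) (V : Over W')
    (x : ModSite.sect M V.left) :
    (restrHom g η).val.app (op V) x = η.val.app (op ((Over.map g).obj V)) x := rfl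

lemma restrHom_map {W W' : C} (g : W' ⟶ W) {M N : ModSite.Mod O} (φ : M ⟶ N) :
    restrHom g ((ModSite.restr O W).map φ) = (ModSite.restr O W').map φ := by
  have e := (SheafOfModules.overFunctorMap (ModSite.ringSh O) g).hom.naturality φ
  simp only [restrHom, Functor.comp_map] at e ⊢
  exact (congrArg _ e).trans (Iso.inv_hom_id_app_assoc _ _ _)

lemma restrHom_comp {W W' : C} (g : W' ⟶ W) {M N P : ModSite.Mod O}
    (η : (ModSite.restr O W).obj M ⟶ (ModSite.restr O W).obj N)
    (θ : (ModSite.restr O W).obj N ⟶ (ModSite.restr O W).obj P) :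
    restrHom g (η ≫ θ) = restrHom g η ≫ restrHom g θ := by
  ext V x
  rfl

lemma restrHom_add {W W' : C} (g : W' ⟶ W) {M N : ModSite.Mod O}
    (η θ : (ModSite.restr O W).obj M ⟶ (ModSite.restr O W).obj N) :
    restrHom g (η + θ) = restrHom g η + restrHom g θ := by
  ext V x
  rfl

lemma restrHom_zero {W W' : C} (g : W' ⟶ W) (M N : ModSite.Mod O) :
    restrHom g (0 : (ModSite.restr O W).obj M ⟶ (ModSite.restr O W).obj N) = 0 := by
  ext V x
  rfl

/-- A morphism out of the restricted structure sheaf is given by a section. -/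
lemma restrHom_unit {W W' : C} (g : W' ⟶ W) {F : ModSite.Mod O}
    (ψ : (ModSite.restr O W).obj (ModSite.unit O) ⟶ (ModSite.restr O W).obj F) :
    restrHom g ψ = overUnitHom F (res F g
      ((((ModSite.restr O W).obj F).unitHomEquiv ψ).val (op (Over.mk (𝟙 W))))) := by
  refine ((ModSite.restr O W').obj F).unitHomEquiv.injective
    (Eq.trans ?_ (Equiv.apply_symm_apply _ _).symm)
  refine Subtype.ext (funext fun V => ?_)
  refine Eq.trans (b := (((ModSite.restr O W).obj F).unitHomEquiv ψ).val
      (op ((Over.map g).obj V.unop))) rfl ?_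
  refine Eq.trans ((((ModSite.restr O W).obj F).unitHomEquiv ψ).property
    (Over.homMk (V.unop.hom ≫ g) (by simp) : (Over.map g).obj V.unop ⟶ Over.mk (𝟙 W)).op).symm ?_
  exact res_comp F _ _ _

theorem exists_lift_free {n : ℕ} {F G : ModSite.Mod O} (p : G ⟶ F) [Epi p] {W : C}
    (φ : (ModSite.restr O W).obj (SheafOfModules.free (R := ModSite.ringSh O) (ULift.{u} (Fin n))) ⟶
      (ModSite.restr O W).obj F) :
    ∃ R ∈ J W, ∀ ⦃W' : C⦄ (g : W' ⟶ W), R g →
      ∃ l : (ModSite.restr O W').obj (SheafOfModules.free (R := ModSite.ringSh O) (ULift.{u} (Fin n))) ⟶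
          (ModSite.restr O W').obj G,
        l ≫ (ModSite.restr O W').map p = restrHom g φ := by
  classical
  let s : ULift.{u} (Fin n) → ModSite.sect F W := fun k =>
    (((ModSite.restr O W).obj F).unitHomEquiv
      ((ModSite.restr O W).map (SheafOfModules.ιFree k) ≫ φ)).val (op (Over.mk (𝟙 W)))
  choose S hS hlift using fun k => exists_cover_lift p (s k)
  refine ⟨Finset.univ.inf S, ?_, fun W' g hg => ?_⟩
  · refine Finset.inf_induction (p := fun R : Sieve W => R ∈ J W) (J.top_mem W)
      (fun a ha b hb => J.intersection_covering ha hb) fun k _ => hS k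
  have hk : ∀ k, (S k).arrows g := fun k => by
    have h : Finset.univ.inf S ≤ S k := Finset.inf_le (Finset.mem_univ k)
    exact h _ hg
  choose t ht using fun k => hlift k g (hk k)
  have : PreservesFiniteColimits (ModSite.restr O W') := preservesFiniteColimits_restr W'
  let hc := isColimitCofanMkObjOfIsColimit (ModSite.restr O W') _ _
    (SheafOfModules.isColimitFreeCofan (R := ModSite.ringSh O) (ULift.{u} (Fin n)))
  refine ⟨Cofan.IsColimit.desc hc fun k => overUnitHom G (t k),
    Cofan.IsColimit.hom_ext hc _ _ fun k => ?_⟩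
  refine (Category.assoc _ _ _).symm.trans
    ((congrArg (· ≫ _) (Cofan.IsColimit.fac hc _ k)).trans ?_)
  refine (overUnitHom_comp p (t k)).trans (Eq.trans ?_ ((restrHom_unit g _).symm.trans
    ((restrHom_comp g _ φ).trans (congrArg (· ≫ _) (restrHom_map g _)))))
  exact congrArg _ (ht k)

/-- A local morphism out of a summand of a finite free module lifts locally through an epimorphism. -/
theorem exists_lift {E F G : ModSite.Mod O}
    (hE : DCoh.IsFinFreeSummandMod (ModSite.ringSh O) E) (p : G ⟶ F) [Epi p] {W : C}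
    (φ : (ModSite.restr O W).obj E ⟶ (ModSite.restr O W).obj F) :
    ∃ R ∈ J W, ∀ ⦃W' : C⦄ (g : W' ⟶ W), R g →
      ∃ l : (ModSite.restr O W').obj E ⟶ (ModSite.restr O W').obj G,
        l ≫ (ModSite.restr O W').map p = restrHom g φ := by
  obtain ⟨n, i, r, hir⟩ := hE
  obtain ⟨R, hR, h⟩ := exists_lift_free p ((ModSite.restr O W).map r ≫ φ)
  refine ⟨R, hR, fun W' g hg => ?_⟩
  obtain ⟨l, hl⟩ := h g hg
  refine ⟨(ModSite.restr O W').map i ≫ l, ?_⟩
  rw [Category.assoc, hl, restrHom_comp, restrHom_map, ← Category.assoc, ← Functor.map_comp, hir,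
    CategoryTheory.Functor.map_id, Category.id_comp]

end Groth.Agent.DSites.LocalHom
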