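import Groth.Agent.DSites.LocalHom
import Mathlib.Algebra.Homology.Homotopy
import Mathlib.Algebra.Homology.Refinements
import Mathlib.CategoryTheory.Abelian.Refinements

/-!
# Lifting maps out of strictly perfect complexes locally, up to homotopy
-/

universe v u

open CategoryTheory CategoryTheory.Limits Opposite

set_option autoImplicit false
set_option maxHeartbeats 1000000

namespace Groth.Agent.DSites.LocalLiftCx

section Abelian

variable {A : Type u} [Category.{v} A] [Abelian A] {G F : CochainComplex A ℤ} (f : G ⟶ F)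

/-- The map `(x, y) ↦ (dx, fx - dy)`. -/
noncomputable def q (k₀ k k₁ : ℤ) : G.X k ⊞ F.X k₀ ⟶ G.X k₁ ⊞ F.X k :=
  biprod.lift (biprod.fst ≫ G.d k k₁) (biprod.fst ≫ f.f k - biprod.snd ≫ F.d k₀ k)

lemma q_q (k₀ k k₁ k₂ : ℤ) : q f k₀ k k₁ ≫ q f k k₁ k₂ = 0 := by
  unfold q
  apply biprod.hom_ext' <;> apply biprod.hom_ext <;> simp

lemma exact_q (k₀ k k₁ k₂ : ℤ) (h₀ : k₀ + 1 = k) (h₁ : k + 1 = k₁) (h₂ : k₁ + 1 = k₂)
    [Mono (HomologicalComplex.homologyMap f k₁)] [Epi (HomologicalComplex.homologyMap f k)] :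
    (ShortComplex.mk (q f k₀ k k₁) (q f k k₁ k₂) (q_q f k₀ k k₁ k₂)).Exact := by
  rw [ShortComplex.exact_iff_exact_up_to_refinements]
  intro T (x : T ⟶ G.X k₁ ⊞ F.X k) (hx : x ≫ q f k k₁ k₂ = 0)
  have hu : (x ≫ biprod.fst) ≫ G.d k₁ k₂ = 0 := by
    simpa [q] using congrArg (fun e => e ≫ biprod.fst) hx
  have hv : (x ≫ biprod.fst) ≫ f.f k₁ = (x ≫ biprod.snd) ≫ F.d k k₁ := by
    rw [← sub_eq_zero]
    simpa [q] using congrArg (fun e => e ≫ biprod.snd) hx
  obtain ⟨T₁, π₁, _, g, hg⟩ :=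
    (HomologicalComplex.mono_homologyMap_iff_up_to_refinements f k k₁ k₂
      (by simp; omega) (by simp; omega)).1 inferInstance _ hu _ hv
  have hz : (π₁ ≫ x ≫ biprod.snd - g ≫ f.f k) ≫ F.d k k₁ = 0 := by
    rw [Preadditive.sub_comp, Category.assoc, ← hv, Category.assoc g, f.comm, ← Category.assoc g,
      ← hg]
    simp only [Category.assoc, sub_self]
  obtain ⟨T₂, π₂, _, g', hg', w, hw⟩ :=
    (HomologicalComplex.epi_homologyMap_iff_up_to_refinements f k₀ k k₁
      (by simp; omega) (by simp; omega)).1 inferInstance _ hz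
  refine ⟨T₂, π₂ ≫ π₁, inferInstance, biprod.lift (π₂ ≫ g + g') (-w), ?_⟩
  rw [Preadditive.comp_sub, sub_eq_iff_eq_add] at hw
  apply biprod.hom_ext <;> dsimp only <;> unfold q
  · simp [hg, hg']
  · simp only [Category.assoc, hw, biprod.lift_snd, Preadditive.comp_sub, biprod.lift_fst_assoc,
      biprod.lift_snd_assoc, Preadditive.add_comp, Preadditive.neg_comp]
    abel

/-- The kernel of `q`. -/
noncomputable abbrev cone (k k₁ k₂ : ℤ) : A := kernel (q f k k₁ k₂)

lemma epi_lift_q (k₀ k k₁ k₂ : ℤ) (h₀ : k₀ + 1 = k) (h₁ : k + 1 = k₁) (h₂ : k₁ + 1 = k₂)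
    [Mono (HomologicalComplex.homologyMap f k₁)] [Epi (HomologicalComplex.homologyMap f k)] :
    Epi (kernel.lift (q f k k₁ k₂) (q f k₀ k k₁) (q_q f k₀ k k₁ k₂)) :=
  (exact_q f k₀ k k₁ k₂ h₀ h₁ h₂).epi_kernelLift

end Abelian

open SuppCore DSites.LocalHom

variable {C : Type u} [SmallCategory C] {J : GrothendieckTopology C} {O : Sheaf J CommRingCat.{u}}
  {E F G : CochainComplex (ModSite.Mod O) ℤ} (α : E ⟶ F) (f : G ⟶ F)

local notation "r[" W "]" => ModSite.restr O W

/-- A partial lift up to homotopy over `W`, defined in degrees `≥ i`. -/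
structure Part (i : ℤ) (W : C) where
  β : ∀ j, r[W].obj (E.X j) ⟶ r[W].obj (G.X j)
  h : ∀ j j', r[W].obj (E.X j) ⟶ r[W].obj (F.X j')
  comm : ∀ j j₁, i ≤ j → j + 1 = j₁ → r[W].map (E.d j j₁) ≫ β j₁ = β j ≫ r[W].map (G.d j j₁)
  hty : ∀ j₀ j j₁, i ≤ j → j₀ + 1 = j → j + 1 = j₁ →
    β j ≫ r[W].map (f.f j) =
      r[W].map (α.f j) + r[W].map (E.d j j₁) ≫ h j₁ j + h j j₀ ≫ r[W].map (F.d j₀ j)

variable {α f}

/-- Restriction of partial lifts. -/
noncomputable def Part.restrict {i : ℤ} {W W' : C} (S : Part α f i W) (g : W' ⟶ W) :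
    Part α f i W' where
  β j := restrHom g (S.β j)
  h j j' := restrHom g (S.h j j')
  comm j j₁ hij hj := by
    simpa only [restrHom_comp, restrHom_map] using congrArg (restrHom g) (S.comm j j₁ hij hj)
  hty j₀ j j₁ hij hj₀ hj := by
    simpa only [restrHom_comp, restrHom_add, restrHom_map] using
      congrArg (restrHom g) (S.hty j₀ j j₁ hij hj₀ hj)

lemma exists_part_step (hE : ∀ j, DCoh.IsFinFreeSummandMod (ModSite.ringSh O) (E.X j))
    (k₀ k k₁ k₂ : ℤ) (h₀ : k₀ + 1 = k) (h₁ : k + 1 = k₁) (h₂ : k₁ + 1 = k₂)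
    [Mono (HomologicalComplex.homologyMap f k₁)] [Epi (HomologicalComplex.homologyMap f k)]
    {W : C} (S : Part α f k₁ W) :
    ∃ R ∈ J W, ∀ ⦃W' : C⦄ (g : W' ⟶ W), R g → Nonempty (Part α f k W') := by
  have := preservesFiniteColimits_restr (O := O) W
  have : PreservesLimitsOfSize.{0, 0} (ModSite.restr O W) :=
    (ModSite.extZeroAdj O W).rightAdjoint_preservesLimits
  let u : r[W].obj (E.X k) ⟶ r[W].obj (G.X k₁) := r[W].map (E.d k k₁) ≫ S.β k₁
  let w : r[W].obj (E.X k) ⟶ r[W].obj (F.X k) :=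
    r[W].map (α.f k) + r[W].map (E.d k k₁) ≫ S.h k₁ k
  let t : r[W].obj (E.X k) ⟶ r[W].obj (G.X k₁ ⊞ F.X k) :=
    u ≫ r[W].map biprod.inl + w ≫ r[W].map biprod.inr
  have hl : (biprod.inl : G.X k₁ ⟶ G.X k₁ ⊞ F.X k) ≫ q f k k₁ k₂ =
      biprod.lift (G.d k₁ k₂) (f.f k₁) := by
    unfold q; apply biprod.hom_ext <;> simp
  have hr : (biprod.inr : F.X k ⟶ G.X k₁ ⊞ F.X k) ≫ q f k k₁ k₂ =
      biprod.lift 0 (- F.d k k₁) := by
    unfold q; apply biprod.hom_ext <;> simp
  have hu : u ≫ r[W].map (G.d k₁ k₂) = 0 := by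
    simp only [u, Category.assoc]
    rw [← S.comm k₁ k₂ le_rfl h₂, ← Category.assoc, ← Functor.map_comp, E.d_comp_d,
      Functor.map_zero, zero_comp]
  have hw : u ≫ r[W].map (f.f k₁) = w ≫ r[W].map (F.d k k₁) := by
    simp only [u, w, Category.assoc, Preadditive.add_comp]
    rw [S.hty k k₁ k₂ le_rfl h₁ h₂, Preadditive.comp_add, Preadditive.comp_add]
    simp only [← Category.assoc, ← Functor.map_comp, E.d_comp_d, Functor.map_zero, zero_comp,
      add_zero, α.comm]
  have ht : t ≫ r[W].map (q f k k₁ k₂) = 0 := by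
    simp only [t, Preadditive.add_comp, Category.assoc, ← Functor.map_comp, hl, hr]
    have e : ∀ {T : ModSite.Mod O} (a : T ⟶ G.X k₂) (b : T ⟶ F.X k₁),
        r[W].map (biprod.lift a b) = r[W].map a ≫ r[W].map biprod.inl + r[W].map b ≫ r[W].map biprod.inr :=
      fun a b => by rw [biprod.lift_eq, Functor.map_add, Functor.map_comp, Functor.map_comp]
    rw [e, e, Functor.map_zero, zero_comp, zero_add, Functor.map_neg, Preadditive.comp_add,
      Preadditive.neg_comp, Preadditive.comp_neg, ← Category.assoc, hu, zero_comp, zero_add,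
      ← Category.assoc, hw, Category.assoc, add_neg_cancel]
  let hc := isLimitForkMapOfIsLimit' r[W] (kernel.condition (q f k k₁ k₂))
    (kernelIsKernel (q f k k₁ k₂))
  obtain ⟨t', ht'⟩ := KernelFork.IsLimit.lift' hc t ht
  change t' ≫ r[W].map (kernel.ι (q f k k₁ k₂)) = t at ht'
  have := epi_lift_q f k₀ k k₁ k₂ h₀ h₁ h₂
  obtain ⟨R, hR, hlift⟩ :=
    LocalHom.exists_lift (hE k) (kernel.lift (q f k k₁ k₂) _ (q_q f k₀ k k₁ k₂)) t'
  refine ⟨R, hR, fun W' g hg => ?_⟩
  obtain ⟨l, hl'⟩ := hlift g hg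
  have := preservesFiniteColimits_restr (O := O) W'
  let S' := S.restrict g
  have e : l ≫ r[W'].map (q f k₀ k k₁) = restrHom g t := by
    rw [← kernel.lift_ι (q f k k₁ k₂) _ (q_q f k₀ k k₁ k₂), Functor.map_comp, ← Category.assoc,
      hl', ← restrHom_map g (kernel.ι (q f k k₁ k₂)), ← restrHom_comp, ht']
  let β' := l ≫ r[W'].map biprod.fst
  let h' := l ≫ r[W'].map biprod.snd
  have et₁ : restrHom g t ≫ r[W'].map (biprod.fst : G.X k₁ ⊞ F.X k ⟶ _) =
      r[W'].map (E.d k k₁) ≫ S'.β k₁ := by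
    rw [← restrHom_map g (biprod.fst : G.X k₁ ⊞ F.X k ⟶ _), ← restrHom_comp]
    simp only [t, Preadditive.add_comp, Category.assoc, ← Functor.map_comp, biprod.inl_fst,
      biprod.inr_fst, CategoryTheory.Functor.map_id, Category.comp_id, Functor.map_zero, comp_zero,
      add_zero, u, restrHom_comp, restrHom_map, S', Part.restrict]
  have et₂ : restrHom g t ≫ r[W'].map (biprod.snd : G.X k₁ ⊞ F.X k ⟶ _) =
      r[W'].map (α.f k) + r[W'].map (E.d k k₁) ≫ S'.h k₁ k := by
    rw [← restrHom_map g (biprod.snd : G.X k₁ ⊞ F.X k ⟶ _), ← restrHom_comp]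
    simp only [t, Preadditive.add_comp, Category.assoc, ← Functor.map_comp, biprod.inl_snd,
      biprod.inr_snd, CategoryTheory.Functor.map_id, Category.comp_id, Functor.map_zero, comp_zero,
      zero_add, w, restrHom_comp, restrHom_add, restrHom_map, S', Part.restrict]
  have e₁ : r[W'].map (E.d k k₁) ≫ S'.β k₁ = β' ≫ r[W'].map (G.d k k₁) := by
    have e₁ := congrArg (fun e => e ≫ r[W'].map (biprod.fst : G.X k₁ ⊞ F.X k ⟶ _)) e
    rw [et₁] at e₁
    simp only [Category.assoc, ← Functor.map_comp, q, biprod.lift_fst] at e₁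
    simp only [β', Category.assoc, ← Functor.map_comp]
    exact e₁.symm
  have e₂ : β' ≫ r[W'].map (f.f k) =
      r[W'].map (α.f k) + r[W'].map (E.d k k₁) ≫ S'.h k₁ k + h' ≫ r[W'].map (F.d k₀ k) := by
    have e₂ := congrArg (fun e => e ≫ r[W'].map (biprod.snd : G.X k₁ ⊞ F.X k ⟶ _)) e
    rw [et₂] at e₂
    simp only [Category.assoc, ← Functor.map_comp, q, biprod.lift_snd] at e₂
    rw [Functor.map_sub, Preadditive.comp_sub, sub_eq_iff_eq_add] at e₂
    simp only [β', h', Category.assoc, ← Functor.map_comp]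
    exact e₂
  refine ⟨{ β := Function.update S'.β k β'
            h := Function.update S'.h k (Function.update (S'.h k) k₀ h')
            comm := fun j j₁ hj hj₁ => ?_
            hty := fun j₀ j j₁ hj hj₀ hj₁ => ?_ }⟩
  · rw [Function.update_of_ne (show j₁ ≠ k by omega)]
    by_cases hjk : j = k
    · subst hjk
      obtain rfl : j₁ = k₁ := by omega
      rw [Function.update_self]
      exact e₁
    · rw [Function.update_of_ne hjk]
      exact S'.comm j j₁ (by omega) hj₁
  · rw [Function.update_of_ne (show j₁ ≠ k by omega)]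
    by_cases hjk : j = k
    · subst hjk
      obtain rfl : j₁ = k₁ := by omega
      obtain rfl : j₀ = k₀ := by omega
      rw [Function.update_self, Function.update_self, Function.update_self]
      exact e₂
    · rw [Function.update_of_ne hjk, Function.update_of_ne hjk]
      exact S'.hty j₀ j j₁ (by omega) hj₀ hj₁

lemma exists_part (hE : ∀ j, DCoh.IsFinFreeSummandMod (ModSite.ringSh O) (E.X j)) (a b : ℤ)
    (hEb : ∀ j, b < j → IsZero (E.X j))
    (hmono : ∀ j, a < j → Mono (HomologicalComplex.homologyMap f j))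
    (hepi : ∀ j, a ≤ j → Epi (HomologicalComplex.homologyMap f j)) (V : C) (n : ℕ) :
    ∀ i, a ≤ i → b + 1 ≤ i + n →
      ∃ R ∈ J V, ∀ ⦃W : C⦄ (g : W ⟶ V), R g → Nonempty (Part α f i W) := by
  induction n with
  | zero =>
    intro i _ hib
    refine ⟨⊤, J.top_mem V, fun W _ _ => ⟨{ β := 0, h := 0, comm := ?_, hty := ?_ }⟩⟩
    · intros; simp
    · intro j₀ j j₁ hj _ _
      exact (Functor.map_isZero r[W] (hEb j (by omega))).eq_of_src _ _
  | succ n ih =>
    intro i hai hib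
    obtain ⟨R, hR, h⟩ := ih (i + 1) (by omega) (by omega)
    have := hmono (i + 1) (by omega)
    have := hepi i hai
    choose S hS hS' using fun (W : C) (g : W ⟶ V) (hg : R g) =>
      exists_part_step hE (i - 1) i (i + 1) (i + 1 + 1) (by omega) rfl rfl (h g hg).some
    refine ⟨Sieve.bind R fun W g hg => S W g hg, J.bind_covering hR fun W g hg => hS W g hg, ?_⟩
    rintro W' g' ⟨W, h', g, hg, hh, rfl⟩
    exact hS' W g hg h' hh

theorem exists_local_lift (hE : DCoh.IsStrictlyPerfectMod (ModSite.ringSh O) E) (a : ℤ)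
    (hEa : ∀ j, j < a → IsZero (E.X j))
    (hmono : ∀ j, a < j → Mono (HomologicalComplex.homologyMap f j))
    (hepi : ∀ j, a ≤ j → Epi (HomologicalComplex.homologyMap f j)) (V : C) :
    ∃ R ∈ J V, ∀ ⦃W : C⦄ (g : W ⟶ V), R g →
      ∃ β : (r[W].mapHomologicalComplex (ComplexShape.up ℤ)).obj E ⟶
          (r[W].mapHomologicalComplex (ComplexShape.up ℤ)).obj G,
        Nonempty (Homotopy (β ≫ (r[W].mapHomologicalComplex (ComplexShape.up ℤ)).map f)
          ((r[W].mapHomologicalComplex (ComplexShape.up ℤ)).map α)) := by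
  obtain ⟨⟨a', b, hb⟩, hEs⟩ := hE
  obtain ⟨R, hR, h⟩ := exists_part (α := α) (f := f) hEs a b (fun j hj => hb j (Or.inr hj))
    hmono hepi V (b + 1 - a).toNat a le_rfl (by omega)
  refine ⟨R, hR, fun W g hg => ?_⟩
  obtain ⟨S⟩ := h g hg
  let β : (r[W].mapHomologicalComplex (ComplexShape.up ℤ)).obj E ⟶
      (r[W].mapHomologicalComplex (ComplexShape.up ℤ)).obj G :=
    ⟨S.β, fun i j hij => by
      by_cases hi : a ≤ i
      · exact (S.comm i j hi hij).symm
      · exact (Functor.map_isZero r[W] (hEa i (by omega))).eq_of_src _ _⟩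
  let H : ∀ i j, ((r[W].mapHomologicalComplex (ComplexShape.up ℤ)).obj E).X i ⟶
      ((r[W].mapHomologicalComplex (ComplexShape.up ℤ)).obj F).X j :=
    fun i j => if j + 1 = i then S.h i j else 0
  have hH : ∀ i j, j + 1 = i → H i j = S.h i j := fun i j hij => if_pos hij
  refine ⟨β, ⟨{ hom := H
                zero := fun i j hij => if_neg hij
                comm := fun i => ?_ }⟩⟩
  rw [dNext_eq _ (show (ComplexShape.up ℤ).Rel i (i + 1) from rfl),
    prevD_eq _ (show (ComplexShape.up ℤ).Rel (i - 1) i by simp), hH _ _ rfl, hH i (i - 1) (by omega)]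
  by_cases hi : a ≤ i
  · refine (S.hty (i - 1) i (i + 1) hi (by omega) rfl).trans ?_
    change _ = r[W].map (E.d i (i + 1)) ≫ S.h (i + 1) i +
      S.h i (i - 1) ≫ r[W].map (F.d (i - 1) i) + r[W].map (α.f i)
    abel
  · exact (Functor.map_isZero r[W] (hEa i (by omega))).eq_of_src _ _

end Groth.Agent.DSites.LocalLiftCx
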