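import Groth.Agent.DSites.DCat
import Groth.Agent.KFlatLib.PsiC
import Mathlib.Algebra.Homology.DerivedCategory.ExactFunctor

/-!
# Left t-exact functors and cohomology in a weak Serre subcategory
-/

set_option autoImplicit false

universe w v u w' v' u'

open CategoryTheory CategoryTheory.Limits Pretriangulated DerivedCategory

namespace Groth.Agent.DSites

variable {A : Type u} [Category.{v} A] [Abelian A] [HasDerivedCategory.{w} A]
  {B : Type u'} [Category.{v'} B] [Abelian B] [HasDerivedCategory.{w'} B]

local notation "H" => DerivedCategory.homologyFunctor A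
local notation "H'" => DerivedCategory.homologyFunctor B
local notation "tS" => (DerivedCategory.TStructure.t (C := A))

/-- A left t-exact triangulated functor maps bounded below objects with cohomology in `P` to objects
with cohomology in `P'` as soon as it does so for the objects of `P`. -/
theorem cohIn_map_of_leftTExact (F : DerivedCategory A ⥤ DerivedCategory B) [F.CommShift ℤ]
    [F.IsTriangulated] (hF : LeftTExact F) (P : ObjectProperty A) (P' : ObjectProperty B)
    [WSerre.IsWeakSerre P']
    (h : ∀ M, P M → WSerre.cohIn P' (F.obj ((singleFunctor A 0).obj M)))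
    (X : DerivedCategory A) (a : ℤ) [X.IsGE a] (hX : WSerre.cohIn P X) :
    WSerre.cohIn P' (F.obj X) := by
  intro q
  let m : ℤ := max a (q + 1)
  let X' := ((tS).truncLT m).obj X
  have : X'.IsLE (m - 1) := (tS).isLE_truncLT_obj ..
  let Φ : ObjectProperty (DerivedCategory A) := fun Y => WSerre.cohIn P' (F.obj Y)
  have : Φ.IsClosedUnderIsomorphisms := ⟨fun e hY => cohIn_of_iso P' (F.mapIso e) hY⟩
  have hX' : Φ X' := by
    refine devissage_bounded Φ (fun Z hZ i => ?_)
      (fun T hT h₁ h₃ => prop_H_obj₂ P' _ (F.map_distinguished T hT) h₁ h₃) X' a (m - 1)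
      fun n _ hn => ?_
    · exact P'.prop_of_isZero (Functor.map_isZero _ (F.map_isZero hZ))
    · have := H9Misc.isIso_map_truncLTι m n (by omega) X
      refine Φ.prop_of_iso ((singleFunctor A n).mapIso (@asIso _ _ _ _ _ this).symm) ?_
      exact Φ.prop_of_iso (((singleFunctors A).shiftIso (-n) n 0 (by omega)).app _)
        (cohIn_of_iso P' ((F.commShiftIso (-n)).app _).symm (cohIn_shift P' (h _ (hX n)) (-n)))
  have := isIso_H_map_truncLTι F hF X q m (by omega)
  exact P'.prop_of_iso (@asIso _ _ _ _ _ this) (hX' q)

variable (F : A ⥤ B) [F.Additive] [PreservesFiniteLimits F] [PreservesFiniteColimits F]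

/-- The functor induced by an exact functor is left t-exact. -/
lemma leftTExact_mapDerivedCategory : LeftTExact (F.mapDerivedCategory) := fun X n hX =>
  (isGE_iff _ _).2 fun i hi =>
    (Functor.map_isZero F (isZero_of_isGE X n i hi)).of_iso
      ((KFlatLib.mapDCHomologyIso F i).app X)

/-- The functor induced by an exact functor maps objects with cohomology in `P` to objects with
cohomology in `P'` if the functor maps `P` to `P'`. -/
lemma cohIn_mapDerivedCategory (P : ObjectProperty A) (P' : ObjectProperty B)
    [P'.IsClosedUnderIsomorphisms] (h : ∀ M, P M → P' (F.obj M)) (X : DerivedCategory A)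
    (hX : WSerre.cohIn P X) : WSerre.cohIn P' (F.mapDerivedCategory.obj X) := fun i =>
  P'.prop_of_iso ((KFlatLib.mapDCHomologyIso F i).app X).symm (h _ (hX i))

end Groth.Agent.DSites
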