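import Groth.Prelude.Def_SiteCmp
import Groth.Agent.BigSiteLib.FppfDesc.LocExact
import Groth.Agent.H9Misc.AdjDescend
import Groth.Agent.SiteBase.Sections
import Groth.Agent.TriCat.KInjRes
import Groth.Agent.TriCat.DerivedOfAdjunction
import Groth.Agent.DSites.TExact
import Mathlib.Algebra.Homology.HomologySequence
import Mathlib.Algebra.Homology.HomologicalComplexAbelian
import Mathlib.CategoryTheory.Abelian.GrothendieckCategory.Basic
import Mathlib.Algebra.FreeAbelianGroup.Finsupp

/-!
# The derived category of torsion abelian sheaves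

The torsion subsheaf of a complex of injective sheaves with torsion cohomology sheaves is
quasi-isomorphic to it, as injective sheaves are divisible.
-/

set_option autoImplicit false
set_option linter.style.haveILetI false

universe v' u' u

open CategoryTheory CategoryTheory.Limits Opposite DerivedCategory

namespace Groth.Agent.DSites.Tors

open Groth.Agent.SiteBase Groth.Agent.BigSiteLib.FppfDesc

section Generic

variable {A : Type u'} [Category.{v'} A] [Abelian A]

/-- The abelian structure of the full subcategory on a weak Serre class. -/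
noncomputable abbrev abFull (P : ObjectProperty A) [WSerre.IsWeakSerre P] :
    Abelian P.FullSubcategory :=
  inferInstance

lemma shortExact_cokernel {K L : CochainComplex A ℤ} (j : K ⟶ L) [Mono j] :
    (ShortComplex.mk j (cokernel.π j) (cokernel.condition j)).ShortExact :=
  { exact := ShortComplex.exact_of_g_is_cokernel _ (cokernelIsCokernel j) }

lemma shortExact_eval (S : ShortComplex (CochainComplex A ℤ)) (hS : S.ShortExact) (p : ℤ) :
    (S.map (HomologicalComplex.eval A (ComplexShape.up ℤ) p)).ShortExact :=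
  hS.map_of_exact _

lemma quasiIso_of_shortExact (S : ShortComplex (CochainComplex A ℤ)) (hS : S.ShortExact)
    (hQ : ∀ p, S.X₃.ExactAt p) : QuasiIso S.f := by
  refine ⟨fun p => ?_⟩
  rw [quasiIsoAt_iff_isIso_homologyMap]
  have hz : ∀ p, IsZero (S.X₃.homology p) := fun p => (hQ p).isZero_homology
  have : Mono (HomologicalComplex.homologyMap S.f p) :=
    (hS.homology_exact₁ (p - 1) p (by simp)).mono_g ((hz (p - 1)).eq_of_src _ _)
  have : Epi (HomologicalComplex.homologyMap S.f p) :=
    (hS.homology_exact₂ p).epi_f ((hz p).eq_of_tgt _ _)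
  exact isIso_of_mono_of_epi (HomologicalComplex.homologyMap S.f p)

end Generic

variable {C : Type u} [SmallCategory C] {J : GrothendieckTopology C}

section Local

/-- A property of arrows to `U` holds locally. -/
def Loc (J : GrothendieckTopology C) (U : C) (P : ∀ ⦃V : C⦄, (V ⟶ U) → Prop) : Prop :=
  ∃ S ∈ J U, ∀ ⦃V : C⦄ (g : V ⟶ U), S g → P g

lemma Loc.bind {U : C} {P Q : ∀ ⦃V : C⦄, (V ⟶ U) → Prop} (h : Loc J U P)
    (h' : ∀ ⦃V : C⦄ (g : V ⟶ U), P g → Loc J V fun W k => Q (k ≫ g)) : Loc J U Q := by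
  obtain ⟨S, hS, hP⟩ := h
  choose R hR hQ using fun (V : C) (g : V ⟶ U) (hg : S g) => h' g (hP g hg)
  refine ⟨Sieve.bind S.arrows fun V g hg => R V g hg, J.bind_covering hS fun V g hg => hR V g hg, ?_⟩
  rintro W f ⟨V, k, g, hg, hk, rfl⟩
  exact hQ V g hg k hk

lemma Loc.mono {U : C} {P Q : ∀ ⦃V : C⦄, (V ⟶ U) → Prop} (h : Loc J U P)
    (h' : ∀ ⦃V : C⦄ (g : V ⟶ U), P g → Q g) : Loc J U Q :=
  let ⟨S, hS, hP⟩ := h; ⟨S, hS, fun _ g hg => h' g (hP g hg)⟩

lemma Loc.of_all {U : C} {P : ∀ ⦃V : C⦄, (V ⟶ U) → Prop} (h : ∀ ⦃V : C⦄ (g : V ⟶ U), P g) :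
    Loc J U P :=
  ⟨⊤, J.top_mem U, fun _ g _ => h g⟩

variable (F : Sheaf J AddCommGrpCat.{u})

/-- Restriction of sections. -/
noncomputable abbrev res {U V : C} (g : V ⟶ U) : F.obj.obj (op U) →+ F.obj.obj (op V) :=
  (F.obj.map g.op).hom

lemma res_res {U V W : C} (g : V ⟶ U) (k : W ⟶ V) (s : F.obj.obj (op U)) :
    res F k (res F g s) = res F (k ≫ g) s :=
  (congrArg (fun t => t.hom s) (F.obj.map_comp g.op k.op)).symm

/-- A section is torsion if locally it has finite order. -/
def IsTors {U : C} (s : F.obj.obj (op U)) : Prop :=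
  Loc J U fun _ g => IsOfFinAddOrder (res F g s)

variable {F}

lemma isTors_iff_forall : SiteCmp.IsTorsionSh J F ↔ ∀ (U : C) (s : F.obj.obj (op U)), IsTors F s :=
  Iff.rfl

lemma IsTors.res' {U V : C} {s : F.obj.obj (op U)} (h : IsTors F s) (g : V ⟶ U) :
    IsTors F (res F g s) := by
  obtain ⟨S, hS, hs⟩ := h
  refine ⟨S.pullback g, J.pullback_stable g hS, fun W k hk => ?_⟩
  show IsOfFinAddOrder (res F k (res F g s))
  rw [res_res]
  exact hs _ hk

lemma isTors_of_locally {U : C} {s : F.obj.obj (op U)}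
    (h : Loc J U fun _ g => IsTors F (res F g s)) : IsTors F s :=
  h.bind fun V g hg => hg.mono fun W k hk => by rwa [res_res] at hk

lemma IsTors.add {U : C} {s t : F.obj.obj (op U)} (hs : IsTors F s) (ht : IsTors F t) :
    IsTors F (s + t) := by
  obtain ⟨S, hS, hs⟩ := hs
  obtain ⟨T, hT, ht⟩ := ht
  refine ⟨S ⊓ T, J.intersection_covering hS hT, fun V g hg => ?_⟩
  show IsOfFinAddOrder (res F g (s + t))
  rw [map_add]
  exact (hs g hg.1).add (ht g hg.2)

lemma IsTors.map {G : Sheaf J AddCommGrpCat.{u}} (φ : F ⟶ G) {U : C} {s : F.obj.obj (op U)}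
    (h : IsTors F s) : IsTors G ((φ.hom.app (op U)).hom s) :=
  Loc.mono h fun V g hg => by
    rw [show res G g ((φ.hom.app (op U)).hom s) = (φ.hom.app (op V)).hom (res F g s) from
      (ConcreteCategory.congr_hom (φ.hom.naturality g.op) s).symm]
    exact AddMonoidHom.isOfFinAddOrder _ hg

variable (F) in
/-- The torsion sections. -/
def torsSub (U : C) : AddSubgroup (F.obj.obj (op U)) where
  carrier := {s | IsTors F s}
  add_mem' := IsTors.add
  zero_mem' := Loc.of_all fun V g => by rw [map_zero]; exact IsOfFinAddOrder.zero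
  neg_mem' {s} h := Loc.mono h fun V g hg => by rw [map_neg]; exact hg.neg

variable (F) in
/-- The torsion subpresheaf. -/
noncomputable def torsPre : Cᵒᵖ ⥤ AddCommGrpCat.{u} where
  obj U := AddCommGrpCat.of (torsSub F U.unop)
  map {U V} g := AddCommGrpCat.ofHom
    (((res F g.unop).comp (torsSub F U.unop).subtype).codRestrict _ fun s => IsTors.res' s.2 g.unop)
  map_id U := by
    ext (s : torsSub F U.unop)
    exact congrArg (fun t => t.hom s.1) (F.obj.map_id U)
  map_comp {U V W} g k := by
    ext (s : torsSub F U.unop)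
    exact congrArg (fun t => t.hom s.1) (F.obj.map_comp g k)

variable (F) in
lemma isSheaf_torsPre : Presheaf.IsSheaf J (torsPre F) := by
  rw [Presheaf.isSheaf_iff_isSheaf_forget J _ (forget AddCommGrpCat.{u}),
    isSheaf_iff_isSheaf_of_type]
  intro U S hS
  have hF := (isSheaf_iff_isSheaf_of_type _ _).1
    ((Presheaf.isSheaf_iff_isSheaf_forget J F.obj (forget AddCommGrpCat.{u})).1 F.2) S hS
  intro x hx
  let x' : Presieve.FamilyOfElements (F.obj ⋙ forget AddCommGrpCat.{u}) S.arrows :=
    fun V g hg => (x g hg).1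
  have hx' : x'.Compatible := fun {V₁ V₂ W} g₁ g₂ f₁ f₂ h₁ h₂ e =>
    congrArg Subtype.val (hx g₁ g₂ h₁ h₂ e)
  obtain ⟨t, ht, huniq⟩ := hF x' hx'
  refine ⟨⟨t, isTors_of_locally ⟨S, hS, fun V g hg => ?_⟩⟩, fun V g hg => Subtype.ext (ht g hg),
    fun s hs => Subtype.ext (huniq s.1 fun V g hg => congrArg Subtype.val (hs g hg))⟩
  show IsTors F (res F g t)
  rw [show res F g t = (x g hg).1 from ht g hg]
  exact (x g hg).2

variable (F) in
/-- The torsion subsheaf. -/
noncomputable def torsSheaf : Sheaf J AddCommGrpCat.{u} := ⟨torsPre F, isSheaf_torsPre F⟩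

variable (F) in
/-- The inclusion of the torsion subsheaf. -/
noncomputable def torsι : torsSheaf F ⟶ F :=
  ⟨{ app := fun U => AddCommGrpCat.ofHom (torsSub F U.unop).subtype
     naturality := fun _ _ _ => rfl }⟩

instance mono_torsι : Mono (torsι F) := by
  refine ⟨fun {G} a b hab => ?_⟩
  ext U s
  exact Subtype.ext (congrArg (fun t => (t.hom.app U).hom s) hab)

variable (F) in
lemma torsSheaf_isTorsion : SiteCmp.IsTorsionSh J (torsSheaf F) := by
  intro U s
  obtain ⟨S, hS, hs⟩ := s.2
  refine ⟨S, hS, fun V g hg => ?_⟩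
  obtain ⟨n, hn, e⟩ := isOfFinAddOrder_iff_nsmul_eq_zero.1 (hs g hg)
  exact isOfFinAddOrder_iff_nsmul_eq_zero.2 ⟨n, hn, Subtype.ext e⟩

end Local

section Coreflection

variable (J)

/-- The torsion subsheaf as a functor. -/
noncomputable def tors : Sheaf J AddCommGrpCat.{u} ⥤ (SiteCmp.torsionSh J).FullSubcategory where
  obj F := ⟨torsSheaf F, torsSheaf_isTorsion F⟩
  map {F G} φ := ObjectProperty.homMk
    ⟨{ app := fun U => AddCommGrpCat.ofHom
        (((φ.hom.app U).hom.comp (torsSub F U.unop).subtype).codRestrict _ fun s => IsTors.map φ s.2)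
       naturality := fun U V g => by
         ext s
         exact Subtype.ext (ConcreteCategory.congr_hom (φ.hom.naturality g) s.1) }⟩

/-- Morphisms out of a torsion sheaf factor through the torsion subsheaf. -/
noncomputable def torsLift {T : (SiteCmp.torsionSh J).FullSubcategory} {F : Sheaf J AddCommGrpCat.{u}}
    (φ : T.obj ⟶ F) : T ⟶ (tors J).obj F :=
  ObjectProperty.homMk
    ⟨{ app := fun U => AddCommGrpCat.ofHom
        ((φ.hom.app U).hom.codRestrict _ fun s => IsTors.map φ (T.property U.unop s))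
       naturality := fun U V g => by
         ext s
         exact Subtype.ext (ConcreteCategory.congr_hom (φ.hom.naturality g) s) }⟩

/-- The torsion subsheaf is right adjoint to the inclusion. -/
noncomputable def torsAdj : (SiteCmp.torsionSh J).ι ⊣ tors J :=
  Adjunction.mkOfHomEquiv
    { homEquiv := fun T F =>
        { toFun := fun φ => torsLift J φ
          invFun := fun ψ => ψ.hom ≫ torsι F
          left_inv := fun φ => by ext U s; rfl
          right_inv := fun ψ => by
            ext U s
            rfl }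
      homEquiv_naturality_left_symm := fun _ _ => by ext U s; rfl
      homEquiv_naturality_right := fun _ _ => by ext U s; rfl }

lemma torsAdj_counit_app (F : Sheaf J AddCommGrpCat.{u}) : (torsAdj J).counit.app F = torsι F := by
  ext U s
  rfl

end Coreflection

section Divisible

lemma free_nsmul_injective (S : Type u) (n : ℕ) (hn : 0 < n) :
    Function.Injective fun x : FreeAbelianGroup S => n • x := by
  intro x y h
  apply (FreeAbelianGroup.equivFinsupp S).injective
  ext a
  have := congrArg (fun z => (FreeAbelianGroup.equivFinsupp S z) a) h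
  simp only [map_nsmul, Finsupp.smul_apply, nsmul_eq_mul] at this
  exact mul_left_cancel₀ (Nat.cast_ne_zero.2 hn.ne') this

/-- Injective sheaves are divisible on sections. -/
theorem exists_nsmul_eq (I : Sheaf J AddCommGrpCat.{u}) [Injective I] {U : C} (s : I.obj.obj (op U))
    (n : ℕ) (hn : 0 < n) : ∃ t : I.obj.obj (op U), n • t = s := by
  let P : Cᵒᵖ ⥤ AddCommGrpCat.{u} := yoneda.obj U ⋙ AddCommGrpCat.free.{u}
  have hP : Mono (n • 𝟙 P) := by
    have : ∀ V, Mono ((n • 𝟙 P).app V) := fun V =>
      (AddCommGrpCat.mono_iff_injective _).2 fun a b hab => free_nsmul_injective _ n hn (by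
        rw [NatTrans.app_nsmul] at hab
        exact hab)
    exact NatTrans.mono_of_mono_app _
  have e : (presheafToSheaf J AddCommGrpCat.{u}).map (n • 𝟙 P) = n • 𝟙 (CohCx.freeSheaf J U) := by
    rw [Functor.map_nsmul, CategoryTheory.Functor.map_id]
  have : Mono (n • 𝟙 (CohCx.freeSheaf J U)) := by
    rw [← e]
    infer_instance
  let ψ := Injective.factorThru ((secEquiv J U I).symm s) (n • 𝟙 (CohCx.freeSheaf J U))
  refine ⟨secEquiv J U I ψ, ?_⟩
  have hψ : (n • 𝟙 (CohCx.freeSheaf J U)) ≫ ψ = (secEquiv J U I).symm s := Injective.comp_factorThru _ _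
  rw [Preadditive.nsmul_comp, Category.id_comp] at hψ
  rw [← map_nsmul, hψ, AddEquiv.apply_symm_apply]

end Divisible

section Complex

variable (I : CochainComplex (Sheaf J AddCommGrpCat.{u}) ℤ)

/-- The differential on sections. -/
noncomputable abbrev dd (p q : ℤ) (U : C) : (I.X p).obj.obj (op U) →+ (I.X q).obj.obj (op U) :=
  ((I.d p q).hom.app (op U)).hom

lemma res_dd (p q : ℤ) {U V : C} (g : V ⟶ U) (y : (I.X p).obj.obj (op U)) :
    res (I.X q) g (dd I p q U y) = dd I p q V (res (I.X p) g y) :=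
  (ConcreteCategory.congr_hom ((I.d p q).hom.naturality g.op) y).symm

/-- If cohomology is torsion, a multiple of a cycle is locally a boundary. -/
lemma locally_nsmul_boundary (h : ∀ p, SiteCmp.IsTorsionSh J (I.homology p)) (p : ℤ) {U : C}
    (y : (I.X p).obj.obj (op U)) (hy : dd I p (p + 1) U y = 0) :
    Loc J U fun V g => ∃ (m : ℕ) (z : (I.X (p - 1)).obj.obj (op V)),
      0 < m ∧ dd I (p - 1) p V z = m • res (I.X p) g y := by
  have hc : (ShortComplex.mk (I.iCycles p) (I.d p (p + 1)) (I.iCycles_d p (p + 1))).Exact :=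
    ShortComplex.exact_of_f_is_kernel _ (I.cyclesIsKernel p (p + 1) (by simp))
  have hh : (ShortComplex.mk (I.toCycles (p - 1) p) (I.homologyπ p)
      (I.toCycles_comp_homologyπ (p - 1) p)).Exact :=
    ShortComplex.exact_of_g_is_cokernel _ (I.homologyIsCokernel (p - 1) p (by simp))
  refine Loc.bind (P := fun V g => ∃ c, ((I.iCycles p).hom.app (op V)).hom c = res (I.X p) g y)
    ⟨_, locally_boundary hc y hy, fun V g hg => hg⟩ ?_
  rintro V g ⟨c, hc'⟩
  refine Loc.bind (h p V (((I.homologyπ p).hom.app (op V)).hom c)) ?_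
  intro W k hk
  obtain ⟨m, hm, hmc⟩ := isOfFinAddOrder_iff_nsmul_eq_zero.1 hk
  have h0 : ((I.homologyπ p).hom.app (op W)).hom (m • res (I.cycles p) k c) = 0 := by
    rw [map_nsmul, show ((I.homologyπ p).hom.app (op W)).hom (res (I.cycles p) k c) =
      res (I.homology p) k (((I.homologyπ p).hom.app (op V)).hom c) from
        ConcreteCategory.congr_hom ((I.homologyπ p).hom.naturality k.op) c]
    exact hmc
  refine Loc.mono ⟨_, locally_boundary hh _ h0, fun Z l hl => hl⟩ ?_
  rintro Z l ⟨z, hz⟩
  refine ⟨m, z, hm, ?_⟩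
  have e₁ : dd I (p - 1) p Z z =
      ((I.iCycles p).hom.app (op Z)).hom (((I.toCycles (p - 1) p).hom.app (op Z)).hom z) :=
    (congrArg (fun t => (t.hom.app (op Z)).hom z) (I.toCycles_i (p - 1) p)).symm
  rw [e₁, show ((I.toCycles (p - 1) p).hom.app (op Z)).hom z = res (I.cycles p) l (m • res (I.cycles p) k c)
      from hz, map_nsmul, map_nsmul, res_res,
    show ((I.iCycles p).hom.app (op Z)).hom (res (I.cycles p) (l ≫ k) c) =
      res (I.X p) (l ≫ k) (((I.iCycles p).hom.app (op V)).hom c) from
        ConcreteCategory.congr_hom ((I.iCycles p).hom.naturality (l ≫ k).op) c,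
    hc', res_res, Category.assoc]

/-- The subcomplex of torsion sections. -/
noncomputable abbrev torsCx : CochainComplex (Sheaf J AddCommGrpCat.{u}) ℤ where
  X p := torsSheaf (I.X p)
  d p q := ((tors J).map (I.d p q)).hom
  shape p q h := by
    ext U s
    exact Subtype.ext (congrArg (fun t => (t.hom.app U).hom s.1) (I.shape p q h))
  d_comp_d' p q r _ _ := by
    ext U s
    exact Subtype.ext (congrArg (fun t => (t.hom.app U).hom s.1) (I.d_comp_d p q r))

/-- Its inclusion. -/
noncomputable abbrev torsCxι : torsCx I ⟶ I where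
  f p := torsι (I.X p)
  comm' p q _ := by ext U s; rfl

/-- For a complex of injective sheaves with torsion cohomology the torsion subcomplex is
quasi-isomorphic to it. -/
theorem quasiIso_torsCxι [∀ p, Injective (I.X p)] (h : ∀ p, SiteCmp.IsTorsionSh J (I.homology p)) :
    QuasiIso (torsCxι I) := by
  have : Mono (torsCxι I) :=
    @HomologicalComplex.mono_of_mono_f _ _ _ _ _ _ _ (torsCxι I) fun p => mono_torsι
  let S : ShortComplex (CochainComplex (Sheaf J AddCommGrpCat.{u}) ℤ) :=
    ShortComplex.mk (torsCxι I) (cokernel.π (torsCxι I)) (cokernel.condition _)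
  have hS : S.ShortExact := shortExact_cokernel (torsCxι I)
  let ev := fun p => HomologicalComplex.eval (Sheaf J AddCommGrpCat.{u}) (ComplexShape.up ℤ) p
  have hd : ∀ p, (S.map (ev p)).ShortExact := shortExact_eval S hS
  have hQ : ∀ p, S.X₃.ExactAt p := by
    intro p
    rw [S.X₃.exactAt_iff' (p - 1) p (p + 1) (by simp) (by simp)]
    refine exact_of_locally_boundary fun U q hq => ?_
    replace hq : dd S.X₃ p (p + 1) U q = 0 := hq
    change (S.X₃.X p).obj.obj (op U) at q
    have hπ : Sheaf.IsLocallySurjective (S.g.f p) :=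
      (Sheaf.isLocallySurjective_iff_epi' AddCommGrpCat.{u} _).2 (hd p).epi_g
    obtain ⟨R, hR, key⟩ : Loc J U fun V g => ∃ z : (S.X₃.X (p - 1)).obj.obj (op V),
        dd S.X₃ (p - 1) p V z = res (S.X₃.X p) g q := by
      refine Loc.bind (P := fun V g => ∃ y, ((S.g.f p).hom.app (op V)).hom y = res (S.X₃.X p) g q)
        ⟨_, Presheaf.imageSieve_mem J (S.g.f p).hom q, fun V g hg => hg⟩ ?_
      rintro V g ⟨y, hy⟩
      have hdy : ((S.g.f (p + 1)).hom.app (op V)).hom (dd I p (p + 1) V y) = 0 := by
        have e := congrArg (fun t => (t.hom.app (op V)).hom y) (S.g.comm p (p + 1))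
        refine e.symm.trans ((congrArg (dd S.X₃ p (p + 1) V) hy).trans ?_)
        rw [← res_dd]
        exact (congrArg (res (S.X₃.X (p + 1)) g) hq).trans (map_zero _)
      refine Loc.bind (P := fun W k => ∃ n : ℕ, 0 < n ∧ n • res (I.X (p + 1)) k (dd I p (p + 1) V y) = 0)
        (Loc.bind ⟨_, locally_boundary (hd (p + 1)).exact _ hdy, fun W k hk => hk⟩ fun W k ⟨a, ha⟩ =>
          Loc.mono a.2 fun Z l hl => ?_) ?_
      · have hl' : IsOfFinAddOrder (res (I.X (p + 1)) l (res (I.X (p + 1)) k (dd I p (p + 1) V y))) := by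
          have ha' : a.1 = res (I.X (p + 1)) k (dd I p (p + 1) V y) := ha
          rwa [← ha']
        rw [res_res] at hl'
        exact isOfFinAddOrder_iff_nsmul_eq_zero.1 hl'
      rintro W k ⟨n, hn, hnd⟩
      have hcyc : dd I p (p + 1) W (n • res (I.X p) k y) = 0 := by
        rw [map_nsmul, ← res_dd, hnd]
      refine (locally_nsmul_boundary I h p _ hcyc).mono ?_
      rintro Z l ⟨m, z, hm, hz⟩
      obtain ⟨w, rfl⟩ := exists_nsmul_eq (I.X (p - 1)) z (m * n) (Nat.mul_pos hm hn)
      let y₁ := res (I.X p) (l ≫ k) y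
      have ht : (m * n) • (y₁ - dd I (p - 1) p Z w) = 0 := by
        have hz' : (m * n) • dd I (p - 1) p Z w = m • n • y₁ := by
          rw [← map_nsmul, hz, map_nsmul, res_res]
        rw [smul_sub, hz', mul_smul, sub_self]
      have htors : IsTors (I.X p) (y₁ - dd I (p - 1) p Z w) := Loc.of_all fun Z' g' =>
        isOfFinAddOrder_iff_nsmul_eq_zero.2 ⟨m * n, Nat.mul_pos hm hn, by rw [← map_nsmul, ht, map_zero]⟩
      refine ⟨((S.g.f (p - 1)).hom.app (op Z)).hom w, ?_⟩
      have e₁ : dd S.X₃ (p - 1) p Z (((S.g.f (p - 1)).hom.app (op Z)).hom w) =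
          ((S.g.f p).hom.app (op Z)).hom (dd I (p - 1) p Z w) :=
        congrArg (fun t => (t.hom.app (op Z)).hom w) (S.g.comm (p - 1) p)
      have e₂ : ((S.g.f p).hom.app (op Z)).hom (y₁ - dd I (p - 1) p Z w) = 0 :=
        congrArg (fun t => (t.hom.app (op Z)).hom (⟨_, htors⟩ : torsSub (I.X p) Z))
          (congrArg (fun t : S.X₁ ⟶ S.X₃ => t.f p) S.zero)
      have e₃ : ((S.g.f p).hom.app (op Z)).hom y₁ = res (S.X₃.X p) ((l ≫ k) ≫ g) q := by
        rw [show ((S.g.f p).hom.app (op Z)).hom y₁ =
          res (S.X₃.X p) (l ≫ k) (((S.g.f p).hom.app (op V)).hom y) from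
            ConcreteCategory.congr_hom ((S.g.f p).hom.naturality (l ≫ k).op) y, hy, res_res]
      rw [map_sub, sub_eq_zero] at e₂
      rw [e₁, ← e₂, e₃, Category.assoc]
    exact J.superset_covering (fun V g hg => key g hg) hR
  exact quasiIso_of_shortExact S hS hQ

end Complex

section Derived

attribute [local instance] HasDerivedCategory.standard

variable (J) [(SiteCmp.torsionSh J).IsSerreClass]

noncomputable instance abelianTors : Abelian (SiteCmp.torsionSh J).FullSubcategory :=
  abFull (SiteCmp.torsionSh J)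

instance additive_tors : (tors J).Additive := (torsAdj J).right_adjoint_additive

omit [(SiteCmp.torsionSh J).IsSerreClass] in
lemma exists_kInjective_ab (X : CochainComplex (Sheaf J AddCommGrpCat.{u}) ℤ) :
    ∃ (I : CochainComplex (Sheaf J AddCommGrpCat.{u}) ℤ) (f : X ⟶ I), I.IsKInjective ∧ QuasiIso f :=
  let ⟨I, f, h₁, h₂, _⟩ := TriCat.exists_kInjective_resolution' X
  ⟨I, f, h₁, h₂⟩

/-- `D` of torsion sheaves is the full subcategory of `D` of objects with torsion cohomology. -/
theorem toDerived_fullyFaithful_essImage :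
    (WSerre.toDerived (SiteCmp.torsionSh J)).Full ∧ (WSerre.toDerived (SiteCmp.torsionSh J)).Faithful ∧
      ∀ K : DerivedCategory (Sheaf J AddCommGrpCat.{u}),
        WSerre.cohIn (SiteCmp.torsionSh J) K ↔ (WSerre.toDerived (SiteCmp.torsionSh J)).essImage K := by
  haveI := TriCat.qh_isLeftAdjoint_of_exists_resolution (exists_kInjective_ab J)
  let adjQ := Adjunction.ofIsLeftAdjoint (DerivedCategory.Qh (C := Sheaf J AddCommGrpCat.{u}))
  let ι := (SiteCmp.torsionSh J).ι
  let Φ := ι.mapDerivedCategory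
  let adj := H9Misc.AdjDescend.derivedAdj (torsAdj J) adjQ
  have himage : ∀ M, WSerre.cohIn (SiteCmp.torsionSh J) (Φ.obj M) := fun M =>
    cohIn_mapDerivedCategory ι (fun T => (SiteCmp.torsionSh J) T.obj) (SiteCmp.torsionSh J)
      (fun _ hM => hM) M fun i => ((DerivedCategory.homologyFunctor _ i).obj M).property
  have hcounit : ∀ K, WSerre.cohIn (SiteCmp.torsionSh J) K → IsIso (adj.counit.app K) := by
    intro K hK
    obtain ⟨I, f, hI, hf, -, hinj⟩ := TriCat.exists_kInjective_resolution' (DerivedCategory.Q.objPreimage K)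
    let qI := (HomotopyCategory.quotient _ (ComplexShape.up ℤ)).obj I
    let e : K ≅ DerivedCategory.Qh.obj qI :=
      (DerivedCategory.Q.objObjPreimageIso K).symm ≪≫ asIso (DerivedCategory.Q.map f) ≪≫
        ((quotientCompQhIso _).app I).symm
    refine (NatTrans.isIso_app_iff_of_iso adj.counit e).2 ?_
    have hK' : ∀ p, SiteCmp.IsTorsionSh J (I.homology p) := fun p =>
      (SiteCmp.torsionSh J).prop_of_iso
        ((DerivedCategory.homologyFunctor _ p).mapIso (e ≪≫ (quotientCompQhIso _).app I) ≪≫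
          (homologyFunctorFactors _ p).app I) (hK p)
    haveI := TriCat.isIso_unit_of_isKInjective adjQ I
    haveI hQ : IsIso (adjQ.counit.app (DerivedCategory.Qh.obj qI)) :=
      IsIso.of_isIso_fac_left (adjQ.left_triangle_components qI)
    rw [show adj = H9Misc.AdjDescend.derivedAdj (torsAdj J) adjQ from rfl,
      H9Misc.AdjDescend.derivedAdj, H9Misc.AdjDescend.descend_counit_app]
    let a := H9Misc.SerreDerived.adjHtpy (ComplexShape.up ℤ) (torsAdj J)
    have hqis : IsIso (DerivedCategory.Qh.map (a.counit.app qI)) := by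
      refine (DerivedCategory.isIso_Qh_map_iff _).2 ?_
      haveI := quasiIso_torsCxι I hK'
      exact (HomotopyCategory.quotient_map_mem_quasiIso_iff (torsCxι I)).2
        ((HomologicalComplex.mem_quasiIso_iff _).2 inferInstance)
    haveI : IsIso (DerivedCategory.Qh.map (a.counit.app
        ((Functor.rightAdjoint DerivedCategory.Qh).obj (DerivedCategory.Qh.obj qI)))) :=
      (NatTrans.isIso_app_iff_of_iso (Functor.whiskerRight a.counit DerivedCategory.Qh)
        (asIso (adjQ.unit.app qI))).1 hqis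
    show IsIso (_ ≫ (a.comp adjQ).counit.app (DerivedCategory.Qh.obj qI))
    haveI : IsIso ((a.comp adjQ).counit.app (DerivedCategory.Qh.obj qI)) := by
      rw [Adjunction.comp_counit_app]
      exact IsIso.comp_isIso' ‹IsIso (DerivedCategory.Qh.map (a.counit.app
        ((Functor.rightAdjoint DerivedCategory.Qh).obj (DerivedCategory.Qh.obj qI))))› hQ
    exact IsIso.comp_isIso' (Iso.isIso_hom (ι.mapDerivedCategoryFactorsh.app _)) inferInstance
  have hreflect : ∀ {M N : DerivedCategory (SiteCmp.torsionSh J).FullSubcategory} (φ : M ⟶ N),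
      IsIso (Φ.map φ) → IsIso φ := fun {M N} φ hφ => by
    rw [DerivedCategory.isIso_iff]
    intro i
    have h1 : IsIso ((DerivedCategory.homologyFunctor _ i).map (Φ.map φ)) := inferInstance
    have h2 : IsIso (ι.map ((DerivedCategory.homologyFunctor _ i).map φ)) :=
      (NatIso.isIso_map_iff (KFlatLib.mapDCHomologyIso ι i) φ).1 h1
    exact isIso_of_reflects_iso _ ι
  haveI : ∀ M, IsIso (adj.unit.app M) := fun M => by
    haveI := hcounit _ (himage M)
    haveI : IsIso (Φ.map (adj.unit.app M) ≫ adj.counit.app (Φ.obj M)) := by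
      rw [show Φ.map (adj.unit.app M) ≫ adj.counit.app (Φ.obj M) = 𝟙 _ from adj.left_triangle_components M]
      exact ⟨⟨𝟙 _, Category.id_comp _, Category.id_comp _⟩⟩
    exact hreflect _ (IsIso.of_isIso_comp_right (Φ.map (adj.unit.app M)) (adj.counit.app (Φ.obj M)))
  haveI : IsIso adj.unit := NatIso.isIso_of_isIso_app _
  refine ⟨adj.fullyFaithfulLOfIsIsoUnit.full, adj.fullyFaithfulLOfIsIsoUnit.faithful, fun K => ⟨fun hK => ?_, ?_⟩⟩
  · haveI := hcounit K hK
    exact ⟨_, ⟨asIso (adj.counit.app K)⟩⟩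
  · rintro ⟨M, ⟨e⟩⟩
    exact cohIn_of_iso _ e (himage M)

end Derived

end Groth.Agent.DSites.Tors
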