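import Groth.Agent.SiteBase.HDUSheafify
import Groth.Agent.SiteBase.KInjSections
import Groth.Agent.SiteBase.KInjAdj
import Groth.Agent.SiteBase.Rpush
import Groth.Agent.SiteBase.Top
import Groth.Agent.DSites.Vanish
import Groth.Agent.DSites.TorsionD

/-!
Negative vanishing on a basis forces negative vanishing and makes `H^0` a sheaf.
-/

universe u

open CategoryTheory CategoryTheory.Limits Opposite TopologicalSpace DerivedCategory Pretriangulated

namespace Groth.Agent.DSites

section Heart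

variable {C : Type u} [SmallCategory C] {J : GrothendieckTopology C}
  [HasDerivedCategory.{u} (Sheaf J AddCommGrpCat.{u})]

/-- Sections of a sheaf as morphisms out of free objects of the derived category. -/
noncomputable def homPresheafSingleIso (N : Sheaf J AddCommGrpCat.{u}) :
    N.obj ≅ HDUSheafify.homPresheaf J ((singleFunctor (Sheaf J AddCommGrpCat.{u}) 0).obj N) :=
  NatIso.ofComponents
    (fun U => AddEquiv.toAddCommGrpIso
      ((SiteBase.secEquiv J U.unop N).symm.trans
        { toFun := fun φ => (singleFunctor (Sheaf J AddCommGrpCat.{u}) 0).map φ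
          invFun := fun ψ => (singleFunctor (Sheaf J AddCommGrpCat.{u}) 0).preimage ψ
          left_inv := fun φ => (singleFunctor (Sheaf J AddCommGrpCat.{u}) 0).preimage_map φ
          right_inv := fun ψ => (singleFunctor (Sheaf J AddCommGrpCat.{u}) 0).map_preimage ψ
          map_add' := fun φ ψ => (singleFunctor (Sheaf J AddCommGrpCat.{u}) 0).map_add }))
    (fun {U V} g => by
      ext s
      refine Eq.trans (congrArg (singleFunctor (Sheaf J AddCommGrpCat.{u}) 0).map ?_)
        ((singleFunctor (Sheaf J AddCommGrpCat.{u}) 0).map_comp (CohCx.freeSheafMap J g.unop)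
          ((SiteBase.secEquiv J U.unop N).symm s))
      apply (SiteBase.secEquiv J V.unop N).injective
      rw [SiteBase.secEquiv_freeSheafMap]
      exact ((SiteBase.secEquiv J V.unop N).apply_symm_apply _).trans
        (congrArg _ ((SiteBase.secEquiv J U.unop N).apply_symm_apply s).symm))

/-- For an object in nonnegative degrees, degree zero hypercohomology is a sheaf. -/
theorem isSheaf_homPresheaf (M : DerivedCategory (Sheaf J AddCommGrpCat.{u})) [M.IsGE 0] :
    Presheaf.IsSheaf J (HDUSheafify.homPresheaf J M) := by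
  let t := DerivedCategory.TStructure.t (C := Sheaf J AddCommGrpCat.{u})
  obtain ⟨X, Y, hX, hY, f, g, d, hT⟩ := t.exists_triangle M 0 1 rfl
  have : t.IsLE X 0 := ⟨hX⟩
  have : t.IsGE Y 1 := ⟨hY⟩
  have : t.IsGE (Y⟦(-1 : ℤ)⟧) 2 := t.isGE_shift Y 1 (-1) 2 rfl
  have : Y.IsGE 1 := ⟨hY⟩
  have : X.IsLE 0 := ⟨hX⟩
  have : X.IsGE 0 := (isGE_iff _ _).2 fun i hi =>
    (HomologySequence.exact₁ _ hT (i - 1) i (by omega)).isZero_of_both_zeros
      ((isZero_of_isGE Y 1 (i - 1) (by omega)).eq_of_src _ _) ((isZero_of_isGE M 0 i hi).eq_of_tgt _ _)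
  obtain ⟨N, ⟨eN⟩⟩ := exists_iso_singleFunctor_obj_of_isGE_of_isLE X 0
  have hiso : IsIso (Functor.whiskerLeft (yoneda ⋙ (Functor.whiskeringRight _ _ _).obj AddCommGrpCat.free.{u} ⋙
      presheafToSheaf J AddCommGrpCat.{u} ⋙ singleFunctor (Sheaf J AddCommGrpCat.{u}) 0).op
        (preadditiveYoneda.map f)) := by
    have : ∀ U : Cᵒᵖ, IsIso ((Functor.whiskerLeft (yoneda ⋙ (Functor.whiskeringRight _ _ _).obj
        AddCommGrpCat.free.{u} ⋙ presheafToSheaf J AddCommGrpCat.{u} ⋙
        singleFunctor (Sheaf J AddCommGrpCat.{u}) 0).op (preadditiveYoneda.map f)).app U) := fun U => by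
      let Z := (singleFunctor (Sheaf J AddCommGrpCat.{u}) 0).obj (CohCx.freeSheaf J U.unop)
      have : t.IsLE Z 0 := inferInstanceAs (Z.IsLE 0)
      refine (ConcreteCategory.isIso_iff_bijective _).2 ⟨fun a b hab => ?_, fun φ => ?_⟩
      · let a' : Z ⟶ X := a
        let b' : Z ⟶ X := b
        have h0 : (a' - b') ≫ f = 0 := by rw [Preadditive.sub_comp]; exact sub_eq_zero.2 hab
        obtain ⟨r, hr⟩ := Pretriangulated.Triangle.coyoneda_exact₂ _ (inv_rot_of_distTriang _ hT) (a' - b') h0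
        have hr0 : r = 0 := t.zero_of_isLE_of_isGE r 0 2 (by omega) inferInstance
          (show t.IsGE (Y⟦(-1 : ℤ)⟧) 2 from ‹_›)
        subst hr0
        exact sub_eq_zero.1 (hr.trans zero_comp)
      · let φ' : Z ⟶ M := φ
        have h0 : φ' ≫ g = 0 := t.zero_of_isLE_of_isGE _ 0 1 (by omega) inferInstance inferInstance
        obtain ⟨r, hr⟩ := Pretriangulated.Triangle.coyoneda_exact₂ _ hT φ' h0
        exact ⟨r, hr.symm⟩
    exact NatIso.isIso_of_isIso_app _
  refine Presheaf.isSheaf_of_iso_iff (J := J) ?_ |>.1 N.2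
  exact homPresheafSingleIso N ≪≫
    Functor.isoWhiskerLeft _ (preadditiveYoneda.mapIso eN.symm) ≪≫ asIso (Functor.whiskerLeft _ (preadditiveYoneda.map f))

end Heart

section Top

variable {X Y : TopCat.{u}} (f : X ⟶ Y) [HasDerivedCategory.{u} (CohTop.Ab X)]

/-- The sections part of the negative vanishing statement. -/
theorem negative_vanishing (B : Set (Opens Y)) (hB : Opens.IsBasis B) (K : DerivedCategory (CohTop.Ab X))
    (h : ∀ V ∈ B, ∀ i : ℤ, i < 0 → Subsingleton (CohCx.HDU K i ((Opens.map f).obj V))) :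
    (∀ (V : Opens Y) (i : ℤ), i < 0 → Subsingleton (CohCx.HDU K i ((Opens.map f).obj V))) ∧
    Presheaf.IsSheaf (Opens.grothendieckTopology Y) ((Opens.map f).op ⋙ CohCx.HDUPresheaf K 0) := by
  let := smallShD (Opens.grothendieckTopology Y)
  obtain ⟨K₁, ⟨eK⟩, hK⟩ : ∃ (I : CochainComplex (CohTop.Ab X) ℤ), Nonempty (K ≅ Q.obj I) ∧ I.IsKInjective := by
    obtain ⟨I, g, hI, hg, -⟩ := TriCat.exists_kInjective_resolution' (Q.objPreimage K)
    exact ⟨I, ⟨(Q.objObjPreimageIso K).symm ≪≫ asIso (Q.map g)⟩, hI⟩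
  have : PreservesFiniteColimits (CohTop.pull f) := by
    have : (CohTop.pull f).IsLeftAdjoint :=
      (TopCat.Sheaf.pullbackPushforwardAdjunction AddCommGrpCat.{u} f).isLeftAdjoint
    infer_instance
  have := SiteBase.preservesFiniteLimits_pull f
  have : (CohTop.pull f).Additive := Functor.additive_of_preserves_binary_products _
  have := hK
  let M : CochainComplex (CohTop.Ab Y) ℤ := ((CohTop.push f).mapHomologicalComplex (ComplexShape.up ℤ)).obj K₁
  have : M.IsKInjective := SiteBase.isKInjective_map (L := CohTop.pull f) (R := CohTop.push f)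
    (TopCat.Sheaf.pullbackPushforwardAdjunction AddCommGrpCat.{u} f) K₁
  let pre := (Functor.whiskeringLeft _ _ AddCommGrpCat.{u}).obj (Opens.map f).op
  have e : ∀ i : ℤ, (Opens.map f).op ⋙ CohCx.HDUPresheaf K i ≅ CohCx.HDUPresheaf (Q.obj M) i := fun i =>
    pre.mapIso (Functor.isoWhiskerLeft _
        (preadditiveYoneda.mapIso ((shiftFunctor (DerivedCategory (CohTop.Ab X)) i).mapIso eK)) ≪≫
      (KInjSections.iso K₁ i).symm) ≪≫
    ((KInjSections.preCx K₁).sc i |>.mapHomologyIso pre).symm ≪≫ KInjSections.iso M i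
  have hGE : (Q.obj M).IsGE 0 := by
    rw [isGE_iff]
    intro i hi
    obtain ⟨e'⟩ := HDUSheafify.nonempty_iso (Q.obj M) i
    refine IsZero.of_iso ?_ e'.symm
    refine SiteBase.isZero_sheafify _ fun V x => ?_
    refine ⟨⟨fun W => {g | ∃ V' ∈ B, W ≤ V' ∧ V' ≤ V}, fun hW g => ?_⟩, ?_, ?_⟩
    · obtain ⟨V', hV', hle, hle'⟩ := hW
      exact ⟨V', hV', g.le.trans hle, hle'⟩
    · intro y hy
      obtain ⟨V', hV', hy', hle⟩ := Opens.isBasis_iff_nbhd.1 hB hy
      exact ⟨V', homOfLE hle, ⟨V', hV', le_rfl, hle⟩, hy'⟩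
    · rintro W g ⟨V', hV', hle, hle'⟩
      have : Subsingleton ((CohCx.HDUPresheaf (Q.obj M) i).obj (op V')) := by
        have : Subsingleton (((Opens.map f).op ⋙ CohCx.HDUPresheaf K i).obj (op V')) := h V' hV' i hi
        exact ((e i).app (op V')).addCommGroupIsoToAddEquiv.toEquiv.symm.subsingleton
      have hg : g = homOfLE hle ≫ homOfLE hle' := Subsingleton.elim _ _
      rw [hg, op_comp, Functor.map_comp]
      exact (congrArg ((CohCx.HDUPresheaf (Q.obj M) i).map (homOfLE hle).op).hom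
        (Subsingleton.elim ((CohCx.HDUPresheaf (Q.obj M) i).map (homOfLE hle').op x) 0)).trans (map_zero _)
  refine ⟨fun V i hi => ?_, ?_⟩
  · have : Subsingleton ((CohCx.HDUPresheaf (Q.obj M) i).obj (op V)) := subsingleton_of_forall_eq 0 fun φ => by
      have : ((Q.obj M)⟦i⟧).IsGE (-i) := TStructure.t.isGE_shift (Q.obj M) 0 i (-i) (by omega)
      let Z := (singleFunctor (CohTop.Ab Y) 0).obj (CohCx.freeSheaf (Opens.grothendieckTopology Y) V)
      let φ' : Z ⟶ (Q.obj M)⟦i⟧ := φ
      exact TStructure.t.zero_of_isLE_of_isGE φ' 0 (-i) (by omega) (inferInstanceAs (Z.IsLE 0)) ‹_›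
    exact ((e i).app (op V)).addCommGroupIsoToAddEquiv.toEquiv.subsingleton
  · refine (Presheaf.isSheaf_of_iso_iff (e 0)).2 ?_
    have : ((Q.obj M)⟦(0 : ℤ)⟧).IsGE 0 := TStructure.t.isGE_shift (Q.obj M) 0 0 0 (by omega)
    exact isSheaf_homPresheaf _

end Top

end Groth.Agent.DSites
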