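import Groth.Prelude.Def_CohDer
import Mathlib.Algebra.Homology.DerivedCategory.KInjective
import Mathlib.Algebra.Homology.ShortComplex.ExactFunctor
import Mathlib.CategoryTheory.Abelian.Refinements
import Mathlib.CategoryTheory.Triangulated.Pretriangulated

/-!
# Finite partial sums of coproducts

The idempotents cutting finite partial sums out of a coproduct, and maps supported in finite partial sums.
-/

set_option linter.style.haveILetI false
set_option backward.isDefEq.respectTransparency false

universe w w'

open CategoryTheory CategoryTheory.Limits HomologicalComplex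

namespace Groth.Agent.DSites.PartProj

section PartProj

variable {C : Type*} [Category C] [HasZeroMorphisms C] {J : Type w} (M : J → C) [HasCoproduct M]

open Classical in
/-- The idempotent cutting out a finite partial sum. -/
noncomputable def partProj (F : Finset J) : ∐ M ⟶ ∐ M :=
  Sigma.desc fun i => if i ∈ F then Sigma.ι M i else 0

lemma ι_partProj_mem {F : Finset J} {i : J} (h : i ∈ F) : Sigma.ι M i ≫ partProj M F = Sigma.ι M i := by
  simp [partProj, h]

lemma ι_partProj_not_mem {F : Finset J} {i : J} (h : i ∉ F) : Sigma.ι M i ≫ partProj M F = 0 := by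
  simp [partProj, h]

lemma partProj_comp {F G : Finset J} (h : F ⊆ G) : partProj M F ≫ partProj M G = partProj M F := by
  refine Sigma.hom_ext _ _ fun i => ?_
  by_cases hi : i ∈ F
  · rw [← Category.assoc, ι_partProj_mem M hi, ι_partProj_mem M (h hi)]
  · rw [← Category.assoc, ι_partProj_not_mem M hi, zero_comp]

/-- Natural in the summands. -/
lemma sigmaMap_partProj {N : J → C} [HasCoproduct N] (g : ∀ j, M j ⟶ N j) (F : Finset J) :
    partProj M F ≫ Limits.Sigma.map g = Limits.Sigma.map g ≫ partProj N F := by
  refine Sigma.hom_ext _ _ fun i => ?_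
  by_cases hi : i ∈ F
  · rw [← Category.assoc, ι_partProj_mem M hi, Limits.Sigma.ι_map_assoc, ι_partProj_mem N hi,
      Limits.Sigma.ι_map]
  · rw [← Category.assoc, ι_partProj_not_mem M hi, zero_comp, Limits.Sigma.ι_map_assoc,
      ι_partProj_not_mem N hi, comp_zero]

/-- Compatible with comparison maps. -/
lemma sigmaComparison_partProj {D : Type*} [Category D] [HasZeroMorphisms D] (H : C ⥤ D)
    [H.PreservesZeroMorphisms] [HasCoproduct fun j => H.obj (M j)] (F : Finset J) :
    sigmaComparison H M ≫ H.map (partProj M F) =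
      partProj (fun j => H.obj (M j)) F ≫ sigmaComparison H M := by
  refine Sigma.hom_ext _ _ fun i => ?_
  rw [ι_comp_sigmaComparison_assoc, ← H.map_comp]
  by_cases hi : i ∈ F
  · rw [ι_partProj_mem M hi, ← Category.assoc, ι_partProj_mem _ hi, ι_comp_sigmaComparison]
  · rw [ι_partProj_not_mem M hi, ← Category.assoc, ι_partProj_not_mem _ hi, zero_comp, H.map_zero]

end PartProj

section Fix

variable {D : Type*} [Category D] [Preadditive D] {J : Type w} (M : J → D) [HasCoproduct M]

/-- All maps from an object are supported in finite partial sums. -/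
def FixAt (A : D) : Prop := ∀ φ : A ⟶ ∐ M, ∃ F : Finset J, φ ≫ partProj M F = φ

variable {M}

lemma FixAt.of_iso {A B : D} (e : A ≅ B) (h : FixAt M A) : FixAt M B := fun φ => by
  obtain ⟨F, hF⟩ := h (e.hom ≫ φ)
  exact ⟨F, (cancel_epi e.hom).1 (by rw [← Category.assoc, hF])⟩

/-- Enlarging a partial sum keeps a map fixed. -/
lemma fix_mono {A : D} {φ : A ⟶ ∐ M} {F G : Finset J} (h : F ⊆ G) (hF : φ ≫ partProj M F = φ) :
    φ ≫ partProj M G = φ := by
  rw [← hF, Category.assoc, partProj_comp M h, hF]

/-- Finite supports pass to reindexed families. -/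
lemma FixAt.reindex {J' : Type w'} {M' : J' → D} [HasCoproduct M'] (e : J ≃ J')
    (w : ∀ j, M' (e j) ≅ M j) {A : D} (h : FixAt M A) : FixAt M' A := fun φ => by
  classical
  let c := Sigma.whiskerEquiv (f := M) (g := M') e w
  obtain ⟨F, hF⟩ := h (φ ≫ c.inv)
  refine ⟨F.map e.toEmbedding, (cancel_mono c.inv).1 ?_⟩
  have hc : partProj M F ≫ c.hom = c.hom ≫ partProj M' (F.map e.toEmbedding) := by
    refine Sigma.hom_ext _ _ fun i => ?_
    have hi : Sigma.ι M i ≫ c.hom = (w i).inv ≫ Sigma.ι M' (e i) := by simp [c]
    by_cases h : i ∈ F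
    · rw [← Category.assoc, ι_partProj_mem M h, ← Category.assoc, hi, Category.assoc,
        ι_partProj_mem M' (by simp [h])]
    · rw [← Category.assoc, ι_partProj_not_mem M h, zero_comp, ← Category.assoc, hi, Category.assoc,
        ι_partProj_not_mem M' (by simp [h]), comp_zero]
  rw [Category.assoc, ← hF]
  simp only [Category.assoc]
  rw [← cancel_mono c.hom]
  simp only [Category.assoc, hc, Iso.inv_hom_id, Category.comp_id, Iso.inv_hom_id_assoc]

/-- Finite supports give the bijection defining compactness. -/
lemma bijective_homSumToHomCoprod {K : D} {ι : Type*} (N : ι → D) [HasCoproduct N]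
    (h : FixAt N K) : Function.Bijective (CohDer.homSumToHomCoprod K N) := by
  classical
  let p : ∀ j, ∐ N ⟶ N j := fun j =>
    Sigma.desc fun i => if h : i = j then eqToHom (congrArg N h) else 0
  have hp : ∀ j, Sigma.ι N j ≫ p j = 𝟙 _ := fun j => by simp [p]
  have hp' : ∀ i j, i ≠ j → Sigma.ι N i ≫ p j = 0 := fun i j hij => by simp [p, hij]
  have hof : ∀ i (g : K ⟶ N i),
      CohDer.homSumToHomCoprod K N (DirectSum.of _ i g) = g ≫ Sigma.ι N i := fun i g => by
    simp [CohDer.homSumToHomCoprod, Preadditive.rightComp]
  refine ⟨(injective_iff_map_eq_zero _).2 fun x hx => ?_, fun φ => ?_⟩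
  · ext j
    have key : ∀ y, CohDer.homSumToHomCoprod K N y ≫ p j = y j := fun y => by
      induction y using DirectSum.induction_on with
      | zero => simp
      | of i g =>
        rw [hof, Category.assoc]
        by_cases hij : i = j
        · subst hij
          simp [hp]
        · rw [hp' i j hij, comp_zero, DirectSum.of_eq_of_ne _ _ _ (Ne.symm hij)]
      | add a b ha hb => rw [map_add, Preadditive.add_comp, ha, hb]; rfl
    rw [← key x, hx, zero_comp]
    rfl
  · obtain ⟨F, hF⟩ := h φ
    refine ⟨∑ i ∈ F, DirectSum.of _ i (φ ≫ p i), ?_⟩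
    rw [map_sum]
    simp only [hof, Category.assoc]
    rw [← Preadditive.comp_sum]
    refine (congrArg (φ ≫ ·) ?_).trans hF
    refine Sigma.hom_ext _ _ fun i => ?_
    rw [Preadditive.comp_sum]
    by_cases hi : i ∈ F
    · rw [ι_partProj_mem N hi, Finset.sum_eq_single i (fun b _ hb => by
        rw [← Category.assoc, hp' i b (Ne.symm hb), zero_comp]) (fun h => absurd hi h),
        ← Category.assoc, hp, Category.id_comp]
    · rw [ι_partProj_not_mem N hi]
      exact Finset.sum_eq_zero fun b hb => by
        rw [← Category.assoc, hp' i b (fun h => hi (h ▸ hb)), zero_comp]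

end Fix

/-- Homotopy classes compute morphisms to K-injective complexes. -/
lemma exists_Q_map {C : Type*} [Category C] [Abelian C] [HasDerivedCategory C]
    {K I : CochainComplex C ℤ} [I.IsKInjective]
    (a : DerivedCategory.Q.obj K ⟶ DerivedCategory.Q.obj I) :
    ∃ g : K ⟶ I, DerivedCategory.Q.map g = a := by
  obtain ⟨g', hg'⟩ := (CochainComplex.IsKInjective.Qh_map_bijective
    ((HomotopyCategory.quotient C _).obj K) I).2
      ((DerivedCategory.quotientCompQhIso C).hom.app K ≫ a ≫
        (DerivedCategory.quotientCompQhIso C).inv.app I)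
  obtain ⟨g, rfl⟩ := (HomotopyCategory.quotient C _).map_surjective g'
  refine ⟨g, ?_⟩
  have := (DerivedCategory.quotientCompQhIso C).hom.naturality g
  simp only [Functor.comp_map] at this
  rw [hg'] at this
  simp only [Category.assoc, Iso.inv_hom_id_app] at this
  erw [Category.comp_id, cancel_epi] at this
  exact this.symm


lemma shortExact_cycles {C : Type*} [Category C] [Abelian C] {ι : Type*} {c : ComplexShape ι} (K : HomologicalComplex C c) (i j : ι)
    (hij : c.Rel i j) (h : K.ExactAt j) :
    (ShortComplex.mk (K.iCycles i) (K.toCycles i j)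
      (by rw [← cancel_mono (K.iCycles j)]; simp)).ShortExact := by
  haveI : Epi (K.toCycles i j) := by
    rw [exactAt_iff' K i j (c.next j) (c.prev_eq' hij) rfl] at h
    rw [epi_iff_surjective_up_to_refinements]
    intro A y
    obtain ⟨A', q, hq, x, hx⟩ := h.exact_up_to_refinements (y ≫ K.iCycles j) (by simp)
    refine ⟨A', q, hq, x, ?_⟩
    rw [← cancel_mono (K.iCycles j)]
    simpa using hx
  exact
    { exact := by
        refine ShortComplex.exact_of_f_is_kernel _ (KernelFork.IsLimit.ofι' _ _ fun k hk => ⟨K.liftCycles k j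
          (c.next_eq' hij) ?_, K.liftCycles_i _ _ _ _⟩)
        have := congrArg (· ≫ K.iCycles j) hk
        simpa using this }

end Groth.Agent.DSites.PartProj
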