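import Groth.Agent.H9Misc.LeftAdjExists
import Mathlib.Algebra.Homology.HomotopyCategory.ShortExact

/-!
Systems of left resolutions of the truncations of an unbounded complex with split injective transition maps.
-/

universe v u

open CategoryTheory Category Limits HomologicalComplex

attribute [local instance] HasDerivedCategory.standard

namespace Groth.Agent.DSites.ResSystem

section Step

variable {A : Type u} [Category.{v} A] [Abelian A]

lemma quasiIso_mappingConeMap {K₁ L K₂ : CochainComplex A ℤ} (φ₁ : K₁ ⟶ L) (φ₂ : K₂ ⟶ L) (a : K₁ ⟶ K₂)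
    [QuasiIso a] (comm : φ₁ ≫ 𝟙 L = a ≫ φ₂) : QuasiIso (CochainComplex.mappingCone.map φ₁ φ₂ a (𝟙 L) comm) := by
  let T := DerivedCategory.Q.mapTriangle.map (CochainComplex.mappingCone.triangleMap φ₁ φ₂ a (𝟙 L) comm)
  have : IsIso T.hom₃ := Pretriangulated.isIso₃_of_isIso₁₂ T
    (DerivedCategory.mappingCone_triangle_distinguished φ₁) (DerivedCategory.mappingCone_triangle_distinguished φ₂)
    (inferInstanceAs (IsIso (DerivedCategory.Q.map a))) (inferInstanceAs (IsIso (DerivedCategory.Q.map (𝟙 L))))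
  exact (DerivedCategory.isIso_Q_map_iff_quasiIso A _).1 this

lemma isStrictlyLE_mappingCone {K L : CochainComplex A ℤ} (φ : K ⟶ L) (b : ℤ) [K.IsStrictlyLE b] [L.IsStrictlyLE b] :
    (CochainComplex.mappingCone φ).IsStrictlyLE b := by
  rw [CochainComplex.isStrictlyLE_iff]
  intro i hi
  have h1 : (CochainComplex.mappingCone.fst φ).1.v i (i + 1) rfl = 0 :=
    (K.isZero_of_isStrictlyLE b (i + 1) (by omega)).eq_of_tgt _ _
  have h2 : (CochainComplex.mappingCone.snd φ).v i i (add_zero i) = 0 :=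
    (L.isZero_of_isStrictlyLE b i hi).eq_of_tgt _ _
  rw [IsZero.iff_id_eq_zero, ← CochainComplex.mappingCone.id_X φ i (i + 1) rfl, h1, h2, zero_comp, zero_comp,
    add_zero]

variable (P : A → Prop) (hP0 : ∃ Z : A, IsZero Z ∧ P Z) (hP : ∀ X : A, ∃ (Y : A) (π : Y ⟶ X), P Y ∧ Epi π)
  (hadd : ∀ {X Y : A}, P X → P Y → P (X ⊞ Y)) (hiso : ∀ {X Y : A}, (X ≅ Y) → P X → P Y)

include hP0 hP hadd hiso

/-- A map out of a complex with terms in the class factors as a split monomorphism with cokernels in the class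
followed by a termwise epimorphic quasi-isomorphism. -/
theorem exists_factor {K T : CochainComplex A ℤ} (b : ℤ) [K.IsStrictlyLE b] [T.IsStrictlyLE b] (g : K ⟶ T)
    (hK : ∀ i, P (K.X i)) :
    ∃ (K' : CochainComplex A ℤ) (j : K ⟶ K') (π : K' ⟶ T), j ≫ π = g ∧ K'.IsStrictlyLE b ∧
      (∀ i, P (K'.X i)) ∧ QuasiIso π ∧ (∀ i, Epi (π.f i)) ∧
      ∀ i, ∃ r : K'.X i ⟶ K.X i, j.f i ≫ r = 𝟙 _ ∧ P (cokernel (j.f i)) := by
  obtain ⟨L, α, hLb, hLP, hαe, hα⟩ := TriCat.exists_quasiIso_left_resolution P hP0 hP T b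
  let s : K ⊞ L ⟶ T := biprod.desc g α
  have hse : ∀ i, Epi (s.f i) := fun i => by
    have := hαe i
    refine epi_of_epi_fac (f := (biprod.inr : L ⟶ K ⊞ L).f i) (h := α.f i) ?_
    rw [← HomologicalComplex.comp_f, biprod.inr_desc]
  have : Epi s := HomologicalComplex.epi_of_epi_f _ hse
  let S := ShortComplex.mk (kernel.ι s) s (kernel.condition s)
  have hS : S.ShortExact := { exact := ShortComplex.exact_kernel s }
  have hKL : (K ⊞ L).IsStrictlyLE b := by
    rw [CochainComplex.isStrictlyLE_iff]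
    intro i hi
    exact IsZero.of_iso ((biprod_isZero_iff _ _).2 ⟨K.isZero_of_isStrictlyLE b i hi, L.isZero_of_isStrictlyLE b i hi⟩)
      (biprodXIso K L i)
  have hN : S.X₁.IsStrictlyLE b := by
    rw [CochainComplex.isStrictlyLE_iff]
    intro i hi
    exact IsZero.of_mono ((kernel.ι s).f i) ((K ⊞ L).isZero_of_isStrictlyLE b i hi)
  obtain ⟨Q, β, hQb, hQP, hβe, hβ⟩ := TriCat.exists_quasiIso_left_resolution P hP0 hP S.X₁ b
  let φ : Q ⟶ K ⊞ L := β ≫ S.f
  let j : K ⟶ CochainComplex.mappingCone φ := biprod.inl ≫ CochainComplex.mappingCone.inr φ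
  let μ := CochainComplex.mappingCone.map φ S.f β (𝟙 _) (comp_id φ)
  let π : CochainComplex.mappingCone φ ⟶ T := μ ≫ CochainComplex.mappingCone.descShortComplex S
  have hinr : CochainComplex.mappingCone.inr φ ≫ π = s := by
    simp only [π, μ, CochainComplex.mappingCone.map, S, CochainComplex.mappingCone.inr_desc_assoc, id_comp]
    exact CochainComplex.mappingCone.inr_descShortComplex (S := S)
  have := CochainComplex.mappingCone.quasiIso_descShortComplex hS
  have := quasiIso_mappingConeMap φ S.f β (comp_id φ)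
  refine ⟨_, j, π, ?_, isStrictlyLE_mappingCone φ b, fun i => ?_, inferInstance, fun i => ?_, fun i => ?_⟩
  · simp only [j, assoc, hinr]
    exact biprod.inl_desc _ _
  · exact hiso (homotopyCofiber.XIsoBiprod φ i (i + 1) (by simp)).symm
      (hadd (hQP (i + 1)) (hiso (biprodXIso K L i).symm (hadd (hK i) (hLP i))))
  · have := hse i
    refine epi_of_epi_fac (f := (CochainComplex.mappingCone.inr φ).f i) (h := s.f i) ?_
    rw [← HomologicalComplex.comp_f, hinr]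
  · let e : (CochainComplex.mappingCone φ).X i ≅ (Q.X (i + 1) ⊞ L.X i) ⊞ K.X i :=
      { hom := (CochainComplex.mappingCone.fst φ).1.v i (i + 1) rfl ≫ biprod.inl ≫ biprod.inl +
          (CochainComplex.mappingCone.snd φ).v i i (add_zero i) ≫
            ((biprod.fst : K ⊞ L ⟶ K).f i ≫ biprod.inr + (biprod.snd : K ⊞ L ⟶ L).f i ≫ biprod.inr ≫ biprod.inl)
        inv := biprod.desc (biprod.desc ((CochainComplex.mappingCone.inl φ).v (i + 1) i (by omega))
            ((biprod.inr : L ⟶ K ⊞ L).f i ≫ (CochainComplex.mappingCone.inr φ).f i))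
          ((biprod.inl : K ⟶ K ⊞ L).f i ≫ (CochainComplex.mappingCone.inr φ).f i)
        hom_inv_id := by
          refine Eq.trans ?_ (CochainComplex.mappingCone.id_X φ i (i + 1) rfl)
          simp only [Preadditive.add_comp, assoc, biprod.inl_desc, biprod.inr_desc, Preadditive.comp_add]
          rw [← Preadditive.comp_add, ← assoc ((biprod.fst : K ⊞ L ⟶ K).f i),
            ← assoc ((biprod.snd : K ⊞ L ⟶ L).f i), ← Preadditive.add_comp, ← HomologicalComplex.comp_f,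
            ← HomologicalComplex.comp_f, ← HomologicalComplex.add_f_apply, biprod.total, HomologicalComplex.id_f,
            id_comp]
        inv_hom_id := by
          ext <;> simp [← HomologicalComplex.comp_f_assoc] }
    have hje : j.f i ≫ e.hom = biprod.inr := by
      simp [j, e, ← HomologicalComplex.comp_f_assoc]
    refine ⟨e.hom ≫ biprod.snd, ?_, ?_⟩
    · rw [← assoc, hje, biprod.inr_snd]
    · refine hiso ?_ (hadd (hQP (i + 1)) (hLP i))
      exact (cokernel.mapIso (j.f i) (biprod.inr : K.X i ⟶ (Q.X (i + 1) ⊞ L.X i) ⊞ K.X i) (Iso.refl _) e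
        (hje.trans (id_comp _).symm) ≪≫
        IsColimit.coconePointUniqueUpToIso (colimit.isColimit _) (biprod.isCokernelInrCokernelFork _ _)).symm

end Step

section System

variable {A : Type (u + 1)} [Category.{u} A] [Abelian A] [IsGrothendieckAbelian.{u} A]
variable (P : A → Prop) (hP0 : ∃ Z : A, IsZero Z ∧ P Z) (hP : ∀ X : A, ∃ (Y : A) (π : Y ⟶ X), P Y ∧ Epi π)
  (hadd : ∀ {X Y : A}, P X → P Y → P (X ⊞ Y)) (hiso : ∀ {X Y : A}, (X ≅ Y) → P X → P Y)

include hP0 hP hadd hiso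

theorem exists_system (G : CochainComplex A ℤ) :
    ∃ (Kc : ℕ ⥤ CochainComplex A ℤ) (π : ∀ n : ℕ, Kc.obj n ⟶ G.truncLE ((n : ℤ) + 1)),
      (∀ n : ℕ, Kc.map (homOfLE (Nat.le_succ n)) ≫ π (n + 1) ≫ G.ιTruncLE (((n + 1 : ℕ) : ℤ) + 1) =
        π n ≫ G.ιTruncLE ((n : ℤ) + 1)) ∧
      (∀ n : ℕ, QuasiIso (π n) ∧ ∀ i : ℤ, Epi ((π n).f i)) ∧
      (∀ n : ℕ, ∃ b : ℤ, (Kc.obj n).IsStrictlyLE b) ∧
      (∀ (n : ℕ) (i : ℤ), P ((Kc.obj n).X i)) ∧
      (∀ (n : ℕ) (i : ℤ), ∃ r : (Kc.obj (n + 1)).X i ⟶ (Kc.obj n).X i,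
        (Kc.map (homOfLE (Nat.le_succ n))).f i ≫ r = 𝟙 _ ∧
        P (cokernel ((Kc.map (homOfLE (Nat.le_succ n))).f i))) ∧
      ∃ c : colimit Kc ⟶ G, (∀ n : ℕ, colimit.ι Kc n ≫ c = π n ≫ G.ιTruncLE ((n : ℤ) + 1)) ∧ QuasiIso c := by
  let St : ℕ → Type (u + 1) := fun n =>
    { X : Σ K : CochainComplex A ℤ, K ⟶ G.truncLE ((n : ℤ) + 1) //
      X.1.IsStrictlyLE ((n : ℤ) + 1) ∧ (∀ i, P (X.1.X i)) ∧ QuasiIso X.2 ∧ ∀ i, Epi (X.2.f i) }
  have h0 : Nonempty (St 0) := by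
    obtain ⟨L, α, h₁, h₂, h₃, h₄⟩ := TriCat.exists_quasiIso_left_resolution P hP0 hP (G.truncLE (((0 : ℕ) : ℤ) + 1)) (((0 : ℕ) : ℤ) + 1)
    exact ⟨⟨⟨L, α⟩, h₁, h₂, h₄, h₃⟩⟩
  have hstep : ∀ (n : ℕ) (X : St n), ∃ (Y : St (n + 1)) (j : X.1.1 ⟶ Y.1.1),
      j ≫ Y.1.2 ≫ G.ιTruncLE (((n + 1 : ℕ) : ℤ) + 1) = X.1.2 ≫ G.ιTruncLE ((n : ℤ) + 1) ∧
      ∀ i, ∃ r : Y.1.1.X i ⟶ X.1.1.X i, j.f i ≫ r = 𝟙 _ ∧ P (cokernel (j.f i)) := by
    intro n ⟨⟨K, p⟩, hb, hKP, hq, he⟩
    let b' : ℤ := ((n + 1 : ℕ) : ℤ) + 1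
    have : (G.truncLE ((n : ℤ) + 1)).IsStrictlyLE b' :=
      CochainComplex.isStrictlyLE_of_le _ ((n : ℤ) + 1) _ (by omega)
    have : K.IsStrictlyLE b' := CochainComplex.isStrictlyLE_of_le _ ((n : ℤ) + 1) _ (by omega)
    let t : G.truncLE ((n : ℤ) + 1) ⟶ G.truncLE b' :=
      inv ((G.truncLE ((n : ℤ) + 1)).ιTruncLE b') ≫ CochainComplex.truncLEMap (G.ιTruncLE ((n : ℤ) + 1)) b'
    have ht : t ≫ G.ιTruncLE b' = G.ιTruncLE ((n : ℤ) + 1) := by
      rw [assoc, CochainComplex.ιTruncLE_naturality, IsIso.inv_hom_id_assoc]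
    obtain ⟨K', j, π, hj, hb2, hP', hq', he', hr⟩ := exists_factor P hP0 hP hadd hiso b' (p ≫ t) hKP
    refine ⟨⟨⟨K', π⟩, hb2, hP', hq', he'⟩, j, ?_, hr⟩
    show j ≫ π ≫ G.ιTruncLE b' = p ≫ G.ιTruncLE ((n : ℤ) + 1)
    rw [← assoc, hj, assoc, ht]
  choose next j hj hr using hstep
  let X : ∀ n, St n := fun n => Nat.rec h0.some next n
  let Kc := Functor.ofSequence (fun n => j n (X n) : ∀ n, (X n).1.1 ⟶ (X (n + 1)).1.1)
  have hmap : ∀ n, Kc.map (homOfLE (Nat.le_succ n)) = j n (X n) := fun n => Functor.ofSequence_map_homOfLE_succ _ n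
  have hcompat : ∀ n : ℕ, Kc.map (homOfLE (Nat.le_succ n)) ≫ (X (n + 1)).1.2 ≫ G.ιTruncLE (((n + 1 : ℕ) : ℤ) + 1) =
      (X n).1.2 ≫ G.ιTruncLE ((n : ℤ) + 1) := fun n => by rw [hmap]; exact hj n (X n)
  refine ⟨Kc, fun n => (X n).1.2, hcompat, fun n => ⟨(X n).2.2.2.1, (X n).2.2.2.2⟩,
    fun n => ⟨_, (X n).2.1⟩, fun n => (X n).2.2.1, fun n i => ?_, ?_⟩
  · rw [hmap]
    exact hr n (X n) i
  · let τ : Kc ⟶ (Functor.const ℕ).obj G := NatTrans.ofSequence (fun n => (X n).1.2 ≫ G.ιTruncLE ((n : ℤ) + 1))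
      (fun n => (hcompat n).trans (comp_id _).symm)
    refine ⟨colimit.desc Kc (Cocone.mk G τ), fun n => colimit.ι_desc _ _, ⟨fun i => ?_⟩⟩
    have := FlatCxLib.preservesColimitsOfShape_complexHomology (C := A) (J := ℕ) (ComplexShape.up ℤ) i
    let H := HomologicalComplex.homologyFunctor A (ComplexShape.up ℤ) i
    rw [quasiIsoAt_iff_isIso_homologyMap]
    have hc : ∀ n, i.toNat ≤ n → IsIso (H.map (τ.app n)) := fun n hn => by
      have := G.quasiIsoAt_ιTruncLE ((n : ℤ) + 1) i (by omega)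
      have := (X n).2.2.2.1
      exact inferInstanceAs (IsIso (HomologicalComplex.homologyMap ((X n).1.2 ≫ G.ιTruncLE ((n : ℤ) + 1)) i))
    have hconst : ∀ ⦃x y : ℕ⦄ (φ : x ⟶ y), i.toNat ≤ x → IsIso ((Kc ⋙ H).map φ) := fun x y φ hx => by
      have := hc x hx
      have := hc y (hx.trans (leOfHom φ))
      have e : H.map (Kc.map φ) ≫ H.map (τ.app y) = H.map (τ.app x) := by
        rw [← H.map_comp, τ.naturality φ]
        simp
      have : IsIso (H.map (Kc.map φ) ≫ H.map (τ.app y)) := by rw [e]; infer_instance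
      change IsIso (H.map (Kc.map φ))
      exact IsIso.of_isIso_comp_right _ (H.map (τ.app y))
    let c₀ := H.mapCocone (colimit.cocone Kc)
    let hc₀ : IsColimit c₀ := isColimitOfPreserves H (colimit.isColimit _)
    have h0 : IsIso (c₀.ι.app i.toNat) :=
      Functor.IsEventuallyConstantFrom.isIso_ι_of_isColimit (i₀ := i.toNat) (fun j φ => hconst φ le_rfl) hc₀
    have hcomp : c₀.ι.app i.toNat ≫ HomologicalComplex.homologyMap (colimit.desc Kc (Cocone.mk G τ)) i =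
        H.map (τ.app i.toNat) := by
      show H.map _ ≫ H.map _ = _
      rw [← H.map_comp]
      exact congrArg H.map (colimit.ι_desc _ _)
    exact @IsIso.of_isIso_comp_left _ _ _ _ _ (c₀.ι.app i.toNat) _ h0
      (Eq.mpr (congrArg (fun g => IsIso g) hcomp) (hc i.toNat le_rfl))

end System

end Groth.Agent.DSites.ResSystem
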