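import Groth.Prelude.Def_SiteCmp
import Groth.Agent.H9Misc.RpushLeftAdj
import Groth.Agent.TriCat.DerivedOfAdjunction
import Groth.Agent.TriCat.RightDerivedBridge
import Groth.Agent.TriCat.KInjRes
import Groth.Agent.SiteBase.ModGroth
import Groth.Agent.DSites.DCat
import Mathlib.CategoryTheory.Triangulated.Adjunction
import Mathlib.Algebra.Homology.Factorizations.CM5a

/-!
# The derived direct image of a morphism of ringed sites

It is computed by K-injective complexes; it is triangulated, left t-exact, and on modules its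
cohomology is the higher direct images.
-/

set_option autoImplicit false
set_option linter.style.haveILetI false


universe u

open CategoryTheory CategoryTheory.Limits Pretriangulated DerivedCategory

attribute [local instance] HasDerivedCategory.standard

namespace Groth.Agent.DSites

open Groth.Agent.SiteBase

variable {C : Type u} [SmallCategory C] {J : GrothendieckTopology C}

lemma exists_kInjective_mod (O : Sheaf J CommRingCat.{u}) (X : CochainComplex (ModSite.Mod O) ℤ) :
    ∃ (I : CochainComplex (ModSite.Mod O) ℤ) (g : X ⟶ I), I.IsKInjective ∧ QuasiIso g :=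
  let ⟨I, g, h₁, h₂, _⟩ := TriCat.exists_kInjective_resolution' X
  ⟨I, g, h₁, h₂⟩

/-- The right adjoint of the localization functor of modules. -/
noncomputable def kinjRes (O : Sheaf J CommRingCat.{u}) :
    DerivedCategory (ModSite.Mod O) ⥤ HomotopyCategory (ModSite.Mod O) (ComplexShape.up ℤ) :=
  haveI := TriCat.qh_isLeftAdjoint_of_exists_resolution (exists_kInjective_mod O)
  (DerivedCategory.Qh (C := ModSite.Mod O)).rightAdjoint

/-- The adjunction between the localization functor and `kinjRes`. -/
noncomputable def kinjAdj (O : Sheaf J CommRingCat.{u}) : DerivedCategory.Qh ⊣ kinjRes O :=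
  haveI := TriCat.qh_isLeftAdjoint_of_exists_resolution (exists_kInjective_mod O)
  Adjunction.ofIsLeftAdjoint _

variable {D : Type u} [SmallCategory D] {K : GrothendieckTopology D}
  {O_C : Sheaf J CommRingCat.{u}} {O_D : Sheaf K CommRingCat.{u}}
  (f : ModSite.RMor O_C O_D) [SiteCmp.HasRpushD f]

/-- The derived direct image through K-injective resolutions. -/
noncomputable def rpushModelIso : kinjRes O_C ⋙ SiteCmp.pushKh f ≅ SiteCmp.RpushD f :=
  let W := HomotopyCategory.quasiIso (ModSite.Mod O_C) (ComplexShape.up ℤ)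
  haveI : (kinjRes O_C ⋙ SiteCmp.pushKh f).IsRightDerivedFunctor
      (Functor.whiskerRight (kinjAdj O_C).unit (SiteCmp.pushKh f)) W :=
    TriCat.isRightDerivedFunctor_of_adjunction (kinjAdj O_C) W (SiteCmp.pushKh f)
  Functor.rightDerivedUnique _ _ (Functor.whiskerRight (kinjAdj O_C).unit (SiteCmp.pushKh f))
    ((SiteCmp.pushKh f).totalRightDerivedUnit DerivedCategory.Qh W) W

/-- The commutation of `Rf_*` with shifts. -/
noncomputable abbrev rpushCommShift : (SiteCmp.RpushD f).CommShift ℤ :=
  letI := (kinjAdj O_C).rightAdjointCommShift ℤ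
  Functor.CommShift.ofIso (rpushModelIso f) ℤ

lemma isTriangulated_rpushD :
    letI := rpushCommShift f
    (SiteCmp.RpushD f).IsTriangulated := by
  letI := (kinjAdj O_C).rightAdjointCommShift ℤ
  haveI := (kinjAdj O_C).commShift_of_leftAdjoint ℤ
  haveI : (kinjRes O_C).IsTriangulated := (kinjAdj O_C).isTriangulated_rightAdjoint
  letI := rpushCommShift f
  haveI : NatTrans.CommShift (rpushModelIso f).hom ℤ := Functor.CommShift.ofIso_compatibility _ _
  haveI : (SiteCmp.pushKh f).IsTriangulated :=
    Functor.IsTriangulated.instComp (f.push.mapHomotopyCategory (ComplexShape.up ℤ)) DerivedCategory.Qh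
  haveI : (kinjRes O_C ⋙ SiteCmp.pushKh f).IsTriangulated :=
    Functor.IsTriangulated.instComp (kinjRes O_C) (SiteCmp.pushKh f)
  exact Functor.isTriangulated_of_iso (rpushModelIso f)

/-- On a K-injective complex, `Rf_*` is `f_*` termwise. -/
lemma nonempty_rpushD_kInjective (I : CochainComplex (ModSite.Mod O_C) ℤ) [I.IsKInjective] :
    Nonempty ((SiteCmp.RpushD f).obj (DerivedCategory.Q.obj I) ≅
      DerivedCategory.Q.obj ((f.push.mapHomologicalComplex (ComplexShape.up ℤ)).obj I)) := by
  let qI := (HomotopyCategory.quotient (ModSite.Mod O_C) (ComplexShape.up ℤ)).obj I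
  haveI := TriCat.isIso_unit_of_isKInjective (kinjAdj O_C) I
  exact ⟨(SiteCmp.RpushD f).mapIso ((quotientCompQhIso _).app I).symm ≪≫
    ((rpushModelIso f).app _).symm ≪≫
    (SiteCmp.pushKh f).mapIso (asIso ((kinjAdj O_C).unit.app qI)).symm ≪≫
    DerivedCategory.Qh.mapIso ((f.push.mapHomotopyCategoryFactors (ComplexShape.up ℤ)).app I) ≪≫
    (quotientCompQhIso _).app _⟩

/-- `Rf_*` is left t-exact. -/
theorem isGE_rpushD (X : DerivedCategory (ModSite.Mod O_C)) (n : ℤ) [X.IsGE n] :
    ((SiteCmp.RpushD f).obj X).IsGE n := by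
  obtain ⟨M, _, ⟨e⟩⟩ := DerivedCategory.exists_iso_Q_obj_of_isGE X n
  obtain ⟨I, i, _, hI, _⟩ := CochainComplex.Plus.modelCategoryQuillen.exists_quasiIso_injective M n
  haveI := CochainComplex.isKInjective_of_injective I n
  obtain ⟨e'⟩ := nonempty_rpushD_kInjective f I
  haveI : CochainComplex.IsStrictlyGE ((f.push.mapHomologicalComplex (ComplexShape.up ℤ)).obj I) n :=
    (CochainComplex.isStrictlyGE_iff _ n).2 fun j hj =>
      Functor.map_isZero f.push (I.isZero_of_isStrictlyGE n j hj)
  exact DerivedCategory.TStructure.t.isGE_of_iso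
    ((SiteCmp.RpushD f).mapIso (e ≪≫ asIso (DerivedCategory.Q.map i)) ≪≫ e').symm n

/-- The cohomology of `Rf_*` of a module is given by the higher direct images. -/
theorem nonempty_H_rpushD_single [HasInjectiveResolutions (ModSite.Mod O_C)]
    (M : ModSite.Mod O_C) (p : ℕ) :
    Nonempty ((DerivedCategory.homologyFunctor (ModSite.Mod O_D) (p : ℤ)).obj
      ((SiteCmp.RpushD f).obj ((singleFunctor (ModSite.Mod O_C) 0).obj M)) ≅
        (f.Rpush p).obj M) := by
  let R := injectiveResolution M
  haveI := CochainComplex.isKInjective_of_injective R.cochainComplex 0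
  obtain ⟨e⟩ := nonempty_rpushD_kInjective f R.cochainComplex
  haveI : QuasiIso R.ι' := inferInstance
  exact ⟨(DerivedCategory.homologyFunctor _ (p : ℤ)).mapIso
      ((SiteCmp.RpushD f).mapIso (((singleFunctorIsoCompQ _ 0).app M) ≪≫
        asIso (DerivedCategory.Q.map R.ι')) ≪≫ e) ≪≫
    (DerivedCategory.homologyFunctorFactors _ (p : ℤ)).app _ ≪≫
    TriCat.homologyResIso f.push R p ≪≫ (R.isoRightDerivedObj f.push p).symm⟩

end Groth.Agent.DSites
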