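import Groth.Agent.DSites.RpushFlat

/-!
# `f^* : D_{A'} ⟶ D_A` is an equivalence with quasi-inverse `Rf_*`
-/

set_option autoImplicit false
set_option linter.style.haveILetI false

universe u

open CategoryTheory CategoryTheory.Limits DerivedCategory

attribute [local instance] HasDerivedCategory.standard

namespace Groth.Agent.DSites

variable {C : Type u} [SmallCategory C] {J : GrothendieckTopology C}
  {D : Type u} [SmallCategory D] {K : GrothendieckTopology D}
  {O_C : Sheaf J CommRingCat.{u}} {O_D : Sheaf K CommRingCat.{u}}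
  (f : ModSite.RMor O_C O_D) [PreservesFiniteLimits f.pull] [SiteCmp.HasRpushD f]
  (adj : SiteCmp.pullD f ⊣ SiteCmp.RpushD f)
  (A : ObjectProperty (ModSite.Mod O_C)) (A' : ObjectProperty (ModSite.Mod O_D))
  [WSerre.IsWeakSerre A']

local notation "tC" => (DerivedCategory.TStructure.t (C := ModSite.Mod O_C))
local notation "tD" => (DerivedCategory.TStructure.t (C := ModSite.Mod O_D))

/-- `Rf_*` of a module coming from `A'` is concentrated in degree zero. -/
noncomputable def rpushInDIso {F' : ModSite.Mod O_D} {M : ModSite.Mod O_C} (e : f.pull.obj F' ≅ M)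
    [IsIso (adj.unit.app (SiteCmp.inD O_D F'))] :
    SiteCmp.inD O_D F' ≅ (SiteCmp.RpushD f).obj (SiteCmp.inD O_C M) :=
  asIso (adj.unit.app (SiteCmp.inD O_D F')) ≪≫ (SiteCmp.RpushD f).mapIso
    (pullDInD f F' ≪≫ (DerivedCategory.singleFunctor _ 0).mapIso e)

include adj in
/-- The higher direct images of a module in the image of `A'` vanish. -/
lemma isZero_Rpush_of_unit [HasInjectiveResolutions (ModSite.Mod O_C)]
    {F' : ModSite.Mod O_D} {M : ModSite.Mod O_C} (e : f.pull.obj F' ≅ M)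
    (h : IsIso (adj.unit.app (SiteCmp.inD O_D F'))) (p : ℕ) (hp : 0 < p) :
    IsZero ((f.Rpush p).obj M) := by
  obtain ⟨e'⟩ := nonempty_H_rpushD_single f M p
  refine IsZero.of_iso ?_ e'.symm
  exact (DerivedCategory.isZero_of_isLE ((singleFunctor (ModSite.Mod O_D) 0).obj F') 0 p (by omega)).of_iso
    ((DerivedCategory.homologyFunctor _ (p : ℤ)).mapIso (rpushInDIso f adj e).symm)

include adj in
/-- The higher direct images of modules in the image of `A'` lie in `A'`. -/
lemma prop_Rpush_of_unit [HasInjectiveResolutions (ModSite.Mod O_C)]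
    {F' : ModSite.Mod O_D} (hF : A' F') {M : ModSite.Mod O_C} (e : f.pull.obj F' ≅ M)
    (h : IsIso (adj.unit.app (SiteCmp.inD O_D F'))) (p : ℕ) : A' ((f.Rpush p).obj M) := by
  obtain ⟨e'⟩ := nonempty_H_rpushD_single f M p
  exact A'.prop_of_iso e' (cohIn_of_iso A' (rpushInDIso f adj e) (cohIn_single A' hF 0) p)

lemma isIso_of_square {E : Type*} [Category E] {a b c d : E} {t : a ⟶ c} {r : c ⟶ d} {l : a ⟶ b}
    {u : b ⟶ d} (w : t ≫ r = l ≫ u) (ht : IsIso t) (hr : IsIso r) (hu : IsIso u) : IsIso l := by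
  have : IsIso (t ≫ r) := inferInstance
  exact IsIso.of_isIso_fac_right w.symm

variable {A A'} in
/-- A morphism inverting cohomology in degrees `≥ m` factors through the truncation by an
isomorphism. -/
lemma exists_iso_truncGE_fac {Z Z' : DerivedCategory (ModSite.Mod O_C)} (φ : Z ⟶ Z') (m : ℤ)
    [Z'.IsGE m] (hφ : ∀ q, m ≤ q → IsIso ((DerivedCategory.homologyFunctor _ q).map φ)) :
    ∃ e : ((tC).truncGE m).obj Z ⟶ Z', IsIso e ∧ ((tC).truncGEπ m).app Z ≫ e = φ := by
  obtain ⟨e, he⟩ : ∃ e : ((tC).truncGE m).obj Z ⟶ Z', ((tC).truncGEπ m).app Z ≫ e = φ :=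
    ⟨(tC).descTruncGE φ m, (tC).π_descTruncGE φ m⟩
  refine ⟨e, ?_, he⟩
  have hge : (((tC).truncGE m).obj Z).IsGE m := (tC).isGE_truncGE_obj ..
  rw [DerivedCategory.isIso_iff]
  intro q
  by_cases hq : m ≤ q
  · have := hφ q hq
    have := H9Misc.isIso_map_truncGEπ m q hq Z
    have e₁ := congrArg (DerivedCategory.homologyFunctor (ModSite.Mod O_C) q).map he
    rw [Functor.map_comp] at e₁
    exact IsIso.of_isIso_fac_left e₁
  · exact ⟨⟨0, (isZero_of_isGE (((tC).truncGE m).obj Z) m q (by omega)).eq_of_src _ _,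
      (isZero_of_isGE Z' m q (by omega)).eq_of_src _ _⟩⟩

set_option maxHeartbeats 1000000 in
include adj in
/-- The equivalence, from the truncation property of `Rf_*`. -/
theorem equivalence_cohIn [WSerre.IsWeakSerre A]
    (h2a : ∀ F' : ModSite.Mod O_D, A' F' → A (f.pull.obj F'))
    (h2c : ∀ F : ModSite.Mod O_C, A F → ∃ F' : ModSite.Mod O_D, A' F' ∧ Nonempty (f.pull.obj F' ≅ F))
    (h3 : ∀ F' : ModSite.Mod O_D, A' F' → IsIso (adj.unit.app (SiteCmp.inD O_D F')))
    (key : ∀ X : DerivedCategory (ModSite.Mod O_C), WSerre.cohIn A X → ∀ (n : ℕ) (j : ℤ), -(n : ℤ) ≤ j →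
      IsIso ((DerivedCategory.homologyFunctor (ModSite.Mod O_D) j).map
        ((SiteCmp.RpushD f).map (((tC).truncGEπ (-(n : ℤ))).app X)))) :
    (∀ Y : DerivedCategory (ModSite.Mod O_D), WSerre.cohIn A' Y →
      WSerre.cohIn A ((SiteCmp.pullD f).obj Y) ∧ IsIso (adj.unit.app Y)) ∧
    (∀ X : DerivedCategory (ModSite.Mod O_C), WSerre.cohIn A X →
      WSerre.cohIn A' ((SiteCmp.RpushD f).obj X) ∧ IsIso (adj.counit.app X)) := by
  let HD := DerivedCategory.homologyFunctor (ModSite.Mod O_D)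
  let HC := DerivedCategory.homologyFunctor (ModSite.Mod O_C)
  have hpullA : ∀ Y, WSerre.cohIn A' Y → WSerre.cohIn A ((SiteCmp.pullD f).obj Y) :=
    cohIn_mapDerivedCategory f.pull A' A h2a
  refine ⟨fun Y hY => ⟨hpullA Y hY, ?_⟩, fun X hX => ?_⟩
  · rw [DerivedCategory.isIso_iff]
    intro j
    let n : ℕ := (-j).toNat
    let π := ((tD).truncGEπ (-(n : ℤ))).app Y
    let Y' := ((tD).truncGE (-(n : ℤ))).obj Y
    have : Y'.IsGE (-(n : ℤ)) := (tD).isGE_truncGE_obj ..
    have h1 : IsIso (adj.unit.app Y') :=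
      isIso_unit_plus f adj Y' (-(n : ℤ)) fun q => h3 _ (cohIn_truncGE A' hY _ q)
    have := H9Misc.isIso_map_truncGEπ (-(n : ℤ)) j (by omega) Y
    have : ((SiteCmp.pullD f).obj Y').IsGE (-(n : ℤ)) := leftTExact_pullD f Y' _ ‹_›
    let φ := (SiteCmp.pullD f).map π
    have hφ : ∀ q, -(n : ℤ) ≤ q → IsIso ((HC q).map φ) := fun q hq => by
      have := H9Misc.isIso_map_truncGEπ (-(n : ℤ)) q hq Y
      exact (NatIso.isIso_map_iff (KFlatLib.mapDCHomologyIso f.pull q) π).2
        (inferInstanceAs (IsIso (f.pull.map ((HD q).map π))))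
    obtain ⟨e, he, hfac⟩ := exists_iso_truncGE_fac φ (-(n : ℤ)) hφ
    have hk := key _ (hpullA Y hY) n j (by omega)
    have hr : IsIso ((HD j).map ((SiteCmp.RpushD f).map φ)) := by
      rw [← hfac, Functor.map_comp, Functor.map_comp]
      exact IsIso.comp_isIso' hk (Functor.map_isIso (HD j) ((SiteCmp.RpushD f).map e))
    exact isIso_of_square
      (((HD j).map_comp _ _).symm.trans
        ((congrArg (HD j).map (adj.unit.naturality π)).trans ((HD j).map_comp _ _)))
      ‹IsIso ((HD j).map π)› (Functor.map_isIso (HD j) (adj.unit.app Y')) hr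
  · have hcounit : ∀ (Z : DerivedCategory (ModSite.Mod O_C)) (a : ℤ) [Z.IsGE a], WSerre.cohIn A Z →
        IsIso (adj.counit.app Z) := fun Z a _ hZ => isIso_counit_plus f adj Z a fun q => by
      obtain ⟨F', hF', ⟨e⟩⟩ := h2c _ (hZ q)
      exact isIso_counit_inD f adj e (h3 F' hF')
    have hcoh : ∀ (Z : DerivedCategory (ModSite.Mod O_C)) (a : ℤ) [Z.IsGE a], WSerre.cohIn A Z →
        WSerre.cohIn A' ((SiteCmp.RpushD f).obj Z) := fun Z a _ hZ =>
      cohIn_rpushD_plus f A A' (fun M hM => by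
        obtain ⟨F', hF', ⟨e⟩⟩ := h2c M hM
        have := h3 F' hF'
        exact cohIn_of_iso A' (rpushInDIso f adj e) (cohIn_single A' hF' 0)) Z a hZ
    refine ⟨fun j => ?_, ?_⟩
    · let n : ℕ := (-j).toNat
      let X' := ((tC).truncGE (-(n : ℤ))).obj X
      have : X'.IsGE (-(n : ℤ)) := (tC).isGE_truncGE_obj ..
      have := key X hX n j (by omega)
      exact A'.prop_of_iso (asIso ((HD j).map ((SiteCmp.RpushD f).map
          (((tC).truncGEπ (-(n : ℤ))).app X)))).symm
        (hcoh X' (-(n : ℤ)) (cohIn_truncGE A hX _) j)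
    · rw [DerivedCategory.isIso_iff]
      intro j
      let n : ℕ := (-j).toNat
      let π := ((tC).truncGEπ (-(n : ℤ))).app X
      let X' := ((tC).truncGE (-(n : ℤ))).obj X
      have : X'.IsGE (-(n : ℤ)) := (tC).isGE_truncGE_obj ..
      have h1 := hcounit X' (-(n : ℤ)) (cohIn_truncGE A hX _)
      have := H9Misc.isIso_map_truncGEπ (-(n : ℤ)) j (by omega) X
      have := key X hX n j (by omega)
      have hl : IsIso ((HC j).map ((SiteCmp.pullD f).map ((SiteCmp.RpushD f).map π))) :=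
        (NatIso.isIso_map_iff (KFlatLib.mapDCHomologyIso f.pull j) ((SiteCmp.RpushD f).map π)).2
          (inferInstanceAs (IsIso (f.pull.map ((HD j).map ((SiteCmp.RpushD f).map π)))))
      exact isIso_of_square
        (((HC j).map_comp _ _).symm.trans
          ((congrArg (HC j).map (adj.counit.naturality π)).trans ((HC j).map_comp _ _)))
        hl (Functor.map_isIso (HC j) (adj.counit.app X')) ‹IsIso ((HC j).map π)›

end Groth.Agent.DSites
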