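import Groth.Agent.DSites.Rpush
import Groth.Agent.DSites.TExact

/-!
# Units and counits of `f^* ⊣ Rf_*` for a flat morphism of ringed sites
-/

set_option autoImplicit false
set_option linter.style.haveILetI false

universe u

open CategoryTheory CategoryTheory.Limits DerivedCategory

attribute [local instance] HasDerivedCategory.standard

namespace Groth.Agent.DSites

variable {C : Type u} [SmallCategory C] {J : GrothendieckTopology C}
  {D : Type u} [SmallCategory D] {K : GrothendieckTopology D}
  {O_C : Sheaf J CommRingCat.{u}} {O_D : Sheaf K CommRingCat.{u}}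
  (f : ModSite.RMor O_C O_D) [PreservesFiniteLimits f.pull] [SiteCmp.HasRpushD f]
  (adj : SiteCmp.pullD f ⊣ SiteCmp.RpushD f)

omit [SiteCmp.HasRpushD f] in
lemma leftTExact_pullD : LeftTExact (SiteCmp.pullD f) := leftTExact_mapDerivedCategory f.pull

omit [PreservesFiniteLimits f.pull] in
lemma leftTExact_rpushD : LeftTExact (SiteCmp.RpushD f) := fun X n _ => isGE_rpushD f X n

theorem isIso_counit_plus (X : DerivedCategory (ModSite.Mod O_C)) (a : ℤ) [X.IsGE a]
    (h : ∀ q, IsIso (adj.counit.app (SiteCmp.inD O_C (SiteCmp.HMod X q)))) :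
    IsIso (adj.counit.app X) := by
  letI := adj.rightAdjointCommShift ℤ
  haveI := adj.commShift_of_leftAdjoint ℤ
  haveI : (SiteCmp.RpushD f).IsTriangulated := adj.isTriangulated_rightAdjoint
  haveI : (SiteCmp.RpushD f ⋙ SiteCmp.pullD f).IsTriangulated :=
    Functor.IsTriangulated.instComp (SiteCmp.RpushD f) (SiteCmp.pullD f)
  exact isIso_app_plus adj.counit
    (fun Y n hY => leftTExact_pullD f _ n (leftTExact_rpushD f Y n hY)) (fun _ _ hY => hY) X a h

theorem isIso_unit_plus (Y : DerivedCategory (ModSite.Mod O_D)) (a : ℤ) [Y.IsGE a]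
    (h : ∀ q, IsIso (adj.unit.app (SiteCmp.inD O_D (SiteCmp.HMod Y q)))) :
    IsIso (adj.unit.app Y) := by
  letI := adj.rightAdjointCommShift ℤ
  haveI := adj.commShift_of_leftAdjoint ℤ
  haveI : (SiteCmp.RpushD f).IsTriangulated := adj.isTriangulated_rightAdjoint
  haveI : (SiteCmp.pullD f ⋙ SiteCmp.RpushD f).IsTriangulated :=
    Functor.IsTriangulated.instComp (SiteCmp.pullD f) (SiteCmp.RpushD f)
  exact isIso_app_plus adj.unit (fun _ _ hY => hY)
    (fun X n hX => leftTExact_rpushD f _ n (leftTExact_pullD f X n hX)) Y a h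

/-- `f^*` on derived categories of a module in degree zero. -/
noncomputable def pullDInD (F : ModSite.Mod O_D) :
    (SiteCmp.pullD f).obj (SiteCmp.inD O_D F) ≅ SiteCmp.inD O_C (f.pull.obj F) :=
  (f.pull.mapDerivedCategorySingleFunctor 0).app F

/-- The counit is invertible on the image of an object where the unit is. -/
lemma isIso_counit_inD {F : ModSite.Mod O_D} {M : ModSite.Mod O_C} (e : f.pull.obj F ≅ M)
    (h : IsIso (adj.unit.app (SiteCmp.inD O_D F))) : IsIso (adj.counit.app (SiteCmp.inD O_C M)) := by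
  have : IsIso (adj.counit.app ((SiteCmp.pullD f).obj (SiteCmp.inD O_D F))) :=
    IsIso.of_isIso_fac_left (adj.left_triangle_components (SiteCmp.inD O_D F))
  exact (NatTrans.isIso_app_iff_of_iso adj.counit
    (pullDInD f F ≪≫ (singleFunctor _ 0).mapIso e)).1 this

omit [PreservesFiniteLimits f.pull] in
/-- `Rf_*` keeps cohomology in a weak Serre class on bounded below objects. -/
lemma cohIn_rpushD_plus (P : ObjectProperty (ModSite.Mod O_C)) (P' : ObjectProperty (ModSite.Mod O_D))
    [WSerre.IsWeakSerre P']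
    (h : ∀ M, P M → WSerre.cohIn P' ((SiteCmp.RpushD f).obj (SiteCmp.inD O_C M)))
    (X : DerivedCategory (ModSite.Mod O_C)) (a : ℤ) [X.IsGE a] (hX : WSerre.cohIn P X) :
    WSerre.cohIn P' ((SiteCmp.RpushD f).obj X) := by
  letI := rpushCommShift f
  haveI := isTriangulated_rpushD f
  exact cohIn_map_of_leftTExact (SiteCmp.RpushD f) (leftTExact_rpushD f) P P' h X a hX

end Groth.Agent.DSites
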