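import Groth.Agent.DSites.Rpush
import Groth.Agent.DSites.ForgetAb
import Groth.Agent.SiteBase.Sections
import Mathlib.CategoryTheory.Localization.HomEquiv

/-!
# Hypercohomology of a derived direct image

`H^p(V, Rf_* X)` vanishes as soon as `H^p(f⁻¹ V, X)` does: both are computed by the sections of a
K-injective complex of modules.
-/

set_option autoImplicit false
set_option linter.style.haveILetI false

universe w w' u

open CategoryTheory CategoryTheory.Limits Opposite DerivedCategory Abelian

namespace Groth.Agent.DSites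

open Groth.Agent.SiteBase Groth.Agent.H9Misc

variable {C : Type u} [SmallCategory C] {J : GrothendieckTopology C}

/-- Vanishing of morphisms does not depend on the model of the derived category. -/
lemma subsingleton_hom_of_model {A : Type (u + 1)} [Category.{u} A] [Abelian A]
    (h₁ : HasDerivedCategory.{w} A) (h₂ : HasDerivedCategory.{w'} A)
    (X Y : CochainComplex A ℤ)
    (h : Subsingleton ((letI := h₁; DerivedCategory.Q (C := A)).obj X ⟶
      (letI := h₁; DerivedCategory.Q (C := A)).obj Y)) :
    Subsingleton ((letI := h₂; DerivedCategory.Q (C := A)).obj X ⟶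
      (letI := h₂; DerivedCategory.Q (C := A)).obj Y) := by
  let W := HomologicalComplex.quasiIso A (ComplexShape.up ℤ)
  let Q₁ := (letI := h₁; DerivedCategory.Q (C := A))
  let Q₂ := (letI := h₂; DerivedCategory.Q (C := A))
  haveI : Q₁.IsLocalization W := letI := h₁; inferInstance
  haveI : Q₂.IsLocalization W := letI := h₂; inferInstance
  exact (Localization.homEquiv W Q₁ Q₂).symm.subsingleton_congr.2 h

section Sections

variable (L : CochainComplex (Sheaf J AddCommGrpCat.{u}) ℤ) (V : C)

/-- The complex of sections of `L` over `V` is exact in degree zero. -/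
def SectExact : Prop :=
  ∀ s : (L.X 0).obj.obj (op V), ((L.d 0 1).hom.app (op V)).hom s = 0 →
    ∃ t : (L.X (-1)).obj.obj (op V), ((L.d (-1) 0).hom.app (op V)).hom t = s

/-- The complex given by the free sheaf on `V` in degree zero. -/
noncomputable abbrev freeCx : CochainComplex (Sheaf J AddCommGrpCat.{u}) ℤ :=
  (HomologicalComplex.single _ (ComplexShape.up ℤ) 0).obj (CohCx.freeSheaf J V)

/-- Homotopy classes out of the free sheaf on `V` vanish iff sections over `V` are exact. -/
lemma subsingleton_homotopy_iff :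
    Subsingleton ((HomotopyCategory.quotient _ (ComplexShape.up ℤ)).obj (freeCx V) ⟶
      (HomotopyCategory.quotient _ (ComplexShape.up ℤ)).obj L) ↔ SectExact L V := by
  let e := HomologicalComplex.singleObjXSelf (ComplexShape.up ℤ) 0 (CohCx.freeSheaf J V)
  constructor
  · intro h s hs
    let φ : freeCx V ⟶ L := HomologicalComplex.mkHomFromSingle ((secEquiv J V (L.X 0)).symm s)
      (fun k hk => by
        obtain rfl : k = 1 := (hk : (0 : ℤ) + 1 = k).symm.trans (zero_add 1)
        rw [secEquiv_symm_comp, hs, map_zero])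
    let H := HomotopyCategory.homotopyOfEq φ 0 (@Subsingleton.elim _ h _ _)
    have hc := H.comm 0
    rw [dNext_eq _ (show (ComplexShape.up ℤ).Rel 0 1 from rfl),
      prevD_eq _ (show (ComplexShape.up ℤ).Rel (-1) 0 from rfl),
      HomologicalComplex.zero_f, add_zero] at hc
    refine ⟨secEquiv J V _ (e.inv ≫ H.hom 0 (-1)), ?_⟩
    rw [← secEquiv_comp]
    have hφ : e.inv ≫ φ.f 0 = (secEquiv J V (L.X 0)).symm s := by
      simp [φ, e]
    have hd : (freeCx (J := J) V).d 0 1 = 0 :=
      (HomologicalComplex.isZero_single_obj_X (ComplexShape.up ℤ) 0 (CohCx.freeSheaf J V) 1 (by simp)).eq_of_tgt _ _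
    rw [hc, hd, zero_comp, zero_add] at hφ
    rw [Category.assoc, hφ, AddEquiv.apply_symm_apply]
  · intro h
    refine subsingleton_of_forall_eq 0 fun x => ?_
    obtain ⟨φ, rfl⟩ := (HomotopyCategory.quotient _ (ComplexShape.up ℤ)).map_surjective x
    have hs : ((L.d 0 1).hom.app (op V)).hom (secEquiv J V _ (e.inv ≫ φ.f 0)) = 0 := by
      rw [← secEquiv_comp, Category.assoc, φ.comm,
        (HomologicalComplex.isZero_single_obj_X (ComplexShape.up ℤ) 0 (CohCx.freeSheaf J V) 1 (by simp)).eq_of_tgt
          ((freeCx V).d 0 1) 0, zero_comp, comp_zero, map_zero]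
    obtain ⟨t, ht⟩ := h _ hs
    refine (HomotopyCategory.eq_of_homotopy φ 0 ?_).trans (Functor.map_zero _ _ _)
    refine
      { hom := fun i j => if hij : i = 0 ∧ j = -1 then
            eqToHom (by rw [hij.1]) ≫ e.hom ≫ (secEquiv J V _).symm t ≫ eqToHom (by rw [hij.2])
          else 0
        zero := fun i j hij => dif_neg fun hh => hij (by rw [hh.1, hh.2]; rfl)
        comm := fun i => ?_ }
    by_cases hi : i = 0
    · subst hi
      rw [dNext_eq _ (show (ComplexShape.up ℤ).Rel 0 1 from rfl),
        prevD_eq _ (show (ComplexShape.up ℤ).Rel (-1) 0 from rfl),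
        HomologicalComplex.zero_f, add_zero,
        (HomologicalComplex.isZero_single_obj_X (ComplexShape.up ℤ) 0 (CohCx.freeSheaf J V) 1 (by simp)).eq_of_tgt
          ((freeCx V).d 0 1) 0, zero_comp, zero_add, dif_pos (show (0 : ℤ) = 0 ∧ (-1 : ℤ) = -1 from ⟨rfl, rfl⟩)]
      simp only [eqToHom_refl, Category.id_comp, Category.comp_id, Category.assoc]
      rw [← Iso.inv_comp_eq, secEquiv_symm_comp, ht, AddEquiv.symm_apply_apply]
    · exact (HomologicalComplex.isZero_single_obj_X (ComplexShape.up ℤ) 0 _ i hi).eq_of_src _ _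

end Sections

section Good

attribute [local instance] HasDerivedCategory.standard

variable {D : Type u} [SmallCategory D] {K : GrothendieckTopology D} {O : Sheaf J CommRingCat.{u}}
  (G : ModSite.Mod O ⥤ Sheaf K AddCommGrpCat.{u}) [G.Additive] [G.IsRightAdjoint]

/-- Morphisms out of a free sheaf into the image of a K-injective complex of modules vanish iff its
sections are exact, if the images of injectives are totally acyclic. -/
lemma subsingleton_hom_iff_sectExact
    (hG : ∀ E : ModSite.Mod O, Injective E → CohCx.IsTotallyAcyclic (G.obj E))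
    (I : CochainComplex (ModSite.Mod O) ℤ) [I.IsKInjective] (V : D) :
    Subsingleton (DerivedCategory.Q.obj (freeCx (J := K) V) ⟶
        DerivedCategory.Q.obj ((G.mapHomologicalComplex (ComplexShape.up ℤ)).obj I)) ↔
      SectExact ((G.mapHomologicalComplex (ComplexShape.up ℤ)).obj I) V := by
  let adj := Adjunction.ofIsRightAdjoint G
  haveI := adj.left_adjoint_additive
  have hgood : ∀ M : Sheaf K AddCommGrpCat.{u}, ∃ (P : Sheaf K AddCommGrpCat.{u}) (π : P ⟶ M),
      LeftAdjExists.Good G P ∧ Epi π := fun M => by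
    let F := (sheafCompose K (CategoryTheory.forget AddCommGrpCat.{u})).obj M
    refine ⟨freeSh F, (freeShEquiv F M).symm (𝟙 F), fun E hE n => hG E hE F n, ⟨fun g g' hg => ?_⟩⟩
    apply (sheafCompose K (CategoryTheory.forget AddCommGrpCat.{u})).map_injective
    have := congrArg (freeShEquiv F _) hg
    rwa [freeShEquiv_comp, freeShEquiv_comp, Equiv.apply_symm_apply, Category.id_comp,
      Category.id_comp] at this
  have hP : ∀ i, LeftAdjExists.Good G ((freeCx (J := K) V).X i) := fun i => by
    by_cases hi : i = 0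
    · subst hi
      intro E hE n
      have h1 : Subsingleton (Ext.{u} (CohCx.freeSheaf K V) (G.obj E) (n + 1)) :=
        subsingleton_HU_of_totallyAcyclic (hG E hE) V n
      let e := HomologicalComplex.singleObjXSelf (ComplexShape.up ℤ) 0 (CohCx.freeSheaf K V)
      refine ⟨fun x y => ?_⟩
      rw [← Ext.mk₀_id_comp x, ← Ext.mk₀_id_comp y, ← e.hom_inv_id, ← Ext.mk₀_comp_mk₀_assoc,
        ← Ext.mk₀_comp_mk₀_assoc, Subsingleton.elim ((Ext.mk₀ e.inv).comp x (zero_add _))]
    · exact LeftAdjExists.good_of_isZero (HomologicalComplex.isZero_single_obj_X _ 0 _ i hi)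
  haveI := TriCat.qh_isLeftAdjoint_of_exists_resolution (exists_kInjective_mod O)
  let adjQ := kinjAdj O
  let qI := (HomotopyCategory.quotient (ModSite.Mod O) (ComplexShape.up ℤ)).obj I
  have hb := LeftAdjExists.Qh_map_bijective adj hgood adjQ (freeCx V) 0 hP
    (DerivedCategory.Qh.obj qI)
  haveI := TriCat.isIso_unit_of_isKInjective adjQ I
  let α : (HomotopyCategory.quotient _ (ComplexShape.up ℤ)).obj
      ((G.mapHomologicalComplex (ComplexShape.up ℤ)).obj I) ≅
      (G.mapHomotopyCategory (ComplexShape.up ℤ)).obj ((kinjRes O).obj (DerivedCategory.Qh.obj qI)) :=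
    ((G.mapHomotopyCategoryFactors _).app I).symm ≪≫
      (G.mapHomotopyCategory (ComplexShape.up ℤ)).mapIso (asIso (adjQ.unit.app qI))
  rw [← subsingleton_homotopy_iff]
  refine Iff.trans (Equiv.subsingleton_congr ?_) (Equiv.subsingleton_congr α.homToEquiv.symm)
  exact (Iso.homCongr ((quotientCompQhIso _).app _).symm
    (((quotientCompQhIso _).app _).symm ≪≫ DerivedCategory.Qh.mapIso α)).trans
      (Equiv.ofBijective _ hb).symm

variable {O_D : Sheaf K CommRingCat.{u}}

/-- Exactness of sections transfers along `f_*`. -/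
lemma sectExact_push_iff (f : ModSite.RMor O O_D) (I : CochainComplex (ModSite.Mod O) ℤ) (V : D) :
    SectExact (((f.push ⋙ SheafOfModules.toSheaf (ModSite.ringSh O_D)).mapHomologicalComplex
        (ComplexShape.up ℤ)).obj I) V ↔
      SectExact (((SheafOfModules.toSheaf (ModSite.ringSh O)).mapHomologicalComplex
        (ComplexShape.up ℤ)).obj I) (f.fn.obj V) :=
  Iff.rfl

/-- `H^0` over `V` of `Rf_* X` vanishes if `H^0` over `f⁻¹ V` of `X` does. -/
lemma subsingleton_rpushD_hom_zero (f : ModSite.RMor O O_D) [SiteCmp.HasRpushD f]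
    (X : DerivedCategory (ModSite.Mod O)) (V : D)
    (h : Subsingleton (DerivedCategory.Q.obj (freeCx (J := J) (f.fn.obj V)) ⟶
      (SheafOfModules.toSheaf (ModSite.ringSh O)).mapDerivedCategory.obj X)) :
    Subsingleton (DerivedCategory.Q.obj (freeCx (J := K) V) ⟶
      (SheafOfModules.toSheaf (ModSite.ringSh O_D)).mapDerivedCategory.obj
        ((SiteCmp.RpushD f).obj X)) := by
  obtain ⟨I₀, q, hI, hq⟩ := exists_kInjective_mod O (DerivedCategory.Q.objPreimage X)
  let eX : X ≅ DerivedCategory.Q.obj I₀ :=
    (DerivedCategory.Q.objObjPreimageIso X).symm ≪≫ asIso (DerivedCategory.Q.map q)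
  haveI := isRightAdjoint_toSheaf (ModSite.ringSh O)
  haveI := isRightAdjoint_toSheaf (ModSite.ringSh O_D)
  haveI : f.push.IsRightAdjoint := ⟨_, ⟨f.adj⟩⟩
  have h0 := (subsingleton_hom_iff_sectExact (SheafOfModules.toSheaf (ModSite.ringSh O))
    (fun E hE => isTotallyAcyclic_toSheaf_injective (ModSite.ringSh O) E) I₀ (f.fn.obj V)).1
    ((Iso.homCongr (Iso.refl _) ((Functor.mapIso _ eX) ≪≫
      ((SheafOfModules.toSheaf (ModSite.ringSh O)).mapDerivedCategoryFactors).app I₀)).symm.subsingleton_congr.2 h)
  have h1 := (subsingleton_hom_iff_sectExact (f.push ⋙ SheafOfModules.toSheaf (ModSite.ringSh O_D))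
    (fun E hE => RpushLeftAdj.isTotallyAcyclic_push f E) I₀ V).2 ((sectExact_push_iff f I₀ V).2 h0)
  obtain ⟨e'⟩ := nonempty_rpushD_kInjective f I₀
  exact (Iso.homCongr (Iso.refl _) (Functor.mapIso _ ((SiteCmp.RpushD f).mapIso eX ≪≫ e') ≪≫
    ((SheafOfModules.toSheaf (ModSite.ringSh O_D)).mapDerivedCategoryFactors).app _)).subsingleton_congr.2 h1

end Good

end Groth.Agent.DSites
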