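import Groth.Agent.DSites.Vanish
import Groth.Agent.DSites.RpushFlat
import Groth.Agent.DSites.RpushSections

/-!
# `Rf_*` on unbounded objects through their truncations

For a finite cohomological dimension on a class of modules the cohomology of `Rf_* X` in degree `j`
only depends on `τ_{≥ -n} X` for `j ≥ N - n`.
-/

set_option autoImplicit false
set_option linter.style.haveILetI false

universe u

open CategoryTheory CategoryTheory.Limits Pretriangulated DerivedCategory

attribute [local instance] HasDerivedCategory.standard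

namespace Groth.Agent.DSites

variable {C : Type u} [SmallCategory C] {J : GrothendieckTopology C}
  {D : Type u} [SmallCategory D] {K : GrothendieckTopology D}
  {O_C : Sheaf J CommRingCat.{u}} {O_D : Sheaf K CommRingCat.{u}}
  (f : ModSite.RMor O_C O_D) [SiteCmp.HasRpushD f]

local notation "Rf" => SiteCmp.RpushD f
local notation "H" => DerivedCategory.homologyFunctor (ModSite.Mod O_D)
local notation "HC" => DerivedCategory.homologyFunctor (ModSite.Mod O_C)

lemma hasProduct_truncTower (X : DerivedCategory (ModSite.Mod O_C)) :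
    HasProduct (CohCx.truncTower X) := by
  have : HasLimitsOfShape (Discrete ℕ) (DerivedCategory (ModSite.Mod O_C)) :=
    TriCat.hasProductsOfShape_derivedCategory (exists_kInjective_mod O_C)
  infer_instance

lemma hasProduct_image (X : DerivedCategory (ModSite.Mod O_C)) :
    HasProduct fun n => (Rf).obj (CohCx.truncTower X n) := by
  have : HasLimitsOfShape (Discrete ℕ) (DerivedCategory (ModSite.Mod O_D)) :=
    TriCat.hasProductsOfShape_derivedCategory (exists_kInjective_mod O_D)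
  infer_instance

/-- Bound on the cohomology of `Rf_*` of a bounded object with cohomology in a class of modules of
cohomological dimension at most `N`. -/
theorem isZero_H_rpushD [HasInjectiveResolutions (ModSite.Mod O_C)]
    (A : ObjectProperty (ModSite.Mod O_C)) (N : ℤ)
    (h : ∀ F : ModSite.Mod O_C, A F → ∀ p : ℕ, N < (p : ℤ) → IsZero ((f.Rpush p).obj F))
    (X : DerivedCategory (ModSite.Mod O_C)) (a b : ℤ) [X.IsGE a] [X.IsLE b]
    (hX : ∀ n, a ≤ n → n ≤ b → A ((HC n).obj X)) (q : ℤ) (hq : N + b < q) :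
    IsZero ((H q).obj ((Rf).obj X)) := by
  letI := rpushCommShift f
  haveI := isTriangulated_rpushD f
  let Φ : ObjectProperty (DerivedCategory (ModSite.Mod O_C)) := fun Y => IsZero ((H q).obj ((Rf).obj Y))
  have : Φ.IsClosedUnderIsomorphisms := ⟨fun e hY => hY.of_iso ((H q).mapIso ((Rf).mapIso e.symm))⟩
  refine devissage_bounded Φ (fun Z hZ => Functor.map_isZero _ ((Rf).map_isZero hZ))
    (fun T hT h₁ h₃ => ((HomologySequence.exact₂ _ ((Rf).map_distinguished T hT) q).isZero_of_both_zeros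
      (h₁.eq_of_src _ _) (h₃.eq_of_tgt _ _))) X a b fun n han hn => ?_
  let M := (HC n).obj X
  let e : (singleFunctor (ModSite.Mod O_C) n).obj M ≅
      ((singleFunctor (ModSite.Mod O_C) 0).obj M)⟦-n⟧ :=
    (((singleFunctors (ModSite.Mod O_C)).shiftIso (-n) n 0 (by omega)).app M).symm
  refine Φ.prop_of_iso e.symm ?_
  refine IsZero.of_iso ?_ ((H q).mapIso (((Rf).commShiftIso (-n)).app _) ≪≫
    ((H 0).shiftIso (-n) q (q - n) (by omega)).app _)
  by_cases h0 : 0 ≤ q - n
  · obtain ⟨p, hp⟩ := Int.eq_ofNat_of_zero_le h0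
    rw [hp]
    obtain ⟨e'⟩ := nonempty_H_rpushD_single f M p
    exact (h M (hX n han hn) p (by omega)).of_iso e'
  · have := isGE_rpushD f ((singleFunctor (ModSite.Mod O_C) 0).obj M) 0
    exact isZero_of_isGE _ 0 (q - n) (by omega)

variable (A : ObjectProperty (ModSite.Mod O_C)) [WSerre.IsWeakSerre A]

omit [SiteCmp.HasRpushD f] in
lemma cohIn_cone_truncTowerMap (X : DerivedCategory (ModSite.Mod O_C)) (hX : WSerre.cohIn A X)
    (n : ℕ) {Q : DerivedCategory (ModSite.Mod O_C)} (g : CohCx.truncTower X n ⟶ Q)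
    (d : Q ⟶ (CohCx.truncTower X (n + 1))⟦(1 : ℤ)⟧)
    (hQ : Triangle.mk (CohCx.truncTowerMap X n) g d ∈ distinguishedTriangles) :
    WSerre.cohIn A Q :=
  cohIn_obj₃ A _ hQ (cohIn_truncGE A hX _) (cohIn_truncGE A hX _)

omit [SiteCmp.HasRpushD f] [WSerre.IsWeakSerre A] in
lemma isLE_cone_truncTowerMap (X : DerivedCategory (ModSite.Mod O_C))
    (n : ℕ) {Q : DerivedCategory (ModSite.Mod O_C)} (g : CohCx.truncTower X n ⟶ Q)
    (d : Q ⟶ (CohCx.truncTower X (n + 1))⟦(1 : ℤ)⟧)
    (hQ : Triangle.mk (CohCx.truncTowerMap X n) g d ∈ distinguishedTriangles) :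
    Q.IsLE (-(n : ℤ) - 2) :=
  (isLE_iff _ _).2 fun i hi => (truncTowerMap_cone X n g d hQ).2.1 i (by omega)

/-- The main statement: `H^j Rf_* X = H^j Rf_* τ_{≥ -n} X` for `j ≥ N - n`, when the cones of the
transition maps have locally vanishing hypercohomology far out in the tower. -/
theorem isIso_H_rpushD_trunc [HasInjectiveResolutions (ModSite.Mod O_C)]
    [HasDerivedCategory.{u} (Sheaf K AddCommGrpCat.{u})] {B : Set C} {B' : Set D}
    (hB : DLim.IsCoveredBy J B) (hB' : DLim.IsCoveredBy K B')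
    (hA : ∀ V ∈ B, ∃ d : ℕ, ∀ T ∈ J V, ∃ (ι : Type u) (Y : ι → C) (g : ∀ i, Y i ⟶ V),
      (∀ i, T.arrows (g i)) ∧ Sieve.ofArrows Y g ∈ J V ∧
      ∀ (i : ι) (F : ModSite.Mod O_C), A F → ∀ k : ℕ, d < k → Subsingleton (ModSite.HU O_C F k (Y i)))
    (N : ℤ) (h : ∀ F : ModSite.Mod O_C, A F → ∀ p : ℕ, N < (p : ℤ) → IsZero ((f.Rpush p).obj F))
    (X : DerivedCategory (ModSite.Mod O_C)) (hX : WSerre.cohIn A X) (n : ℕ) (j : ℤ)
    (hj : N - (n : ℤ) ≤ j)
    (hvan : ∀ V ∈ B', ∃ M : ℕ, ∀ T ∈ K V, ∃ (ι : Type u) (Y : ι → D) (g : ∀ i, Y i ⟶ V),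
      (∀ i, T.arrows (g i)) ∧ Sieve.ofArrows Y g ∈ K V ∧
      ∀ (i : ι) (m : ℕ), M ≤ m → ∀ Q : DerivedCategory (ModSite.Mod O_C),
        Q.IsGE (-(m : ℤ) - 2) → Q.IsLE (-(m : ℤ) - 2) → WSerre.cohIn A Q →
        ∀ p : ℤ, (p = j ∨ p = j - 1) →
          Subsingleton (CohCx.HDU ((toSheafD (ModSite.ringSh O_D)).obj ((Rf).obj Q)) p (Y i))) :
    IsIso ((H j).map ((Rf).map ((DerivedCategory.TStructure.t.truncGEπ (-(n : ℤ))).app X))) := by
  letI := rpushCommShift f
  haveI := isTriangulated_rpushD f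
  haveI := H9Misc.RpushLeftAdj.isRightAdjoint_RpushD f
  haveI := hasProduct_truncTower X
  haveI := hasProduct_image f X
  haveI : PreservesLimit (Discrete.functor (CohCx.truncTower X)) (Rf) := inferInstance
  have hX' : CohCx.IsRlimVia (CohCx.truncTower X) (CohCx.truncTowerMap X) X (CohCx.toTruncTower X) :=
    isRlimVia_truncTower_mod O_C X hB fun V hV _ => by
      obtain ⟨d, hd⟩ := hA V hV
      refine ⟨d, fun T hT => ?_⟩
      obtain ⟨ι, Y, g, hf, hcov, hv⟩ := hd T hT
      exact ⟨ι, Y, g, hf, hcov, fun i q k _ hk _ => hv i _ (hX q) k hk⟩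
  refine isIso_H_rlim_mod' O_D (isRlimVia_map (Rf) _ _ X _ hX') hB' j n (fun p hp => ?_) fun V hV => ?_
  · obtain ⟨Q, g, d, hQ⟩ := distinguished_cocone_triangle (CohCx.truncTowerMap X p)
    have hge := (truncTowerMap_cone X p g d hQ).1
    have hle := isLE_cone_truncTowerMap X p g d hQ
    have hz : ∀ q, N - (p : ℤ) - 2 < q → IsZero ((H q).obj ((Rf).obj Q)) := fun q hq =>
      isZero_H_rpushD f A N h Q (-(p : ℤ) - 2) (-(p : ℤ) - 2)
        (fun i _ _ => cohIn_cone_truncTowerMap A X hX p g d hQ i) q (by omega)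
    exact isIso_H_mor₁ _ ((Rf).map_distinguished _ hQ) j (hz _ (by omega)) (hz _ (by omega))
  · obtain ⟨M, hM⟩ := hvan V hV
    refine ⟨M, fun T hT => ?_⟩
    obtain ⟨ι, Y, g, hf, hcov, hv⟩ := hM T hT
    refine ⟨ι, Y, g, hf, hcov, fun i p hp => ?_⟩
    obtain ⟨Q, g', d, hQ⟩ := distinguished_cocone_triangle (CohCx.truncTowerMap X p)
    exact ⟨_, _, _, (Rf).map_distinguished _ hQ, hv i p hp Q (truncTowerMap_cone X p g' d hQ).1
      (isLE_cone_truncTowerMap X p g' d hQ) (cohIn_cone_truncTowerMap A X hX p g' d hQ)⟩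

/-- Hypercohomology of `Rf_* Q` over `V` vanishes with the one of `Q` over `f⁻¹ V`. -/
theorem subsingleton_HDU_rpushD [hC : HasDerivedCategory.{u} (Sheaf J AddCommGrpCat.{u})]
    [hD : HasDerivedCategory.{u} (Sheaf K AddCommGrpCat.{u})]
    (Q : DerivedCategory (ModSite.Mod O_C)) (p : ℤ) (V : D)
    (h : Subsingleton (CohCx.HDU ((toSheafD (ModSite.ringSh O_C)).obj Q) p (f.fn.obj V))) :
    Subsingleton (CohCx.HDU ((toSheafD (ModSite.ringSh O_D)).obj ((Rf).obj Q)) p V) := by
  letI := rpushCommShift f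
  obtain ⟨M, ⟨eM⟩⟩ : ∃ M, Nonempty (DerivedCategory.Q.obj M ≅ Q⟦p⟧) :=
    ⟨_, ⟨DerivedCategory.Q.objObjPreimageIso _⟩⟩
  obtain ⟨M', ⟨eM'⟩⟩ : ∃ M', Nonempty (DerivedCategory.Q.obj M' ≅ (Rf).obj (Q⟦p⟧)) :=
    ⟨_, ⟨DerivedCategory.Q.objObjPreimageIso _⟩⟩
  let RC := ModSite.ringSh O_C
  let RD := ModSite.ringSh O_D
  let aC := ((singleFunctorIsoCompQ (Sheaf J AddCommGrpCat.{u}) 0).app
    (CohCx.freeSheaf J (f.fn.obj V))).symm
  let aD := ((singleFunctorIsoCompQ (Sheaf K AddCommGrpCat.{u}) 0).app (CohCx.freeSheaf K V)).symm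
  -- in the small models
  let bC := (((toSheafD RC).commShiftIso p).app Q).symm ≪≫ (toSheafD RC).mapIso eM.symm ≪≫
    (SheafOfModules.toSheaf RC).mapDerivedCategoryFactors.app M
  let bD := (((toSheafD RD).commShiftIso p).app ((Rf).obj Q)).symm ≪≫
    (toSheafD RD).mapIso (((Rf).commShiftIso p).app Q).symm ≪≫ (toSheafD RD).mapIso eM'.symm ≪≫
    (SheafOfModules.toSheaf RD).mapDerivedCategoryFactors.app M'
  have h₁ : Subsingleton (DerivedCategory.Q.obj (freeCx (J := J) (f.fn.obj V)) ⟶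
      DerivedCategory.Q.obj (((SheafOfModules.toSheaf RC).mapHomologicalComplex _).obj M)) :=
    (Iso.homCongr aC bC.symm).subsingleton_congr.2 h
  have h₂ := @subsingleton_hom_of_model (Sheaf J AddCommGrpCat.{u}) _ _ hC (HasDerivedCategory.standard _) _ _ h₁
  have h₃ := subsingleton_rpushD_hom_zero f (Q⟦p⟧) V <| by
    letI := HasDerivedCategory.standard (Sheaf J AddCommGrpCat.{u})
    exact (Iso.homCongr (Iso.refl _) (((SheafOfModules.toSheaf RC).mapDerivedCategoryFactors.app M).symm ≪≫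
      (SheafOfModules.toSheaf RC).mapDerivedCategory.mapIso eM)).symm.subsingleton_congr.2 h₂
  have h₄ : Subsingleton ((letI := HasDerivedCategory.standard (Sheaf K AddCommGrpCat.{u});
      DerivedCategory.Q (C := Sheaf K AddCommGrpCat.{u})).obj (freeCx (J := K) V) ⟶
      (letI := HasDerivedCategory.standard (Sheaf K AddCommGrpCat.{u});
      DerivedCategory.Q (C := Sheaf K AddCommGrpCat.{u})).obj
        (((SheafOfModules.toSheaf RD).mapHomologicalComplex _).obj M')) := by
    letI := HasDerivedCategory.standard (Sheaf K AddCommGrpCat.{u})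
    exact (Iso.homCongr (Iso.refl _) (((SheafOfModules.toSheaf RD).mapDerivedCategoryFactors.app M').symm ≪≫
      (SheafOfModules.toSheaf RD).mapDerivedCategory.mapIso eM')).subsingleton_congr.2 h₃
  have h₅ := @subsingleton_hom_of_model (Sheaf K AddCommGrpCat.{u}) _ _ (HasDerivedCategory.standard _) hD _ _ h₄
  exact (Iso.homCongr aD bD.symm).symm.subsingleton_congr.2 h₅

end Groth.Agent.DSites
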