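import Mathlib.Algebra.Homology.HomotopyCategory.Pretriangulated
import Mathlib.Algebra.Homology.HomologicalComplexBiprod
import Mathlib.Algebra.Homology.Embedding.CochainComplex

/-!
# Termwise split injective replacement of a sequence of complexes
-/

set_option autoImplicit false

universe v u

open CategoryTheory CategoryTheory.Limits CategoryTheory.Category CochainComplex
open CochainComplex.HomComplex

namespace Groth.Agent.DSites.SeqSplit

variable {V : Type u} [Category.{v} V] [Preadditive V] [HasBinaryBiproducts V] [HasZeroObject V]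

/-- The replacement of the target of a map. -/
noncomputable abbrev Cyl (B Y : CochainComplex V ℤ) : CochainComplex V ℤ :=
  Y ⊞ mappingCone (𝟙 B)

/-- The split mono replacing a map. -/
noncomputable abbrev incl {B Y : CochainComplex V ℤ} (φ : B ⟶ Y) : B ⟶ Cyl B Y :=
  biprod.lift φ (mappingCone.inr (𝟙 B))

/-- The projection is a homotopy equivalence. -/
noncomputable def proj (B Y : CochainComplex V ℤ) : HomotopyEquiv (Cyl B Y) Y where
  hom := biprod.fst
  inv := biprod.inl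
  homotopyHomInvId := by
    have h : Homotopy ((biprod.snd : Cyl B Y ⟶ _) ≫ (biprod.inr : _ ⟶ Cyl B Y)) 0 :=
      (Homotopy.ofEq (by rw [id_comp])).trans
        ((((mappingCone.homotopyToZeroOfId B).compRight (biprod.inr : _ ⟶ Cyl B Y)).compLeft
          (biprod.snd : Cyl B Y ⟶ _)).trans (Homotopy.ofEq (by rw [zero_comp, comp_zero])))
    exact ((Homotopy.ofEq biprod.total.symm).trans
      (((Homotopy.refl ((biprod.fst : Cyl B Y ⟶ Y) ≫ (biprod.inl : Y ⟶ Cyl B Y))).add h).trans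
        (Homotopy.ofEq (add_zero _)))).symm
  homotopyInvHomId := Homotopy.ofEq biprod.inl_fst

lemma exists_splitting {B Y : CochainComplex V ℤ} (φ : B ⟶ Y) (n : ℤ) :
    ∃ ε : (Cyl B Y).X n ≅ B.X n ⊞ (Y.X n ⊞ B.X (n + 1)), (incl φ).f n ≫ ε.hom = biprod.inl := by
  let c : (Cyl B Y).X n ⟶ B.X n :=
    (biprod.snd : Cyl B Y ⟶ _).f n ≫ (mappingCone.snd (𝟙 B)).v n n (add_zero n)
  let p : (Cyl B Y).X n ⟶ Y.X n := (biprod.fst : Cyl B Y ⟶ Y).f n - c ≫ φ.f n
  let q : (Cyl B Y).X n ⟶ B.X (n + 1) :=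
    (biprod.snd : Cyl B Y ⟶ _).f n ≫ (mappingCone.fst (𝟙 B)).1.v n (n + 1) rfl
  have hincl : (incl φ).f n = φ.f n ≫ (biprod.inl : Y ⟶ Cyl B Y).f n +
      (mappingCone.inr (𝟙 B)).f n ≫ (biprod.inr : _ ⟶ Cyl B Y).f n := by
    rw [← HomologicalComplex.comp_f, ← HomologicalComplex.comp_f,
      ← HomologicalComplex.add_f_apply]
    exact congrArg (fun z : B ⟶ Cyl B Y => z.f n) biprod.lift_eq
  have h1 : (incl φ).f n ≫ c = 𝟙 _ := by simp [hincl, c]
  have h2 : (incl φ).f n ≫ p = 0 := by simp [hincl, p, c]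
  have h3 : (incl φ).f n ≫ q = 0 := by simp [hincl, q]
  let hom : (Cyl B Y).X n ⟶ B.X n ⊞ (Y.X n ⊞ B.X (n + 1)) := biprod.lift c (biprod.lift p q)
  let inv : B.X n ⊞ (Y.X n ⊞ B.X (n + 1)) ⟶ (Cyl B Y).X n :=
    biprod.desc ((incl φ).f n) (biprod.desc ((biprod.inl : Y ⟶ Cyl B Y).f n)
      ((mappingCone.inl (𝟙 B)).v (n + 1) n (by omega) ≫ (biprod.inr : _ ⟶ Cyl B Y).f n))
  refine ⟨⟨hom, inv, ?_, ?_⟩, ?_⟩
  · have hid := mappingCone.id_X (𝟙 B) n (n + 1) rfl
    have hs := congrArg (fun z => (biprod.snd : Cyl B Y ⟶ _).f n ≫ z ≫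
      (biprod.inr : _ ⟶ Cyl B Y).f n) hid
    simp only [Preadditive.add_comp, Preadditive.comp_add, assoc, id_comp] at hs
    simp only [hom, inv, biprod.lift_desc, hincl, p, q, c, Preadditive.comp_add,
      Preadditive.sub_comp, assoc]
    rw [← HomologicalComplex.biprod_total_f Y (mappingCone (𝟙 B)) n, ← hs]
    abel
  · ext <;> simp [hom, inv, h1, h2, h3, p, q, c]
  · show (incl φ).f n ≫ hom = biprod.inl
    ext <;> simp [hom, h1, h2, h3]

/-- A replacement of one term. -/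
structure Stage (Y : CochainComplex V ℤ) where
  /-- The replacement. -/
  B : CochainComplex V ℤ
  /-- The homotopy equivalence. -/
  e : HomotopyEquiv B Y

variable (X : ℕ → CochainComplex V ℤ) (a : ∀ i, X i ⟶ X (i + 1))

/-- The replacement of the sequence. -/
noncomputable def stage : ∀ i, Stage (X i)
  | 0 => ⟨X 0, HomotopyEquiv.refl _⟩
  | i + 1 => ⟨Cyl (stage i).B (X (i + 1)), proj _ _⟩

lemma isStrictlyGE_stage (h : ∀ i, ∃ m : ℤ, (X i).IsStrictlyGE m) (i : ℕ) :
    ∃ m : ℤ, (stage X i).B.IsStrictlyGE m := by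
  induction i with
  | zero => exact h 0
  | succ i ih =>
    obtain ⟨m, hm⟩ := ih
    obtain ⟨m', hm'⟩ := h (i + 1)
    refine ⟨min m' (m - 1), (isStrictlyGE_iff _ _).2 fun n hn => ?_⟩
    obtain ⟨ε, -⟩ := exists_splitting (B := (stage X i).B) (Y := X (i + 1)) 0 n
    refine IsZero.of_iso ?_ ε
    exact (IsZero.iff_id_eq_zero _).2 (biprod.hom_ext _ _
      (((stage X i).B.isZero_of_isStrictlyGE m n (by omega)).eq_of_tgt _ _)
      (biprod.hom_ext _ _ (((X (i + 1)).isZero_of_isStrictlyGE m' n (by omega)).eq_of_tgt _ _)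
        (((stage X i).B.isZero_of_isStrictlyGE m (n + 1) (by omega)).eq_of_tgt _ _)))

lemma isStrictlyLE_stage (h : ∀ i, ∃ m : ℤ, (X i).IsStrictlyLE m) (i : ℕ) :
    ∃ m : ℤ, (stage X i).B.IsStrictlyLE m := by
  induction i with
  | zero => exact h 0
  | succ i ih =>
    obtain ⟨m, hm⟩ := ih
    obtain ⟨m', hm'⟩ := h (i + 1)
    refine ⟨max m' m, (isStrictlyLE_iff _ _).2 fun n hn => ?_⟩
    obtain ⟨ε, -⟩ := exists_splitting (B := (stage X i).B) (Y := X (i + 1)) 0 n
    refine IsZero.of_iso ?_ ε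
    exact (IsZero.iff_id_eq_zero _).2 (biprod.hom_ext _ _
      (((stage X i).B.isZero_of_isStrictlyLE m n (by omega)).eq_of_tgt _ _)
      (biprod.hom_ext _ _ (((X (i + 1)).isZero_of_isStrictlyLE m' n (by omega)).eq_of_tgt _ _)
        (((stage X i).B.isZero_of_isStrictlyLE m (n + 1) (by omega)).eq_of_tgt _ _)))

end Groth.Agent.DSites.SeqSplit
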