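import Groth.Agent.TriCat.Resolve
import Mathlib.Algebra.Homology.HomotopyCategory.MappingCocone
import Mathlib.Algebra.Homology.HomologicalComplexAbelian
import Mathlib.Algebra.Homology.Embedding.CochainComplex
import Mathlib.CategoryTheory.ObjectProperty.ClosedUnderIsomorphisms

/-!
# Special inverse systems of right resolutions of the truncations of a complex
-/

set_option autoImplicit false
set_option maxHeartbeats 1000000
set_option linter.style.haveILetI false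

universe v u

open CategoryTheory CategoryTheory.Limits CategoryTheory.Category CochainComplex
open CochainComplex.HomComplex

namespace Groth.Agent.DSites.SpecialSystem

variable {A : Type u} [Category.{v} A] [Abelian A]

lemma isIso_πTruncGE_f (K : CochainComplex A ℤ) (n i : ℤ) (h : n < i) :
    IsIso ((K.πTruncGE n).f i) := by
  obtain ⟨k, hk⟩ : ∃ k : ℕ, (ComplexShape.embeddingUpIntGE n).f k = i :=
    ⟨(i - n).toNat, by simp; omega⟩
  show IsIso ((HomologicalComplex.πTruncGE K (ComplexShape.embeddingUpIntGE n)).f i)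
  dsimp [HomologicalComplex.πTruncGE]
  refine ((ComplexShape.embeddingUpIntGE n).isIso_liftExtend_f_iff _ _ hk).2
    (K.isIso_restrictionToTruncGE' _ k ?_)
  rw [ComplexShape.boundaryGE_embeddingUpIntGE_iff]
  simp only [ComplexShape.embeddingUpIntGE_f] at hk
  omega

/-- The transition maps between truncations. -/
lemma exists_trunc_trans (K : CochainComplex A ℤ) (m' m : ℤ) (h : m' < m) :
    ∃ t : K.truncGE m' ⟶ K.truncGE m, K.πTruncGE m' ≫ t = K.πTruncGE m := by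
  haveI : Epi (K.πTruncGE m') :=
    inferInstanceAs (Epi (HomologicalComplex.πTruncGE K (ComplexShape.embeddingUpIntGE m')))
  have hz : kernel.ι (K.πTruncGE m') ≫ K.πTruncGE m = 0 := by
    ext i
    by_cases hi : i < m
    · exact ((K.truncGE m).isZero_of_isStrictlyGE m i hi).eq_of_tgt _ _
    · haveI := isIso_πTruncGE_f K m' i (by omega)
      have e : (kernel.ι (K.πTruncGE m')).f i ≫ (K.πTruncGE m').f i = 0 := by
        rw [← HomologicalComplex.comp_f, kernel.condition, HomologicalComplex.zero_f]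
      rw [HomologicalComplex.comp_f, zero_of_comp_mono _ e, zero_comp, HomologicalComplex.zero_f]
  obtain ⟨t, ht⟩ := CokernelCofork.IsColimit.desc'
    (Abelian.epiIsCokernelOfKernel _ (kernelIsKernel (K.πTruncGE m'))) _ hz
  exact ⟨t, ht⟩

section Step

variable {K L : CochainComplex A ℤ} (φ : K ⟶ L) {J : CochainComplex A ℤ} (c : mappingCone φ ⟶ J)

/-- The composite from the target. -/
noncomputable abbrev ψ : L ⟶ J := mappingCone.inr φ ≫ c

/-- The replacement. -/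
noncomputable abbrev Q : CochainComplex A ℤ := mappingCocone (ψ φ c)

/-- The comparison. -/
noncomputable def π : K ⟶ Q φ c :=
  mappingCocone.lift (ψ φ c) φ (-((mappingCone.inl φ).comp (Cochain.ofHom c) (add_zero (-1)))) (by
    rw [δ_neg, δ_comp_ofHom, mappingCone.δ_inl, ← Cochain.ofHom_comp, assoc]
    exact neg_add_cancel _)

lemma π_fst : π φ c ≫ mappingCocone.fst (ψ φ c) = φ := mappingCocone.lift_fst _ _ _ _

lemma π_snd (i j : ℤ) (h : i + -1 = j) :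
    (π φ c).f i ≫ (mappingCocone.snd (ψ φ c)).v i j h =
      -((mappingCone.inl φ).v i j h ≫ c.f j) := by
  rw [π, mappingCocone.lift_f_snd_v]
  simp

lemma Q_ext {T : A} (i j : ℤ) (h : i + -1 = j) {z w : T ⟶ (Q φ c).X i}
    (h₁ : z ≫ (mappingCocone.fst (ψ φ c)).f i = w ≫ (mappingCocone.fst (ψ φ c)).f i)
    (h₂ : z ≫ (mappingCocone.snd (ψ φ c)).v i j h = w ≫ (mappingCocone.snd (ψ φ c)).v i j h) :
    z = w := by
  rw [← comp_id z, ← comp_id w, ← mappingCocone.id_X (ψ φ c) i j h, Preadditive.comp_add,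
    Preadditive.comp_add, reassoc_of% h₁, reassoc_of% h₂]

lemma d_snd (i i' j : ℤ) (hi : i + 1 = i') (hj : j + 1 = i) :
    (mappingCocone.snd (ψ φ c)).v i j (by omega) ≫ J.d j i +
        (Q φ c).d i i' ≫ (mappingCocone.snd (ψ φ c)).v i' i (by omega) =
      -((mappingCocone.fst (ψ φ c)).f i ≫ (ψ φ c).f i) := by
  have e : mappingCocone.snd (ψ φ c) =
      mappingCocone.descCochain (ψ φ c) (m := -1) (n := 0) 0 (Cochain.ofHom (𝟙 J)) (by omega) := by
    ext p q hpq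
    rw [← cancel_epi (𝟙 ((Q φ c).X p)), ← mappingCocone.id_X (ψ φ c) p q hpq]
    simp
  have h := congrArg (fun z => z.v i i (add_zero i))
    (mappingCocone.δ_descCochain (ψ φ c) (m := -1) (n := 0) (M := J) 0 (Cochain.ofHom (𝟙 J))
      (by omega) 1 (by omega))
  simp only [← e] at h
  rw [δ_v (-1) 0 (by omega) _ i i (add_zero i) j i' (by omega) (by omega)] at h
  simpa [Cochain.comp_v _ _ (add_zero 0) i i i] using h

lemma mono_π (hc : ∀ i, Mono (c.f i)) (i : ℤ) : Mono ((π φ c).f i) := by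
  refine Preadditive.mono_of_cancel_zero _ fun {T} x hx => ?_
  haveI := hc (i + -1)
  have h := congrArg (· ≫ (mappingCocone.snd (ψ φ c)).v i (i + -1) rfl) hx
  simp only [assoc, π_snd, zero_comp, Preadditive.comp_neg, neg_eq_zero] at h
  rw [← assoc] at h
  have h' := zero_of_comp_mono _ h
  have := congrArg (· ≫ (mappingCone.fst φ).1.v (i + -1) i (by omega)) h'
  simpa using this

variable [QuasiIso c]

lemma quasiIso_π : QuasiIso (π φ c) := by
  refine ⟨fun i => ?_⟩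
  rw [quasiIsoAt_iff_isIso_homologyMap]
  obtain ⟨i₀, rfl⟩ : ∃ i₀, i = i₀ + 1 := ⟨i - 1, by omega⟩
  obtain ⟨i₀, rfl⟩ : ∃ i', i₀ = i' + 1 := ⟨i₀ - 1, by omega⟩
  have hiso : ∀ j, IsIso (HomologicalComplex.homologyMap c j) := fun j =>
    (quasiIsoAt_iff_isIso_homologyMap c j).1 inferInstance
  haveI := hiso (i₀ + 1)
  haveI := hiso (i₀ + 1 + 1)
  haveI : Mono (HomologicalComplex.homologyMap (π φ c) (i₀ + 1 + 1)) := by
    rw [HomologicalComplex.mono_homologyMap_iff_up_to_refinements _ (i₀ + 1) (i₀ + 1 + 1)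
      (i₀ + 1 + 1 + 1) (by simp) (by simp)]
    intro T k hk z hz
    let x := z ≫ (mappingCocone.fst (ψ φ c)).f (i₀ + 1)
    let y := z ≫ (mappingCocone.snd (ψ φ c)).v (i₀ + 1) i₀ (by omega)
    have h₁ : k ≫ φ.f (i₀ + 1 + 1) = x ≫ L.d (i₀ + 1) (i₀ + 1 + 1) := by
      have := congrArg (· ≫ (mappingCocone.fst (ψ φ c)).f (i₀ + 1 + 1)) hz
      simp only [assoc, ← HomologicalComplex.comp_f, π_fst, ← HomologicalComplex.Hom.comm] at this
      simpa [x] using this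
    have h₂ : k ≫ (mappingCone.inl φ).v (i₀ + 1 + 1) (i₀ + 1) (by omega) ≫ c.f (i₀ + 1) =
        x ≫ (ψ φ c).f (i₀ + 1) + y ≫ J.d i₀ (i₀ + 1) := by
      have e := congrArg (· ≫ (mappingCocone.snd (ψ φ c)).v (i₀ + 1 + 1) (i₀ + 1) (by omega)) hz
      simp only [assoc, π_snd, Preadditive.comp_neg] at e
      rw [eq_sub_of_add_eq' (d_snd φ c (i₀ + 1) (i₀ + 1 + 1) i₀ rfl rfl), Preadditive.comp_sub,
        Preadditive.comp_neg, ← neg_add', neg_inj] at e
      simpa [x, y] using e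
    let w : T ⟶ (mappingCone φ).X (i₀ + 1) :=
      k ≫ (mappingCone.inl φ).v (i₀ + 1 + 1) (i₀ + 1) (by omega) - x ≫ (mappingCone.inr φ).f (i₀ + 1)
    have hw : w ≫ (mappingCone φ).d (i₀ + 1) (i₀ + 1 + 1) = 0 := by
      simp only [w, Preadditive.sub_comp, assoc, HomologicalComplex.Hom.comm,
        mappingCone.inl_v_d φ (i₀ + 1 + 1) (i₀ + 1) (i₀ + 1 + 1 + 1) (by omega) (by omega),
        Preadditive.comp_sub, reassoc_of% hk, zero_comp, sub_zero, reassoc_of% h₁, sub_self]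
    obtain ⟨T', ρ, hρ, u, hu⟩ := (HomologicalComplex.mono_homologyMap_iff_up_to_refinements c i₀
      (i₀ + 1) (i₀ + 1 + 1) (by simp) (by simp)).1 inferInstance w hw y (by
      simp only [w, ψ, HomologicalComplex.comp_f] at h₂ ⊢
      rw [Preadditive.sub_comp, assoc, assoc, h₂, add_sub_cancel_left])
    refine ⟨T', ρ, hρ, -(u ≫ (mappingCone.fst φ).1.v i₀ (i₀ + 1) rfl), ?_⟩
    have := congrArg (· ≫ (mappingCone.fst φ).1.v (i₀ + 1) (i₀ + 1 + 1) rfl) hu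
    simpa [w, mappingCone.d_fst_v φ i₀ (i₀ + 1) (i₀ + 1 + 1) rfl rfl] using this
  haveI : Epi (HomologicalComplex.homologyMap (π φ c) (i₀ + 1 + 1)) := by
    rw [HomologicalComplex.epi_homologyMap_iff_up_to_refinements _ (i₀ + 1) (i₀ + 1 + 1)
      (i₀ + 1 + 1 + 1) (by simp) (by simp)]
    intro T z hz
    let a := z ≫ (mappingCocone.fst (ψ φ c)).f (i₀ + 1 + 1)
    let b := z ≫ (mappingCocone.snd (ψ φ c)).v (i₀ + 1 + 1) (i₀ + 1) (by omega)
    have ha : a ≫ L.d (i₀ + 1 + 1) (i₀ + 1 + 1 + 1) = 0 := by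
      simp only [a, assoc, HomologicalComplex.Hom.comm, reassoc_of% hz, zero_comp]
    have hb : b ≫ J.d (i₀ + 1) (i₀ + 1 + 1) = -(a ≫ (ψ φ c).f (i₀ + 1 + 1)) := by
      have e := congrArg (z ≫ ·) (d_snd φ c (i₀ + 1 + 1) (i₀ + 1 + 1 + 1) (i₀ + 1) rfl rfl)
      simp only [Preadditive.comp_add, reassoc_of% hz, zero_comp, add_zero,
        Preadditive.comp_neg] at e
      simpa [a, b] using e
    obtain ⟨T₁, ρ₁, _, u, hu⟩ := (HomologicalComplex.mono_homologyMap_iff_up_to_refinements c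
      (i₀ + 1) (i₀ + 1 + 1) (i₀ + 1 + 1 + 1) (by simp) (by simp)).1 inferInstance
      (a ≫ (mappingCone.inr φ).f (i₀ + 1 + 1))
      (by rw [assoc, HomologicalComplex.Hom.comm, reassoc_of% ha, zero_comp]) (-b)
      (by rw [Preadditive.neg_comp, hb, neg_neg]; simp [ψ])
    have hcy : (ρ₁ ≫ b + u ≫ c.f (i₀ + 1)) ≫ J.d (i₀ + 1) (i₀ + 1 + 1) = 0 := by
      rw [Preadditive.add_comp, assoc, hb, assoc u, HomologicalComplex.Hom.comm, ← reassoc_of% hu]
      simp [ψ]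
    obtain ⟨T₂, ρ₂, _, w, hw, j', hj'⟩ :=
      (HomologicalComplex.epi_homologyMap_iff_up_to_refinements c i₀ (i₀ + 1) (i₀ + 1 + 1)
        (by simp) (by simp)).1 inferInstance _ hcy
    let v := ρ₂ ≫ u - w
    let k := v ≫ (mappingCone.fst φ).1.v (i₀ + 1) (i₀ + 1 + 1) rfl
    let x := v ≫ (mappingCone.snd φ).v (i₀ + 1) (i₀ + 1) (add_zero _)
    have hvd : v ≫ (mappingCone φ).d (i₀ + 1) (i₀ + 1 + 1) =
        (ρ₂ ≫ ρ₁) ≫ a ≫ (mappingCone.inr φ).f (i₀ + 1 + 1) := by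
      simp only [v, Preadditive.sub_comp, hw, sub_zero, assoc]
      rw [hu]
    have hk : k ≫ K.d (i₀ + 1 + 1) (i₀ + 1 + 1 + 1) = 0 := by
      have e := congrArg (· ≫ (mappingCone.fst φ).1.v (i₀ + 1 + 1) (i₀ + 1 + 1 + 1) rfl) hvd
      simpa [k, mappingCone.d_fst_v φ (i₀ + 1) (i₀ + 1 + 1) (i₀ + 1 + 1 + 1) rfl rfl] using e
    have hka : (ρ₂ ≫ ρ₁) ≫ a = k ≫ φ.f (i₀ + 1 + 1) + x ≫ L.d (i₀ + 1) (i₀ + 1 + 1) := by
      have e := congrArg (· ≫ (mappingCone.snd φ).v (i₀ + 1 + 1) (i₀ + 1 + 1) (add_zero _)) hvd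
      simp only [assoc, mappingCone.d_snd_v φ (i₀ + 1) (i₀ + 1 + 1) rfl, Preadditive.comp_add,
        mappingCone.inr_f_snd_v, comp_id] at e
      simpa [k, x] using e.symm
    refine ⟨T₂, ρ₂ ≫ ρ₁, inferInstance, k, hk,
      x ≫ (mappingCocone.inl (ψ φ c)).v (i₀ + 1) (i₀ + 1) (add_zero _) +
        (-j') ≫ (mappingCocone.inr (ψ φ c)).1.v i₀ (i₀ + 1) rfl, ?_⟩
    apply Q_ext φ c (i₀ + 1 + 1) (i₀ + 1) (by omega)
    · simp only [Preadditive.add_comp, assoc, ← HomologicalComplex.comp_f, π_fst,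
        ← HomologicalComplex.Hom.comm, mappingCocone.inl_v_fst_f_assoc,
        mappingCocone.inr_v_fst_f_assoc, zero_comp, comp_zero, add_zero]
      simpa [a] using hka
    · have e := eq_sub_of_add_eq' (d_snd φ c (i₀ + 1) (i₀ + 1 + 1) i₀ rfl rfl)
      have hb' : (ρ₂ ≫ ρ₁) ≫ b = -(v ≫ c.f (i₀ + 1)) + j' ≫ J.d i₀ (i₀ + 1) := by
        simp only [Preadditive.comp_add] at hj'
        rw [← eq_sub_iff_add_eq] at hj'
        rw [assoc, hj']
        simp only [v, Preadditive.sub_comp, assoc]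
        abel
      have hv : v ≫ c.f (i₀ + 1) =
          k ≫ (mappingCone.inl φ).v (i₀ + 1 + 1) (i₀ + 1) (by omega) ≫ c.f (i₀ + 1) +
            x ≫ (ψ φ c).f (i₀ + 1) := by
        conv_lhs => rw [← comp_id v, ← mappingCone.id_X φ (i₀ + 1) (i₀ + 1 + 1) rfl]
        simp [k, x, ψ]
      simp only [Preadditive.add_comp, assoc, π_snd, e, Preadditive.comp_sub, Preadditive.comp_neg,
        mappingCocone.inl_v_fst_f_assoc, mappingCocone.inr_v_fst_f_assoc,
        mappingCocone.inl_v_snd_v_assoc, mappingCocone.inr_v_snd_v_assoc, zero_comp, comp_zero,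
        Preadditive.neg_comp]
      simp only [b, assoc] at hb'
      rw [hb', hv]
      abel
  exact isIso_of_mono_of_epi _

end Step

theorem exists_step (I : ObjectProperty A) [I.IsClosedUnderIsomorphisms]
    (hI0 : ∃ Z : A, IsZero Z ∧ I Z) (hIprod : ∀ X Y : A, I X → I Y → I (X ⊞ Y))
    (hI : ∀ X : A, ∃ (Y : A) (ι : X ⟶ Y), I Y ∧ Mono ι)
    {K L : CochainComplex A ℤ} (φ : K ⟶ L) (hL : ∀ i, I (L.X i))
    (hKa : ∃ a, K.IsStrictlyGE a) (hLa : ∃ a, L.IsStrictlyGE a) :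
    ∃ (Q : CochainComplex A ℤ) (p : Q ⟶ L) (π : K ⟶ Q), π ≫ p = φ ∧
      (QuasiIso π ∧ ∀ i, Mono (π.f i)) ∧ (∃ a, Q.IsStrictlyGE a) ∧ (∀ i, I (Q.X i)) ∧
      ∀ i, (∃ s : L.X i ⟶ Q.X i, s ≫ p.f i = 𝟙 _) ∧ I (kernel (p.f i)) := by
  obtain ⟨a, ha⟩ := hKa
  obtain ⟨a', ha'⟩ := hLa
  let m := min (a - 1) a'
  haveI : (mappingCone φ).IsStrictlyGE m := (isStrictlyGE_iff _ _).2 fun i hi => by
    rw [IsZero.iff_id_eq_zero, ← mappingCone.id_X φ i (i + 1) rfl,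
      (K.isZero_of_isStrictlyGE a (i + 1) (by omega)).eq_of_tgt
        ((mappingCone.fst φ).1.v i (i + 1) rfl) 0,
      (L.isZero_of_isStrictlyGE a' i (by omega)).eq_of_tgt
        ((mappingCone.snd φ).v i i (add_zero i)) 0, zero_comp, zero_comp, add_zero]
  obtain ⟨J, c, hJ, hJI, hc, hcq⟩ :=
    TriCat.exists_quasiIso_resolution I hI0 hI (mappingCone φ) m
  haveI := hcq
  have hker : ∀ i, Nonempty (J.X (i - 1) ≅ kernel ((mappingCocone.fst (ψ φ c)).f i)) := fun i => by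
    refine ⟨IsLimit.conePointUniqueUpToIso
      (KernelFork.IsLimit.ofι ((mappingCocone.inr (ψ φ c)).1.v (i - 1) i (by omega))
        (mappingCocone.inr_v_fst_f _ _ _ _)
        (fun x _ => x ≫ (mappingCocone.snd (ψ φ c)).v i (i - 1) (by omega))
        (fun x hx => ?_) (fun x hx l hl => ?_)) (limit.isLimit _)⟩
    · apply Q_ext φ c i (i - 1) (by omega) <;> simp [hx]
    · rw [← hl]; simp
  refine ⟨Q φ c, mappingCocone.fst (ψ φ c), π φ c, π_fst φ c,
    ⟨quasiIso_π φ c, mono_π φ c hc⟩, ⟨min a' (m + 1), ?_⟩, fun i => ?_, fun i => ⟨?_, ?_⟩⟩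
  · refine (isStrictlyGE_iff _ _).2 fun i hi => ?_
    rw [IsZero.iff_id_eq_zero]
    apply Q_ext φ c i (i - 1) (by omega)
    · exact (L.isZero_of_isStrictlyGE a' i (by omega)).eq_of_tgt _ _
    · exact (J.isZero_of_isStrictlyGE m (i - 1) (by omega)).eq_of_tgt _ _
  · refine I.prop_of_iso ?_ (hIprod _ _ (hL i) (hJI (i - 1)))
    exact
      { hom := biprod.desc ((mappingCocone.inl (ψ φ c)).v i i (add_zero i))
          ((mappingCocone.inr (ψ φ c)).1.v (i - 1) i (by omega))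
        inv := biprod.lift ((mappingCocone.fst (ψ φ c)).f i)
          ((mappingCocone.snd (ψ φ c)).v i (i - 1) (by omega))
        hom_inv_id := by apply biprod.hom_ext' <;> apply biprod.hom_ext <;> simp
        inv_hom_id := by rw [biprod.lift_desc]; exact mappingCocone.id_X _ i (i - 1) (by omega) }
  · exact ⟨(mappingCocone.inl (ψ φ c)).v i i (add_zero i), mappingCocone.inl_v_fst_f _ _⟩
  · exact I.prop_of_iso (hker i).some (hJI _)

theorem exists_system (I : ObjectProperty A) [I.IsClosedUnderIsomorphisms]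
    (hI0 : ∃ Z : A, IsZero Z ∧ I Z) (hIprod : ∀ X Y : A, I X → I Y → I (X ⊞ Y))
    (hI : ∀ X : A, ∃ (Y : A) (ι : X ⟶ Y), I Y ∧ Mono ι) (K : CochainComplex A ℤ) :
    ∃ (Q : ℕ → CochainComplex A ℤ) (p : ∀ n, Q (n + 1) ⟶ Q n) (π : ∀ n : ℕ, K.truncGE (-(n : ℤ)) ⟶ Q n),
      (∀ n, QuasiIso (π n) ∧ ∀ i, Mono ((π n).f i)) ∧
      (∀ n, ∃ a : ℤ, (Q n).IsStrictlyGE a) ∧ (∀ n i, I ((Q n).X i)) ∧
      (∀ n i, (∃ s : (Q n).X i ⟶ (Q (n + 1)).X i, s ≫ (p n).f i = 𝟙 _) ∧ I (kernel ((p n).f i))) ∧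
      (∀ n : ℕ, K.πTruncGE (-((n + 1 : ℕ) : ℤ)) ≫ π (n + 1) ≫ p n = K.πTruncGE (-(n : ℤ)) ≫ π n) := by
  let S : ℕ → Type (max u v) := fun n => { x : Σ Q : CochainComplex A ℤ, K.truncGE (-(n : ℤ)) ⟶ Q //
    (QuasiIso x.2 ∧ ∀ i, Mono (x.2.f i)) ∧ (∃ a : ℤ, x.1.IsStrictlyGE a) ∧ ∀ i, I (x.1.X i) }
  obtain ⟨s₀⟩ : Nonempty (S 0) := by
    obtain ⟨Q, α, hQ, hQI, hm, hq⟩ :=
      TriCat.exists_quasiIso_resolution I hI0 hI (K.truncGE (-((0 : ℕ) : ℤ))) (-((0 : ℕ) : ℤ))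
    exact ⟨⟨⟨Q, α⟩, ⟨hq, hm⟩, ⟨_, hQ⟩, hQI⟩⟩
  have step : ∀ (n : ℕ) (s : S n), ∃ (s' : S (n + 1)) (p : s'.1.1 ⟶ s.1.1),
      (∀ i, (∃ r : s.1.1.X i ⟶ s'.1.1.X i, r ≫ p.f i = 𝟙 _) ∧ I (kernel (p.f i))) ∧
      K.πTruncGE (-((n + 1 : ℕ) : ℤ)) ≫ s'.1.2 ≫ p = K.πTruncGE (-(n : ℤ)) ≫ s.1.2 := by
    intro n s
    obtain ⟨t, ht⟩ := exists_trunc_trans K (-((n + 1 : ℕ) : ℤ)) (-(n : ℤ)) (by omega)
    obtain ⟨Q, p, π, hπp, hq, hQ, hQI, hp⟩ := exists_step I hI0 hIprod hI (t ≫ s.1.2) s.2.2.2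
      ⟨-((n + 1 : ℕ) : ℤ), inferInstance⟩ s.2.2.1
    exact ⟨⟨⟨Q, π⟩, hq, hQ, hQI⟩, p, hp, by rw [hπp, reassoc_of% ht]⟩
  choose next p hp hcomm using step
  let s : ∀ n, S n := fun n => Nat.rec s₀ next n
  exact ⟨fun n => (s n).1.1, fun n => p n (s n), fun n => (s n).1.2, fun n => (s n).2.1,
    fun n => (s n).2.2.1, fun n => (s n).2.2.2, fun n => hp n (s n), fun n => hcomm n (s n)⟩

end Groth.Agent.DSites.SpecialSystem
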