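import Groth.Agent.DSites.SpecialSystem
import Groth.Agent.TriCat.ResolveOp
import Mathlib.Algebra.Homology.CochainComplexOpposite

/-!
# Special direct systems of left resolutions of the truncations of a complex
-/

set_option autoImplicit false
set_option maxHeartbeats 1000000
set_option linter.style.haveILetI false

universe v u

open CategoryTheory CategoryTheory.Limits CategoryTheory.Category CochainComplex Opposite

namespace Groth.Agent.DSites.SpecialSystem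

variable {A : Type u} [Category.{v} A] [Abelian A]

lemma isIso_ιTruncLE_f (K : CochainComplex A ℤ) (n i : ℤ) (h : i < n) :
    IsIso ((K.ιTruncLE n).f i) := by
  obtain ⟨k, hk⟩ : ∃ k : ℕ, (ComplexShape.embeddingUpIntLE n).f k = i :=
    ⟨(n - i).toNat, by simp; omega⟩
  show IsIso ((HomologicalComplex.πTruncGE K.op (ComplexShape.embeddingUpIntLE n).op).f i).unop
  refine (isIso_unop_iff _).2 ?_
  dsimp [HomologicalComplex.πTruncGE]
  refine ((ComplexShape.embeddingUpIntLE n).op.isIso_liftExtend_f_iff _ _ hk).2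
    (K.op.isIso_restrictionToTruncGE' _ k ?_)
  rw [ComplexShape.Embedding.op_boundaryGE_iff, ComplexShape.boundaryLE_embeddingUpIntLE_iff]
  simp only [ComplexShape.embeddingUpIntLE_f] at hk
  omega

/-- The transition maps between truncations. -/
lemma exists_truncLE_trans (K : CochainComplex A ℤ) (m m' : ℤ) (h : m < m') :
    ∃ t : K.truncLE m ⟶ K.truncLE m', t ≫ K.ιTruncLE m' = K.ιTruncLE m := by
  haveI : Mono (K.ιTruncLE m') :=
    inferInstanceAs (Mono (HomologicalComplex.ιTruncLE K (ComplexShape.embeddingUpIntLE m')))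
  have hz : K.ιTruncLE m ≫ cokernel.π (K.ιTruncLE m') = 0 := by
    ext i
    by_cases hi : m < i
    · exact ((K.truncLE m).isZero_of_isStrictlyLE m i hi).eq_of_src _ _
    · haveI := isIso_ιTruncLE_f K m' i (by omega)
      have e : (K.ιTruncLE m').f i ≫ (cokernel.π (K.ιTruncLE m')).f i = 0 := by
        rw [← HomologicalComplex.comp_f, cokernel.condition, HomologicalComplex.zero_f]
      rw [HomologicalComplex.comp_f, zero_of_epi_comp _ e, comp_zero, HomologicalComplex.zero_f]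
  obtain ⟨t, ht⟩ := KernelFork.IsLimit.lift'
    (Abelian.monoIsKernelOfCokernel _ (cokernelIsCokernel (K.ιTruncLE m'))) _ hz
  exact ⟨t, ht⟩

theorem exists_step_left (P : ObjectProperty A) [P.IsClosedUnderIsomorphisms]
    (hP0 : ∃ Z : A, IsZero Z ∧ P Z) (hPsum : ∀ X Y : A, P X → P Y → P (X ⊞ Y))
    (hP : ∀ X : A, ∃ (Y : A) (π : Y ⟶ X), P Y ∧ Epi π)
    {K L : CochainComplex A ℤ} (φ : L ⟶ K) (hL : ∀ i, P (L.X i))
    (hKa : ∃ a, K.IsStrictlyLE a) (hLa : ∃ a, L.IsStrictlyLE a) :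
    ∃ (Q : CochainComplex A ℤ) (ι : L ⟶ Q) (π : Q ⟶ K), ι ≫ π = φ ∧
      (QuasiIso π ∧ ∀ i, Epi (π.f i)) ∧ (∃ b, Q.IsStrictlyLE b) ∧ (∀ i, P (Q.X i)) ∧
      ∀ i, (∃ r : Q.X i ⟶ L.X i, ι.f i ≫ r = 𝟙 _) ∧ P (cokernel (ι.f i)) := by
  obtain ⟨a, ha⟩ := hKa
  obtain ⟨a', ha'⟩ := hLa
  let I : ObjectProperty Aᵒᵖ := fun X => P X.unop
  haveI : I.IsClosedUnderIsomorphisms := ⟨fun e h => P.prop_of_iso e.unop.symm h⟩
  obtain ⟨Z, hZ, hPZ⟩ := hP0
  let E := CochainComplex.opEquivalence A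
  obtain ⟨Q', p', π', hπp, ⟨hq, hm⟩, ⟨b, hQ'⟩, hQI, hp⟩ := exists_step I ⟨op Z, hZ.op, hPZ⟩
    (fun X Y hX hY => by
      let e : op (X.unop ⊞ Y.unop) ≅ X ⊞ Y :=
        { hom := biprod.lift (biprod.inl : X.unop ⟶ X.unop ⊞ Y.unop).op
            (biprod.inr : Y.unop ⟶ X.unop ⊞ Y.unop).op
          inv := biprod.desc (biprod.fst : X.unop ⊞ Y.unop ⟶ X.unop).op
            (biprod.snd : X.unop ⊞ Y.unop ⟶ Y.unop).op
          hom_inv_id := Quiver.Hom.unop_inj (by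
            rw [biprod.lift_desc]
            simp [unop_add, biprod.total])
          inv_hom_id := by
            apply biprod.hom_ext' <;> apply biprod.hom_ext <;> simp [← op_comp] }
      exact I.prop_of_iso e (hPsum _ _ hX hY))
    (fun X => by
      obtain ⟨Y, π, hY, hπ⟩ := hP X.unop
      exact ⟨op Y, π.op, hY, inferInstance⟩)
    (K := E.functor.obj (op K)) (L := E.functor.obj (op L)) (E.functor.map φ.op)
    (fun i => hL (-i))
    ⟨-a, (CochainComplex.isStrictlyGE_iff _ _).2 fun i hi =>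
      (K.isZero_of_isStrictlyLE a (-i) (by omega)).op⟩
    ⟨-a', (CochainComplex.isStrictlyGE_iff _ _).2 fun i hi =>
      (L.isZero_of_isStrictlyLE a' (-i) (by omega)).op⟩
  let Q := (E.inverse.obj Q').unop
  let e : E.functor.obj (op Q) ≅ Q' := E.counitIso.app Q'
  obtain ⟨π₀, hπ₀⟩ := E.functor.map_surjective (π' ≫ e.inv)
  obtain ⟨p₀, hp₀⟩ := E.functor.map_surjective (e.hom ≫ p')
  let π : Q ⟶ K := π₀.unop
  let ι : L ⟶ Q := p₀.unop
  have hπ₁ : E.functor.map π.op = π' ≫ e.inv := hπ₀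
  have hι₁ : E.functor.map ι.op = e.hom ≫ p' := hp₀
  let ei : ∀ j, op (Q.X (-j)) ≅ Q'.X j := fun j =>
    (HomologicalComplex.eval Aᵒᵖ (ComplexShape.up ℤ) j).mapIso e
  refine ⟨Q, ι, π, ?_, ⟨?_, fun i => ?_⟩, ⟨-b, ?_⟩, fun i => ?_, fun i => ?_⟩
  · apply Quiver.Hom.op_inj
    apply E.functor.map_injective
    rw [op_comp, Functor.map_comp, hπ₁, hι₁, assoc, e.inv_hom_id_assoc, hπp]
  · rw [← TriCat.quasiIso_op_iff, hπ₁]
    infer_instance
  · obtain ⟨j, rfl⟩ : ∃ j, i = -j := ⟨-i, by omega⟩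
    haveI := hm j
    have h : (π.f (-j)).op = π'.f j ≫ (ei j).inv :=
      congrArg (fun f => f.f j) hπ₁
    haveI : Mono (π.f (-j)).op := by rw [h]; exact mono_comp' (hm j) inferInstance
    exact unop_epi_of_mono (π.f (-j)).op
  · refine (CochainComplex.isStrictlyLE_iff _ _).2 fun i hi => ?_
    obtain ⟨j, rfl⟩ : ∃ j, i = -j := ⟨-i, by omega⟩
    exact ((Q'.isZero_of_isStrictlyGE b j (by omega)).of_iso (ei j)).unop
  · obtain ⟨j, rfl⟩ : ∃ j, i = -j := ⟨-i, by omega⟩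
    exact I.prop_of_iso (ei j).symm (hQI j)
  · obtain ⟨j, rfl⟩ : ∃ j, i = -j := ⟨-i, by omega⟩
    obtain ⟨⟨t, ht⟩, hker⟩ := hp j
    let p'' : Q'.X j ⟶ op (L.X (-j)) := p'.f j
    let t' : op (L.X (-j)) ⟶ Q'.X j := t
    have h : (ι.f (-j)).op = (ei j).hom ≫ p'' := congrArg (fun f => f.f j) hι₁
    have ht' : t' ≫ p'' = 𝟙 _ := ht
    refine ⟨⟨(t' ≫ (ei j).inv).unop, ?_⟩, ?_⟩
    · apply Quiver.Hom.op_inj
      rw [op_comp, Quiver.Hom.op_unop, h, assoc, (ei j).inv_hom_id_assoc, ht', op_id]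
    · refine I.prop_of_iso (?_ : kernel p'' ≅ op (cokernel (ι.f (-j)))) hker
      refine ?_ ≪≫ kernelOpOp (ι.f (-j))
      exact kernel.mapIso p'' (ι.f (-j)).op (ei j).symm (Iso.refl _) (by simp [h])

theorem exists_left_system (P : ObjectProperty A) [P.IsClosedUnderIsomorphisms]
    (hP0 : ∃ Z : A, IsZero Z ∧ P Z) (hPsum : ∀ X Y : A, P X → P Y → P (X ⊞ Y))
    (hP : ∀ X : A, ∃ (Y : A) (π : Y ⟶ X), P Y ∧ Epi π) (K : CochainComplex A ℤ) :
    ∃ (Q : ℕ → CochainComplex A ℤ) (ι : ∀ n, Q n ⟶ Q (n + 1)) (π : ∀ n : ℕ, Q n ⟶ K.truncLE (n : ℤ)),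
      (∀ n, QuasiIso (π n) ∧ ∀ i, Epi ((π n).f i)) ∧
      (∀ n, ∃ b : ℤ, (Q n).IsStrictlyLE b) ∧ (∀ n i, P ((Q n).X i)) ∧
      (∀ n i, (∃ r : (Q (n + 1)).X i ⟶ (Q n).X i, (ι n).f i ≫ r = 𝟙 _) ∧ P (cokernel ((ι n).f i))) ∧
      (∀ n : ℕ, π n ≫ K.ιTruncLE (n : ℤ) = ι n ≫ π (n + 1) ≫ K.ιTruncLE ((n + 1 : ℕ) : ℤ)) := by
  let S : ℕ → Type (max u v) := fun n => { x : Σ Q : CochainComplex A ℤ, Q ⟶ K.truncLE (n : ℤ) //
    (QuasiIso x.2 ∧ ∀ i, Epi (x.2.f i)) ∧ (∃ b : ℤ, x.1.IsStrictlyLE b) ∧ ∀ i, P (x.1.X i) }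
  obtain ⟨s₀⟩ : Nonempty (S 0) := by
    obtain ⟨Q, α, hQ, hQP, he, hq⟩ := TriCat.exists_quasiIso_left_resolution P hP0 hP
      (K.truncLE ((0 : ℕ) : ℤ)) ((0 : ℕ) : ℤ)
    exact ⟨⟨⟨Q, α⟩, ⟨hq, he⟩, ⟨_, hQ⟩, hQP⟩⟩
  have step : ∀ (n : ℕ) (s : S n), ∃ (s' : S (n + 1)) (ι : s.1.1 ⟶ s'.1.1),
      (∀ i, (∃ r : s'.1.1.X i ⟶ s.1.1.X i, ι.f i ≫ r = 𝟙 _) ∧ P (cokernel (ι.f i))) ∧
      s.1.2 ≫ K.ιTruncLE (n : ℤ) = ι ≫ s'.1.2 ≫ K.ιTruncLE ((n + 1 : ℕ) : ℤ) := by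
    intro n s
    obtain ⟨t, ht⟩ := exists_truncLE_trans K (n : ℤ) ((n + 1 : ℕ) : ℤ) (by omega)
    obtain ⟨Q, ι, π, hπι, hq, hQ, hQP, hι⟩ := exists_step_left P hP0 hPsum hP (s.1.2 ≫ t) s.2.2.2
      ⟨((n + 1 : ℕ) : ℤ), inferInstance⟩ s.2.2.1
    exact ⟨⟨⟨Q, π⟩, hq, hQ, hQP⟩, ι, hι, by rw [reassoc_of% hπι, ht]⟩
  choose next ι hι hcomm using step
  let s : ∀ n, S n := fun n => Nat.rec s₀ next n
  exact ⟨fun n => (s n).1.1, fun n => ι n (s n), fun n => (s n).1.2, fun n => (s n).2.1,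
    fun n => (s n).2.2.1, fun n => (s n).2.2.2, fun n => hι n (s n), fun n => hcomm n (s n)⟩

end Groth.Agent.DSites.SpecialSystem
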