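import Mathlib.CategoryTheory.Abelian.Injective.Resolution
import Mathlib.Algebra.Homology.HomologicalComplexBiprod
import Mathlib.Algebra.Homology.Additive
import Mathlib.CategoryTheory.Abelian.Refinements
import Mathlib.Algebra.Homology.Refinements

/-!
# Injective resolutions lying degreewise split over a given one
-/

set_option autoImplicit false

universe v u

open CategoryTheory CategoryTheory.Limits CategoryTheory.Category
open scoped ZeroObject

noncomputable section

namespace Groth.Agent.DSites.SplitRes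

variable {C : Type u} [Category.{v} C] [Abelian C]

lemma isIso_homologyMap_biprod_inl {ι : Type*} {c : ComplexShape ι}
    (J D : HomologicalComplex C c) (i : ι) (hD : IsZero (D.homology i)) :
    IsIso (HomologicalComplex.homologyMap (biprod.inl : J ⟶ J ⊞ D) i) := by
  refine ⟨HomologicalComplex.homologyMap biprod.fst i, ?_, ?_⟩
  · rw [← HomologicalComplex.homologyMap_comp, biprod.inl_fst, HomologicalComplex.homologyMap_id]
  · have h : (biprod.fst : J ⊞ D ⟶ J) ≫ biprod.inl = 𝟙 _ - biprod.snd ≫ biprod.inr :=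
      eq_sub_of_add_eq biprod.total
    rw [← HomologicalComplex.homologyMap_comp, h, HomologicalComplex.homologyMap_sub,
      HomologicalComplex.homologyMap_id, HomologicalComplex.homologyMap_comp,
      hD.eq_of_src (HomologicalComplex.homologyMap biprod.inr i) 0, comp_zero, sub_zero]

/-- Splitting off the target of a map with a section. -/
lemma exists_iso_biprod {X Y : C} (g : X ⟶ Y) (s : Y ⟶ X) (hs : s ≫ g = 𝟙 Y) :
    ∃ (K : C) (e : X ≅ Y ⊞ K), g = e.hom ≫ biprod.fst := by
  let k : X ⟶ kernel g := kernel.lift g (𝟙 X - g ≫ s) (by simp [hs])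
  have hk : kernel.ι g ≫ k = 𝟙 _ := by
    rw [← cancel_mono (kernel.ι g), assoc, kernel.lift_ι, Preadditive.comp_sub, comp_id,
      kernel.condition_assoc, zero_comp, sub_zero, id_comp]
  have hsk : s ≫ k = 0 := by
    rw [← cancel_mono (kernel.ι g), assoc, kernel.lift_ι, Preadditive.comp_sub, comp_id,
      reassoc_of% hs, sub_self, zero_comp]
  refine ⟨kernel g, ⟨biprod.lift g k, biprod.desc s (kernel.ι g), ?_, ?_⟩, (biprod.lift_fst _ _).symm⟩
  · rw [biprod.lift_desc, kernel.lift_ι, add_sub_cancel]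
  · refine biprod.hom_ext' _ _ ?_ ?_
    · refine biprod.hom_ext _ _ ?_ ?_ <;> simp [hs, hsk]
    · refine biprod.hom_ext _ _ ?_ ?_ <;> simp [hk]

variable (K : CochainComplex C ℕ)

/-- The term in the preceding degree. -/
def prev : ℕ → C
  | 0 => 0
  | p + 1 => K.X p

/-- The differential from the preceding degree. -/
def dPrev : ∀ p, prev K p ⟶ K.X p
  | 0 => 0
  | p + 1 => K.d p (p + 1)

/-- The differential of the contractible complex. -/
def dDisk (p : ℕ) : K.X p ⊞ prev K p ⟶ K.X (p + 1) ⊞ prev K (p + 1) :=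
  (biprod.fst : K.X p ⊞ prev K p ⟶ K.X p) ≫ (biprod.inr : prev K (p + 1) ⟶ _)

lemma dPrev_d : ∀ p, dPrev K p ≫ K.d p (p + 1) = 0
  | 0 => zero_comp
  | p + 1 => K.d_comp_d _ _ _

/-- A contractible complex mapping split surjectively onto `K`. -/
def disk : CochainComplex C ℕ :=
  CochainComplex.of (fun p => K.X p ⊞ prev K p) (dDisk K) fun p => by
    exact (assoc _ _ _).trans
      ((congrArg (_ ≫ ·) ((biprod.inr_fst_assoc _).trans zero_comp)).trans comp_zero)

lemma disk_d (p : ℕ) : (disk K).d p (p + 1) = dDisk K p := by simp [disk]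

/-- The projection. -/
def diskπ : disk K ⟶ K where
  f p := biprod.desc (𝟙 _) (dPrev K p)
  comm' p q hpq := by
    obtain rfl : p + 1 = q := hpq
    refine Eq.trans ?_ (congrArg (· ≫ _) (disk_d K p)).symm
    show _ = ((biprod.fst : K.X p ⊞ prev K p ⟶ K.X p) ≫
      (biprod.inr : prev K (p + 1) ⟶ K.X (p + 1) ⊞ prev K (p + 1))) ≫ biprod.desc _ _
    refine Eq.trans (b := (biprod.fst : K.X p ⊞ prev K p ⟶ K.X p) ≫ K.d p (p + 1)) ?_ ?_
    · show biprod.desc (𝟙 (K.X p)) (dPrev K p) ≫ K.d p (p + 1) = _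
      apply biprod.hom_ext' <;> simp [dPrev_d]
    · exact ((assoc _ _ _).trans (congrArg (_ ≫ ·) (biprod.inr_desc _ _))).symm

lemma disk_exactAt : ∀ p, (disk K).ExactAt p := by
  intro p
  cases p with
  | zero =>
    rw [HomologicalComplex.exactAt_iff' (disk K) 0 0 1 (by simp) (by simp),
      ShortComplex.exact_iff_exact_up_to_refinements]
    intro T x hx
    change T ⟶ K.X 0 ⊞ prev K 0 at x
    refine ⟨T, 𝟙 T, inferInstance, 0, ?_⟩
    have h₁ : x ≫ biprod.fst = 0 := by
      refine (cancel_mono (biprod.inr : prev K 1 ⟶ K.X 1 ⊞ prev K 1)).1 ?_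
      refine Eq.trans ?_ zero_comp.symm
      exact (assoc _ _ _).trans ((congrArg (x ≫ ·) (disk_d K 0)).symm.trans hx)
    refine (id_comp x).trans (Eq.trans ?_ zero_comp.symm)
    exact biprod.hom_ext _ _ (h₁.trans zero_comp.symm)
      (IsZero.eq_of_tgt (isZero_zero C : IsZero (prev K 0)) _ _)
  | succ p =>
    rw [HomologicalComplex.exactAt_iff' (disk K) p (p + 1) (p + 1 + 1) (by simp) (by simp),
      ShortComplex.exact_iff_exact_up_to_refinements]
    intro T x hx
    change T ⟶ K.X (p + 1) ⊞ prev K (p + 1) at x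
    have h₁ : x ≫ biprod.fst = 0 := by
      refine (cancel_mono
        (biprod.inr : prev K (p + 1 + 1) ⟶ K.X (p + 1 + 1) ⊞ prev K (p + 1 + 1))).1 ?_
      refine Eq.trans ?_ zero_comp.symm
      exact (assoc _ _ _).trans ((congrArg (x ≫ ·) (disk_d K (p + 1))).symm.trans hx)
    refine ⟨T, 𝟙 T, inferInstance, biprod.lift (x ≫ biprod.snd : T ⟶ K.X p) 0, ?_⟩
    refine (id_comp x).trans (Eq.trans ?_ (congrArg (_ ≫ ·) (disk_d K p)).symm)
    show x = biprod.lift (x ≫ biprod.snd : T ⟶ K.X p) 0 ≫ biprod.fst ≫ biprod.inr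
    rw [biprod.lift_fst_assoc]
    refine biprod.hom_ext _ _ ?_ ?_
    · exact h₁.trans (((assoc _ _ _).trans
        ((congrArg (_ ≫ ·) biprod.inr_fst).trans comp_zero)).symm)
    · exact (((assoc _ _ _).trans ((congrArg (_ ≫ ·) biprod.inr_snd).trans (comp_id _))).symm)

variable [EnoughInjectives C]

theorem exists_resolution_over {G F : C} (α : G ⟶ F) (I : InjectiveResolution F) :
    ∃ (J : InjectiveResolution G) (β : J.cocomplex ⟶ I.cocomplex),
      J.ι ≫ β = (CochainComplex.single₀ C).map α ≫ I.ι ∧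
      ∀ p : ℕ, ∃ (K : C) (e : J.cocomplex.X p ≅ I.cocomplex.X p ⊞ K),
        β.f p = e.hom ≫ biprod.fst := by
  obtain ⟨R⟩ : Nonempty (InjectiveResolution G) := ⟨injectiveResolution G⟩
  let D := disk I.cocomplex
  haveI : QuasiIso (biprod.inl : R.cocomplex ⟶ R.cocomplex ⊞ D) := ⟨fun n =>
    (quasiIsoAt_iff_isIso_homologyMap _ n).2
      (isIso_homologyMap_biprod_inl _ _ n (disk_exactAt I.cocomplex n).isZero_homology)⟩
  have hinj : ∀ n, Injective ((R.cocomplex ⊞ D).X n) := fun n => by
    haveI : ∀ m, Injective (prev I.cocomplex m) := fun m => by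
      cases m with
      | zero => exact IsZero.injective (X := prev I.cocomplex 0) (isZero_zero C)
      | succ m => exact I.injective m
    haveI : Injective (D.X n) := by
      change Injective (I.cocomplex.X n ⊞ prev I.cocomplex n)
      infer_instance
    exact Injective.of_iso (HomologicalComplex.biprodXIso R.cocomplex D n).symm inferInstance
  refine ⟨{ cocomplex := R.cocomplex ⊞ D, ι := R.ι ≫ biprod.inl, injective := hinj },
    biprod.desc (InjectiveResolution.desc α I R) (diskπ I.cocomplex), ?_, fun p => ?_⟩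
  · rw [assoc, biprod.inl_desc, InjectiveResolution.desc_commutes]
  · refine exists_iso_biprod _
      ((biprod.inl : I.cocomplex.X p ⟶ D.X p) ≫ (biprod.inr : D ⟶ R.cocomplex ⊞ D).f p) ?_
    exact (assoc _ _ _).trans ((congrArg (fun z => (biprod.inl : I.cocomplex.X p ⟶ D.X p) ≫ z)
      ((HomologicalComplex.comp_f _ _ p).symm.trans
      (congrArg (fun z => HomologicalComplex.Hom.f z p) (biprod.inr_desc _ _)))).trans
      (biprod.inl_desc _ _))

end Groth.Agent.DSites.SplitRes
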