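import Mathlib.Algebra.Homology.TotalComplex
import Mathlib.Algebra.Homology.QuasiIso
import Mathlib.Algebra.Homology.Refinements
import Mathlib.Algebra.Homology.HomologicalComplexLimits
import Mathlib.Algebra.Homology.HomologicalComplexAbelian
import Mathlib.Order.Interval.Finset.Basic
import Mathlib.Data.Int.Interval

/-!
# The total complex functor preserves quasi-isomorphisms of bounded below double complexes
-/

set_option autoImplicit false
set_option maxHeartbeats 1000000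

universe v u

open CategoryTheory CategoryTheory.Limits CategoryTheory.Category

namespace Groth.Agent.DSites.TotQIso

variable {A : Type u} [Category.{v} A] [Abelian A]

local notation "cZ" => ComplexShape.up ℤ

section
variable (K : HomologicalComplex₂ A cZ cZ) [K.HasTotal cZ]

/-- The projection of the total complex on a summand. -/
noncomputable def proj (p q n : ℤ) (h : p + q = n) : (K.total cZ).X n ⟶ (K.X p).X q :=
  K.totalDesc (fun p' q' h' =>
    if hq : q' = q then (K.XXIsoOfEq A cZ cZ (show p' = p by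
      change p' + q' = n at h'; omega) hq).hom else 0)

lemma ι_proj (p q n : ℤ) (h : p + q = n) :
    K.ιTotal cZ p q n h ≫ proj K p q n h = 𝟙 _ := by
  simp [proj]

lemma ι_proj_ne (p q n p' q' : ℤ) (h : p + q = n) (h' : p' + q' = n) (hne : q' ≠ q) :
    K.ιTotal cZ p' q' n h' ≫ proj K p q n h = 0 := by
  simp [proj, hne]

variable (a b : ℤ) (hK : ∀ p q : ℤ, p < a ∨ q < b → IsZero ((K.X p).X q))

include hK in
lemma eq_zero_of_proj {T : A} (n : ℤ) (x : T ⟶ (K.total cZ).X n)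
    (hx : ∀ p q (h : p + q = n), x ≫ proj K p q n h = 0) : x = 0 := by
  have e : 𝟙 ((K.total cZ).X n) = ∑ q ∈ Finset.Icc b (n - a),
      proj K (n - q) q n (by omega) ≫ K.ιTotal cZ (n - q) q n (by change n - q + q = n; omega) := by
    apply HomologicalComplex₂.total.hom_ext
    intro p' q' h'
    change p' + q' = n at h'
    rw [Preadditive.comp_sum, comp_id]
    by_cases hq : q' ∈ Finset.Icc b (n - a)
    · rw [Finset.sum_eq_single q']
      · obtain rfl : p' = n - q' := by omega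
        rw [← assoc, ι_proj, id_comp]
      · intro q _ hne
        rw [← assoc, ι_proj_ne K _ _ _ _ _ _ _ (Ne.symm hne), zero_comp]
      · exact fun h => absurd hq h
    · exact (hK p' q' (by rw [Finset.mem_Icc] at hq; omega)).eq_of_src _ _
  calc x = x ≫ 𝟙 _ := (comp_id x).symm
    _ = 0 := by
      rw [e, Preadditive.comp_sum]
      exact Finset.sum_eq_zero fun q _ => by rw [← assoc, hx, zero_comp]

lemma d_proj (p q q₀ n : ℤ) (h : p + q = n) (h₀ : q₀ + 1 = q) :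
    (K.total cZ).d n (n + 1) ≫ proj K (p + 1) q (n + 1) (by omega) =
      proj K p q n h ≫ (K.d p (p + 1)).f q +
        (p + 1).negOnePow • (proj K (p + 1) q₀ n (by omega) ≫ (K.X (p + 1)).d q₀ q) := by
  apply HomologicalComplex₂.total.hom_ext
  intro p' q' h'
  change p' + q' = n at h'
  rw [HomologicalComplex₂.total_d, Preadditive.add_comp, Preadditive.comp_add,
    Preadditive.comp_add, HomologicalComplex₂.ι_D₁_assoc, HomologicalComplex₂.ι_D₂_assoc,
    K.d₁_eq cZ (show (cZ).Rel p' (p' + 1) by rfl) q' (n + 1) (by change p' + 1 + q' = n + 1; omega),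
    K.d₂_eq cZ p' (show (cZ).Rel q' (q' + 1) by rfl) (n + 1)
      (by change p' + (q' + 1) = n + 1; omega)]
  simp only [ComplexShape.ε₁_def, ComplexShape.ε₂_def, one_smul,
    Linear.units_smul_comp, Linear.comp_units_smul, assoc]
  by_cases e₁ : q' = q
  · subst e₁
    obtain rfl : p = p' := by omega
    rw [ι_proj, ι_proj_ne K _ _ _ _ _ _ _ (by omega), ← assoc, ι_proj, ← assoc,
      ι_proj_ne K _ _ _ _ _ _ _ (by omega)]
    simp
  · by_cases e₂ : q' = q₀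
    · subst e₂ h₀
      obtain rfl : p' = p + 1 := by omega
      rw [ι_proj, ι_proj_ne K _ _ _ _ _ _ _ (by omega), ← assoc, ι_proj_ne K _ _ _ _ _ _ _ (by omega),
        ← assoc, ι_proj]
      simp
    · rw [ι_proj_ne K _ _ _ _ _ _ _ e₁, ι_proj_ne K _ _ _ _ _ _ _ (by omega), ← assoc,
        ι_proj_ne K _ _ _ _ _ _ _ e₁, ← assoc, ι_proj_ne K _ _ _ _ _ _ _ e₂]
      simp

lemma comp_d_proj {T : A} (p q n : ℤ) (h : p + q = n) (x : T ⟶ (K.total cZ).X n)
    (hx : ∀ p' q' (h' : p' + q' = n), q' < q → x ≫ proj K p' q' n h' = 0) :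
    x ≫ (K.total cZ).d n (n + 1) ≫ proj K (p + 1) q (n + 1) (by omega) =
      x ≫ proj K p q n h ≫ (K.d p (p + 1)).f q := by
  rw [d_proj K p q (q - 1) n h (by omega), Preadditive.comp_add, Linear.comp_units_smul,
    ← assoc x (proj K (p + 1) (q - 1) n (by omega)), hx _ _ _ (by omega), zero_comp, smul_zero,
    add_zero]

end

section
variable {K L : HomologicalComplex₂ A cZ cZ} [K.HasTotal cZ] [L.HasTotal cZ] (φ : K ⟶ L)

lemma map_proj (p q n : ℤ) (h : p + q = n) :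
    (HomologicalComplex₂.total.map φ cZ).f n ≫ proj L p q n h =
      proj K p q n h ≫ (φ.f p).f q := by
  apply HomologicalComplex₂.total.hom_ext
  intro p' q' h'
  change p' + q' = n at h'
  rw [HomologicalComplex₂.ιTotal_map_assoc]
  by_cases e : q' = q
  · subst e
    obtain rfl : p = p' := by omega
    rw [ι_proj, ← assoc, ι_proj, comp_id, id_comp]
  · rw [ι_proj_ne L _ _ _ _ _ _ _ e, ← assoc, ι_proj_ne K _ _ _ _ _ _ _ e, comp_zero, zero_comp]

omit [K.HasTotal cZ] [L.HasTotal cZ] in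
lemma column [QuasiIso φ] {T : A} (p₀ p q : ℤ) (hp : p₀ + 1 = p)
    (k : T ⟶ (K.X (p + 1)).X q) (x : T ⟶ (L.X p).X q)
    (hk : k ≫ (K.d (p + 1) (p + 1 + 1)).f q = 0)
    (hx : k ≫ (φ.f (p + 1)).f q + x ≫ (L.d p (p + 1)).f q = 0) :
    ∃ (T' : A) (π : T' ⟶ T) (_ : Epi π) (k' : T' ⟶ (K.X p).X q) (x' : T' ⟶ (L.X p₀).X q),
      π ≫ k = - (k' ≫ (K.d p (p + 1)).f q) ∧
      π ≫ x = k' ≫ (φ.f p).f q + x' ≫ (L.d p₀ p).f q := by
  let E := (HomologicalComplex.eval A cZ q).mapHomologicalComplex cZ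
  have : QuasiIso (E.map φ) := inferInstance
  obtain ⟨T₁, π₁, _, k₀, hk₀⟩ : ∃ (T₁ : A) (π₁ : T₁ ⟶ T) (_ : Epi π₁)
      (k₀ : T₁ ⟶ (K.X p).X q), π₁ ≫ k = k₀ ≫ (K.d p (p + 1)).f q :=
    (HomologicalComplex.mono_homologyMap_iff_up_to_refinements (E.map φ) p (p + 1) (p + 1 + 1)
      (by simp) (by simp)).1 inferInstance k hk (-x)
      (show k ≫ (φ.f (p + 1)).f q = (-x) ≫ (L.d p (p + 1)).f q by
        rw [Preadditive.neg_comp, eq_neg_iff_add_eq_zero]; exact hx)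
  have hz : (π₁ ≫ x + k₀ ≫ (φ.f p).f q) ≫ (L.d p (p + 1)).f q = 0 := by
    rw [Preadditive.add_comp, assoc, assoc, HomologicalComplex₂.comm_f, ← assoc k₀, ← hk₀, assoc,
      ← Preadditive.comp_add, add_comm (x ≫ _), hx, comp_zero]
  obtain ⟨T₂, π₂, _, k₁, hk₁, w, hw⟩ : ∃ (T₂ : A) (π₂ : T₂ ⟶ T₁) (_ : Epi π₂)
      (k₁ : T₂ ⟶ (K.X p).X q) (_ : k₁ ≫ (K.d p (p + 1)).f q = 0) (w : T₂ ⟶ (L.X p₀).X q),
      π₂ ≫ (π₁ ≫ x + k₀ ≫ (φ.f p).f q) = k₁ ≫ (φ.f p).f q + w ≫ (L.d p₀ p).f q :=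
    (HomologicalComplex.epi_homologyMap_iff_up_to_refinements (E.map φ) p₀ p (p + 1)
      (by simp; omega) (by simp)).1 inferInstance (π₁ ≫ x + k₀ ≫ (φ.f p).f q) hz
  refine ⟨T₂, π₂ ≫ π₁, inferInstance, k₁ - π₂ ≫ k₀, w, ?_, ?_⟩
  · rw [assoc, hk₀, Preadditive.sub_comp, hk₁, assoc, zero_sub, neg_neg]
  · rw [Preadditive.comp_add, ← eq_sub_iff_add_eq] at hw
    rw [assoc, hw, Preadditive.sub_comp, assoc]
    abel

variable (a b : ℤ) (hK : ∀ p q : ℤ, p < a ∨ q < b → IsZero ((K.X p).X q))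
  (hL : ∀ p q : ℤ, p < a ∨ q < b → IsZero ((L.X p).X q))

local notation "Φ" => HomologicalComplex₂.total.map φ cZ

include hK hL in
lemma cone_exact [QuasiIso φ] (n₀ n : ℤ) (hn : n₀ + 1 = n) (r : ℕ) : ∀ (m : ℤ) (_ : n - a + 2 - m ≤ r)
    {T : A} (k : T ⟶ (K.total cZ).X (n + 1)) (x : T ⟶ (L.total cZ).X n)
    (_ : k ≫ (K.total cZ).d (n + 1) (n + 1 + 1) = 0)
    (_ : k ≫ (Φ).f (n + 1) + x ≫ (L.total cZ).d n (n + 1) = 0)
    (_ : ∀ p q (h : p + q = n + 1), q < m → k ≫ proj K p q (n + 1) h = 0)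
    (_ : ∀ p q (h : p + q = n), q < m → x ≫ proj L p q n h = 0),
    ∃ (T' : A) (π : T' ⟶ T) (_ : Epi π) (k' : T' ⟶ (K.total cZ).X n)
      (x' : T' ⟶ (L.total cZ).X n₀),
      π ≫ k = - (k' ≫ (K.total cZ).d n (n + 1)) ∧
      π ≫ x = k' ≫ (Φ).f n + x' ≫ (L.total cZ).d n₀ n := by
  induction r with
  | zero =>
    intro m hm T k x hk hx hk0 hx0
    refine ⟨T, 𝟙 T, inferInstance, 0, 0, ?_, ?_⟩
    · rw [zero_comp, neg_zero, id_comp]
      refine eq_zero_of_proj K a b hK _ _ fun p q h => ?_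
      by_cases hq : q < m
      · exact hk0 p q h hq
      · exact (hK p q (Or.inl (by omega))).eq_of_tgt _ _
    · rw [zero_comp, zero_comp, add_zero, id_comp]
      refine eq_zero_of_proj L a b hL _ _ fun p q h => ?_
      by_cases hq : q < m
      · exact hx0 p q h hq
      · exact (hL p q (Or.inl (by omega))).eq_of_tgt _ _
  | succ r ih =>
    intro m hm T k x hk hx hk0 hx0
    obtain ⟨p, hp⟩ : ∃ p, p + m = n := ⟨n - m, by omega⟩
    obtain ⟨p₀, hp₀⟩ : ∃ p₀, p₀ + 1 = p := ⟨p - 1, by omega⟩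
    have c₁ : (k ≫ proj K (p + 1) m (n + 1) (by omega)) ≫ (K.d (p + 1) (p + 1 + 1)).f m = 0 := by
      rw [assoc, ← comp_d_proj K (p + 1) m (n + 1) (by omega) k hk0, ← assoc, hk, zero_comp]
    have c₂ : (k ≫ proj K (p + 1) m (n + 1) (by omega)) ≫ (φ.f (p + 1)).f m +
        (x ≫ proj L p m n hp) ≫ (L.d p (p + 1)).f m = 0 := by
      rw [assoc, assoc, ← map_proj φ (p + 1) m (n + 1) (by omega), ← comp_d_proj L p m n hp x hx0,
        ← assoc, ← assoc, ← Preadditive.add_comp, hx, zero_comp]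
    obtain ⟨T₁, π₁, _, k', x', e₁, e₂⟩ := column φ p₀ p m hp₀ _ _ c₁ c₂
    subst hn hp₀
    let k₁ := k' ≫ K.ιTotal cZ (p₀ + 1) m (n₀ + 1) hp
    let x₁ := x' ≫ L.ιTotal cZ p₀ m n₀ (by change p₀ + m = n₀; omega)
    have hk₁ : ∀ p' q' (h' : p' + q' = n₀ + 1), q' ≠ m → k₁ ≫ proj K p' q' (n₀ + 1) h' = 0 :=
      fun p' q' h' hne => by
        simp only [k₁, assoc]; rw [ι_proj_ne K _ _ _ _ _ _ _ (Ne.symm hne), comp_zero]
    have hx₁ : ∀ p' q' (h' : p' + q' = n₀), q' ≠ m → x₁ ≫ proj L p' q' n₀ h' = 0 :=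
      fun p' q' h' hne => by
        simp only [x₁, assoc]; rw [ι_proj_ne L _ _ _ _ _ _ _ (Ne.symm hne), comp_zero]
    let k₂ := π₁ ≫ k + k₁ ≫ (K.total cZ).d (n₀ + 1) (n₀ + 1 + 1)
    let x₂ := π₁ ≫ x - k₁ ≫ (Φ).f (n₀ + 1) - x₁ ≫ (L.total cZ).d n₀ (n₀ + 1)
    have hk₂ : ∀ p' q' (h' : p' + q' = n₀ + 1 + 1), q' < m + 1 →
        k₂ ≫ proj K p' q' (n₀ + 1 + 1) h' = 0 := by
      intro p' q' h' hq'
      obtain ⟨p'', rfl⟩ : ∃ p'', p' = p'' + 1 := ⟨p' - 1, by omega⟩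
      simp only [k₂, Preadditive.add_comp, assoc]
      rw [comp_d_proj K p'' q' (n₀ + 1) (by omega) k₁ (fun p₂ q₂ h₂ hlt => hk₁ p₂ q₂ h₂ (by omega))]
      by_cases hqm : q' = m
      · subst hqm
        obtain rfl : p'' = p₀ + 1 := by omega
        simp only [k₁, assoc]
        rw [e₁, ← assoc (K.ιTotal cZ _ _ _ _), ι_proj, id_comp]
        exact neg_add_cancel _
      · rw [hk0 _ _ h' (by omega), comp_zero, zero_add, ← assoc, hk₁ _ _ _ hqm, zero_comp]
    have hx₂ : ∀ p' q' (h' : p' + q' = n₀ + 1), q' < m + 1 →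
        x₂ ≫ proj L p' q' (n₀ + 1) h' = 0 := by
      intro p' q' h' hq'
      obtain ⟨p'', rfl⟩ : ∃ p'', p' = p'' + 1 := ⟨p' - 1, by omega⟩
      simp only [x₂, Preadditive.sub_comp, assoc]
      rw [comp_d_proj L p'' q' n₀ (by omega) x₁ (fun p₂ q₂ h₂ hlt => hx₁ p₂ q₂ h₂ (by omega)),
        map_proj]
      by_cases hqm : q' = m
      · subst hqm
        obtain rfl : p'' = p₀ := by omega
        simp only [k₁, x₁, assoc]
        rw [e₂, ← assoc (K.ιTotal cZ _ _ _ _), ι_proj, id_comp, ← assoc (L.ιTotal cZ _ _ _ _),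
          ι_proj, id_comp]
        abel
      · rw [hx0 _ _ h' (by omega), comp_zero, ← assoc, hk₁ _ _ _ hqm, zero_comp, ← assoc,
          hx₁ _ _ _ hqm, zero_comp]
        simp
    clear_value k₁ x₁
    obtain ⟨T₂, π₂, _, k'', x'', f₁, f₂⟩ := ih (m + 1) (by omega) k₂ x₂
      (by simp [k₂, hk])
      (by
        simp only [k₂, x₂, Preadditive.add_comp, Preadditive.sub_comp, assoc,
          HomologicalComplex.d_comp_d, comp_zero, sub_zero, HomologicalComplex.Hom.comm]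
        rw [eq_neg_of_add_eq_zero_left hx, Preadditive.comp_neg]
        abel)
      hk₂ hx₂
    refine ⟨T₂, π₂ ≫ π₁, inferInstance, k'' + π₂ ≫ k₁, x'' + π₂ ≫ x₁, ?_, ?_⟩
    · simp only [k₂, Preadditive.comp_add] at f₁
      rw [← eq_sub_iff_add_eq] at f₁
      rw [assoc, f₁, Preadditive.add_comp, assoc]
      abel
    · simp only [x₂, Preadditive.comp_sub] at f₂
      rw [sub_eq_iff_eq_add, sub_eq_iff_eq_add] at f₂
      rw [assoc, f₂, Preadditive.add_comp, Preadditive.add_comp, assoc, assoc]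
      abel

include a b hK hL in
theorem quasiIso_total_map [QuasiIso φ] : QuasiIso (Φ) := by
  have key : ∀ (n₀ n : ℤ) (_ : n₀ + 1 = n) {T : A} (k : T ⟶ (K.total cZ).X (n + 1))
      (x : T ⟶ (L.total cZ).X n) (_ : k ≫ (K.total cZ).d (n + 1) (n + 1 + 1) = 0)
      (_ : k ≫ (Φ).f (n + 1) + x ≫ (L.total cZ).d n (n + 1) = 0),
      ∃ (T' : A) (π : T' ⟶ T) (_ : Epi π) (k' : T' ⟶ (K.total cZ).X n)
        (x' : T' ⟶ (L.total cZ).X n₀),
        π ≫ k = - (k' ≫ (K.total cZ).d n (n + 1)) ∧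
        π ≫ x = k' ≫ (Φ).f n + x' ≫ (L.total cZ).d n₀ n := fun n₀ n hn T k x h₁ h₂ =>
    cone_exact φ a b hK hL n₀ n hn (n - a + 2 - b).toNat b (by omega) k x h₁ h₂
      (fun p q _ hq => (hK p q (Or.inr hq)).eq_of_tgt _ _)
      (fun p q _ hq => (hL p q (Or.inr hq)).eq_of_tgt _ _)
  refine ⟨fun j => ?_⟩
  rw [quasiIsoAt_iff_isIso_homologyMap]
  obtain ⟨j₀, rfl⟩ : ∃ j₀, j = j₀ + 1 := ⟨j - 1, by omega⟩
  have hm : Mono (HomologicalComplex.homologyMap (Φ) (j₀ + 1)) := by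
    rw [HomologicalComplex.mono_homologyMap_iff_up_to_refinements (Φ) j₀ (j₀ + 1) (j₀ + 1 + 1)
      (by simp) (by simp)]
    intro T k hk y hy
    obtain ⟨T', π, _, k', x', e₁, -⟩ := key (j₀ - 1) j₀ (by omega) k (-y) hk
      (by rw [Preadditive.neg_comp, hy, add_neg_cancel])
    exact ⟨T', π, inferInstance, -k', by rw [e₁, Preadditive.neg_comp]⟩
  have he : Epi (HomologicalComplex.homologyMap (Φ) (j₀ + 1)) := by
    rw [HomologicalComplex.epi_homologyMap_iff_up_to_refinements (Φ) j₀ (j₀ + 1) (j₀ + 1 + 1)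
      (by simp) (by simp)]
    intro T z hz
    obtain ⟨T', π, _, k', x', e₁, e₂⟩ := key j₀ (j₀ + 1) rfl (0 : T ⟶ _) z
      (by simp) (by rw [zero_comp, zero_add, hz])
    refine ⟨T', π, inferInstance, k', ?_, x', e₂⟩
    rw [comp_zero, eq_comm, neg_eq_zero] at e₁
    exact e₁
  exact isIso_of_mono_of_epi _

end

end Groth.Agent.DSites.TotQIso
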